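import Mathlib
import Cfsg.Agent.Lib.ProductSet
set_option linter.all false

/-!
S1773, case q = 8, N(E)/C(E) = L3(2): general facts on 2-elements, conjugacy inside cosets.
-/

set_option autoImplicit false
set_option linter.style.haveILetI false
set_option linter.unusedSectionVars false

namespace Cfsg.Agent.StdL2.G23Coset

variable {G : Type*} [Group G]

theorem card_sup_mul_card_inf {H N : Subgroup G} (h : H ≤ Subgroup.normalizer (N : Set G)) :
    Nat.card ↥(H ⊔ N) * Nat.card ↥(H ⊓ N) = Nat.card H * Nat.card N := by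
  rw [← Cfsg.Agent.Lib.ProductSet.card_mul_card_inf H N]
  congr 1
  have := Subgroup.coe_mul_of_left_le_normalizer_right H N h
  exact Nat.card_congr (Equiv.setCongr this)

theorem mem_sup_iff {H N : Subgroup G} (h : H ≤ Subgroup.normalizer (N : Set G)) {g : G} :
    g ∈ H ⊔ N ↔ ∃ x ∈ H, ∃ y ∈ N, x * y = g := by
  have := Subgroup.coe_mul_of_left_le_normalizer_right H N h
  rw [← SetLike.mem_coe, this, Set.mem_mul]
  rfl

/-- `g` is a 2-element -/
def TwoEl (g : G) : Prop := IsPGroup 2 (Subgroup.zpowers g)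

theorem TwoEl.of_pow {g : G} {n : ℕ} (h : g ^ 2 ^ n = 1) : TwoEl g := by
  haveI : Fact (Nat.Prime 2) := ⟨Nat.prime_two⟩
  rintro ⟨x, k, rfl⟩
  refine ⟨n, ?_⟩
  apply Subtype.ext
  change (g ^ k) ^ 2 ^ n = 1
  rw [← zpow_natCast, zpow_comm, zpow_natCast, h, one_zpow]

theorem TwoEl.of_mem {P : Subgroup G} (hP : IsPGroup 2 P) {g : G} (h : g ∈ P) : TwoEl g := by
  obtain ⟨n, hn⟩ := hP ⟨g, h⟩
  exact TwoEl.of_pow (n := n) (congrArg Subtype.val hn)

theorem TwoEl.pow {g : G} (h : TwoEl g) : ∃ n, g ^ 2 ^ n = 1 := by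
  obtain ⟨n, hn⟩ := h ⟨g, Subgroup.mem_zpowers g⟩
  exact ⟨n, congrArg Subtype.val hn⟩

theorem TwoEl.conj {g : G} (h : TwoEl g) (x : G) : TwoEl (x * g * x⁻¹) := by
  obtain ⟨n, hn⟩ := h.pow
  exact TwoEl.of_pow (n := n) (by rw [conj_pow, hn]; group)

theorem TwoEl.of_sq {g : G} (h : g * g = 1) : TwoEl g :=
  TwoEl.of_pow (n := 1) (by rw [pow_one, pow_two]; exact h)

theorem isPGroup_sup {E R : Subgroup G} (hE : IsPGroup 2 E) (hR : IsPGroup 2 R)
    (h : R ≤ Subgroup.normalizer (E : Set G)) : IsPGroup 2 (E ⊔ R : Subgroup G) :=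
  hE.to_sup_of_normal_left' hR h

variable [Finite G]

/-- A 2-subgroup of odd index containing a 2-group normalised... : a normal 2-subgroup of odd index
contains all 2-subgroups. -/
theorem le_of_normal {E C R : Subgroup G} (hE : IsPGroup 2 E) (hEC : E ≤ C)
    (hCE : C ≤ Subgroup.normalizer (E : Set G)) (hidx : ¬ 2 ∣ E.relIndex C) (hR : IsPGroup 2 R)
    (hRC : R ≤ C) : R ≤ E := by
  haveI : Fact (Nat.Prime 2) := ⟨Nat.prime_two⟩
  have h1 : IsPGroup 2 (E ⊔ R : Subgroup G) := isPGroup_sup hE hR (hRC.trans hCE)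
  have h2 : E.relIndex (E ⊔ R) ∣ E.relIndex C :=
    ⟨_, (Subgroup.relIndex_mul_relIndex E (E ⊔ R) C le_sup_left (sup_le hEC hRC)).symm⟩
  obtain ⟨n, hn⟩ := h1.index (E.subgroupOf (E ⊔ R))
  have h3 : E.relIndex (E ⊔ R) = 2 ^ n := hn
  have h4 : n = 0 := by
    by_contra h0
    exact hidx ((dvd_pow_self 2 h0).trans (h3 ▸ h2))
  rw [h4, pow_zero] at h3
  exact le_sup_right.trans (Subgroup.relIndex_eq_one.1 h3)

theorem mem_of_normal {E C : Subgroup G} (hE : IsPGroup 2 E) (hEC : E ≤ C)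
    (hCE : C ≤ Subgroup.normalizer (E : Set G)) (hidx : ¬ 2 ∣ E.relIndex C) {g : G}
    (hg : TwoEl g) (hgC : g ∈ C) : g ∈ E :=
  le_of_normal hE hEC hCE hidx hg (by rwa [Subgroup.zpowers_le]) (Subgroup.mem_zpowers g)

/-- A 2-element of `B` is conjugate in `B` into a 2-subgroup `S` of odd index. -/
theorem exists_conj_mem {B S : Subgroup G} (hS : IsPGroup 2 S) (hSB : S ≤ B)
    (hidx : ¬ 2 ∣ S.relIndex B) {R : Subgroup G} (hR : IsPGroup 2 R) (hRB : R ≤ B) :
    ∃ b ∈ B, ∀ r ∈ R, b * r * b⁻¹ ∈ S := by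
  haveI : Fact (Nat.Prime 2) := ⟨Nat.prime_two⟩
  have hS' : IsPGroup 2 (S.subgroupOf B) :=
    hS.of_equiv (Subgroup.subgroupOfEquivOfLe hSB).symm
  let P : Sylow 2 B := hS'.toSylow hidx
  have hR' : IsPGroup 2 (R.subgroupOf B) :=
    hR.of_equiv (Subgroup.subgroupOfEquivOfLe hRB).symm
  obtain ⟨Q, hQ⟩ := hR'.exists_le_sylow
  obtain ⟨b, hb⟩ := MulAction.exists_smul_eq B Q P
  refine ⟨b, b.2, fun r hr => ?_⟩
  have h1 : (⟨r, hRB hr⟩ : B) ∈ (Q : Subgroup B) := hQ (Subgroup.mem_subgroupOf.2 hr)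
  have h2 : b * ⟨r, hRB hr⟩ * b⁻¹ ∈ (P : Subgroup B) := by
    rw [← hb]
    exact ⟨⟨r, hRB hr⟩, h1, rfl⟩
  exact Subgroup.mem_subgroupOf.1 h2

theorem relIndex_eq_of_card {S B C E : Subgroup G} (hSB : S ≤ B) (hEC : E ≤ C)
    (h : Nat.card B * Nat.card E = Nat.card C * Nat.card S) : S.relIndex B = E.relIndex C := by
  have h1 : Nat.card S * S.relIndex B = Nat.card B := by
    rw [← Nat.card_congr (Subgroup.subgroupOfEquivOfLe hSB).toEquiv]
    exact Subgroup.card_mul_index _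
  have h2 : Nat.card E * E.relIndex C = Nat.card C := by
    rw [← Nat.card_congr (Subgroup.subgroupOfEquivOfLe hEC).toEquiv]
    exact Subgroup.card_mul_index _
  have h3 : 0 < Nat.card S := Nat.card_pos
  have h4 : 0 < Nat.card E := Nat.card_pos
  rw [← h1, ← h2] at h
  have h5 : Nat.card S * Nat.card E * S.relIndex B = Nat.card S * Nat.card E * E.relIndex C := by
    linarith
  exact Nat.eq_of_mul_eq_mul_left (Nat.mul_pos h3 h4) h5

/-- Conjugacy of 2-elements in a coset of `C`, when `C` has a normal Sylow 2-subgroup `E`. -/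
theorem exists_conj_coset {C E : Subgroup G} (hEC : E ≤ C)
    (hCE : C ≤ Subgroup.normalizer (E : Set G)) (hE : IsPGroup 2 E) (hidx : ¬ 2 ∣ E.relIndex C)
    {w w1 : G} (hw : TwoEl w) (hw1 : TwoEl w1) (hwC : w ∈ Subgroup.normalizer (C : Set G))
    (hwE : w ∈ Subgroup.normalizer (E : Set G)) (h : w⁻¹ * w1 ∈ C) :
    ∃ c ∈ C, ∃ e ∈ E, c * w1 * c⁻¹ = w * e := by
  haveI : Fact (Nat.Prime 2) := ⟨Nat.prime_two⟩
  have hzE : Subgroup.zpowers w ≤ Subgroup.normalizer (E : Set G) := by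
    rwa [Subgroup.zpowers_le]
  have hzC : Subgroup.zpowers w ≤ Subgroup.normalizer (C : Set G) := by
    rwa [Subgroup.zpowers_le]
  have hS : IsPGroup 2 (Subgroup.zpowers w ⊔ E : Subgroup G) := by
    rw [sup_comm]
    exact isPGroup_sup hE hw hzE
  have hSB : Subgroup.zpowers w ⊔ E ≤ Subgroup.zpowers w ⊔ C := sup_le_sup_left hEC _
  have hinf : (Subgroup.zpowers w ⊓ C : Subgroup G) = Subgroup.zpowers w ⊓ E := by
    apply le_antisymm
    · refine le_inf inf_le_left ?_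
      exact le_of_normal hE hEC hCE hidx (hw.to_le inf_le_left) inf_le_right
    · exact inf_le_inf_left _ hEC
  have hidx' : ¬ 2 ∣ (Subgroup.zpowers w ⊔ E : Subgroup G).relIndex (Subgroup.zpowers w ⊔ C) := by
    rw [relIndex_eq_of_card (C := C) (E := E) hSB hEC]
    · exact hidx
    have h1 := card_sup_mul_card_inf hzC
    have h2 := card_sup_mul_card_inf hzE
    rw [hinf] at h1
    have h3 : 0 < Nat.card (Subgroup.zpowers w ⊓ E : Subgroup G) := Nat.card_pos
    have h5 : Nat.card (Subgroup.zpowers w ⊓ E : Subgroup G) *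
          (Nat.card ↥(Subgroup.zpowers w ⊔ C) * Nat.card E) =
        Nat.card (Subgroup.zpowers w ⊓ E : Subgroup G) *
          (Nat.card C * Nat.card ↥(Subgroup.zpowers w ⊔ E)) := by
      calc _ = (Nat.card ↥(Subgroup.zpowers w ⊔ C) *
                Nat.card (Subgroup.zpowers w ⊓ E : Subgroup G)) * Nat.card E := by ring
        _ = (Nat.card (Subgroup.zpowers w) * Nat.card C) * Nat.card E := by rw [h1]
        _ = (Nat.card (Subgroup.zpowers w) * Nat.card E) * Nat.card C := by ring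
        _ = (Nat.card ↥(Subgroup.zpowers w ⊔ E) *
                Nat.card (Subgroup.zpowers w ⊓ E : Subgroup G)) * Nat.card C := by rw [h2]
        _ = _ := by ring
    exact Nat.eq_of_mul_eq_mul_left h3 h5
  have hw1B : w1 ∈ Subgroup.zpowers w ⊔ C := by
    have : w1 = w * (w⁻¹ * w1) := by group
    rw [this]
    exact Subgroup.mul_mem _ (Subgroup.mem_sup_left (Subgroup.mem_zpowers w))
      (Subgroup.mem_sup_right h)
  obtain ⟨b, hb, hbw⟩ := exists_conj_mem hS hSB hidx' hw1 (by rwa [Subgroup.zpowers_le])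
  obtain ⟨p, hp, c, hc, rfl⟩ := (mem_sup_iff hzC).1 hb
  have h1 := hbw w1 (Subgroup.mem_zpowers w1)
  have hpS : p ∈ Subgroup.zpowers w ⊔ E := Subgroup.mem_sup_left hp
  have h2 : c * w1 * c⁻¹ ∈ Subgroup.zpowers w ⊔ E := by
    have e : c * w1 * c⁻¹ = p⁻¹ * (p * c * w1 * (p * c)⁻¹) * p := by group
    rw [e]
    exact Subgroup.mul_mem _ (Subgroup.mul_mem _ (Subgroup.inv_mem _ hpS) h1) hpS
  obtain ⟨x, hx, e, he, hxe⟩ := (mem_sup_iff hzE).1 h2
  refine ⟨c, hc, w⁻¹ * (c * w1 * c⁻¹), ?_, by group⟩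
  have h3 : w⁻¹ * (c * w1 * c⁻¹) ∈ C := by
    have e1 : w⁻¹ * (c * w1 * c⁻¹) = (w⁻¹ * c * w⁻¹⁻¹) * (w⁻¹ * w1) * c⁻¹ := by group
    rw [e1]
    refine C.mul_mem (C.mul_mem ?_ h) (C.inv_mem hc)
    exact (Subgroup.mem_normalizer_iff.1 (Subgroup.inv_mem _ hwC) c).1 hc
  refine mem_of_normal hE hEC hCE hidx ?_ h3
  refine TwoEl.of_mem hS ?_
  exact Subgroup.mul_mem _ (Subgroup.inv_mem _ (Subgroup.mem_sup_left (Subgroup.mem_zpowers w))) h2

/-- Orbit-stabiliser for conjugation by a subgroup. -/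
theorem ncard_conj (K : Subgroup G) (x : G) :
    {y | ∃ k ∈ K, k * x * k⁻¹ = y}.ncard * Nat.card (K ⊓ Subgroup.centralizer {x} : Subgroup G) =
      Nat.card K := by
  letI : MulAction K G := MulAction.compHom G (MulAut.conj.comp K.subtype)
  have hsm : ∀ (k : K) (y : G), k • y = (k : G) * y * (k : G)⁻¹ := fun k y => rfl
  have h1 : MulAction.orbit K x = {y | ∃ k ∈ K, k * x * k⁻¹ = y} := by
    ext y
    constructor
    · rintro ⟨k, rfl⟩
      exact ⟨k, k.2, rfl⟩
    · rintro ⟨k, hk, rfl⟩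
      exact ⟨⟨k, hk⟩, rfl⟩
  have h2 := Nat.card_congr (MulAction.orbitEquivQuotientStabilizer K x)
  have h3 := (MulAction.stabilizer K x).card_mul_index
  have h4 : Nat.card (MulAction.stabilizer K x) =
      Nat.card (K ⊓ Subgroup.centralizer {x} : Subgroup G) := by
    rw [← Subgroup.card_map_of_injective (f := K.subtype) K.subtype_injective]
    congr 2
    ext y
    rw [Subgroup.mem_map, Subgroup.mem_inf, Subgroup.mem_centralizer_singleton_iff]
    constructor
    · rintro ⟨k, hk, rfl⟩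
      refine ⟨k.2, ?_⟩
      have : (k : G) * x * (k : G)⁻¹ = x := MulAction.mem_stabilizer_iff.1 hk
      exact mul_inv_eq_iff_eq_mul.1 this
    · rintro ⟨hy, hyx⟩
      refine ⟨⟨y, hy⟩, ?_, rfl⟩
      rw [MulAction.mem_stabilizer_iff, hsm]
      exact mul_inv_eq_iff_eq_mul.2 hyx
  rw [h1] at h2
  rw [← h4, ← h3, mul_comm]
  congr 1

theorem ncard_coset (V : Subgroup G) (t : G) : {y | ∃ v ∈ V, y = t * v}.ncard = Nat.card V := by
  have h1 : {y | ∃ v ∈ V, y = t * v} = (fun v => t * v) '' (V : Set G) := by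
    ext y
    constructor
    · rintro ⟨v, hv, rfl⟩; exact ⟨v, hv, rfl⟩
    · rintro ⟨v, hv, rfl⟩; exact ⟨v, hv, rfl⟩
  rw [h1, Set.ncard_image_of_injective _ (mul_right_injective t)]
  rfl

/-- the order of a 2-subgroup divides the order of the group, and is a power of 2 -/
theorem card_dvd_pow {P H : Subgroup G} (hP : IsPGroup 2 P) (hPH : P ≤ H) {k : ℕ}
    (hH : ¬ 2 ^ (k + 1) ∣ Nat.card H) : Nat.card P ∣ 2 ^ k := by
  haveI : Fact (Nat.Prime 2) := ⟨Nat.prime_two⟩
  obtain ⟨n, hn⟩ := IsPGroup.iff_card.1 hP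
  rw [hn]
  apply pow_dvd_pow
  by_contra hcon
  push Not at hcon
  apply hH
  refine Dvd.dvd.trans ?_ (Subgroup.card_dvd_of_le hPH)
  rw [hn]
  exact pow_dvd_pow 2 hcon

/-- counting by fibres -/
theorem card_le_mul_of_fibers {A B : Type*} [Finite A] [Finite B] (f : A → B) (n : ℕ)
    (h : ∀ a : A, Nat.card {x : A // f x = f a} ≤ n) : Nat.card A ≤ Nat.card B * n := by
  classical
  haveI := Fintype.ofFinite A
  haveI := Fintype.ofFinite B
  rw [Nat.card_eq_fintype_card, Nat.card_eq_fintype_card]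
  have h1 : (Finset.univ : Finset A).card ≤ n * (Finset.univ : Finset B).card := by
    apply Finset.card_le_mul_card_image_of_maps_to (f := f) (fun a _ => Finset.mem_univ _)
    intro b _
    by_cases hb : ∃ a, f a = b
    · obtain ⟨a, rfl⟩ := hb
      have h2 := h a
      rw [Nat.card_eq_fintype_card, Fintype.card_subtype] at h2
      exact h2
    · rw [Finset.filter_eq_empty_iff.2]
      · simp
      · intro a _ ha
        exact hb ⟨a, ha⟩
  rw [Finset.card_univ, Finset.card_univ, mul_comm] at h1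
  exact h1

end Cfsg.Agent.StdL2.G23Coset
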