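import Mathlib
import Cfsg.Agent.StdL2.FTTower_m3
import Cfsg.Agent.S0213
import Cfsg.Agent.StdL2.Assemble_m3
import Cfsg.Agent.StdRank2.OutField
import Cfsg.Agent.LieRecognition.FieldSemilinear
import Cfsg.Agent.StdU3.EndLie
import Cfsg.Agent.S0243
import Cfsg.Agent.StdL2.JOne
import Cfsg.Agent.S0215
import Cfsg.Agent.TwoFusion.IndexTwo
import Cfsg.Agent.TwoFusion.SLTwoFacts
import Cfsg.Agent.StdU3.TransferTE
import Cfsg.Agent.StdSz.EndClosed
import Cfsg.Agent.FastGrp
import Cfsg.Agent.Prune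
set_option linter.all false

section
prune_inst 0x7ffcbcf9afb829dedfff7e7ff6dccffc19949ffff6dff94bbfe0a1ef8bdf030229c52b8d8de018fe0ee2623400b87843f97eceffea6bdc7ffffd5df41ffbee0fe5f7b50851d080240fbc0ff603f0778e7f3fffffffffffffffffffffffffffbeffbfffffffff

-- part: StdL2/FWreath
section
prune_inst 0x243020040940100000180080310002441400009200000000008104400000800004020000042000105008030000010048131000100000000000200000000401000008000040810000000000000084000000000000000000000000000000000004000000000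
set_option linter.all false
open scoped Cfsg.Agent.FastGrp

-- part: StdL2/EOneXC
section
/-!
# S1773, case (f): construction of helper806's configuration `XC`

`Pre`: a group `X` acting faithfully on an elementary abelian 2-group `W`, `t` an involution,
`V = C_W(t)` of order `q`, `δ` of order dividing `q - 1` commuting with `t`, `⟨δ⟩` regular on `V#`,
`⟨δ⟩` normal in `C(t)`, `C(t) ∩ C(δ) = ⟨t, δ⟩`, `f` a further involution of `C(t)`.
`Pre.exists_XC`: the coordinates.
-/

set_option autoImplicit false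
set_option linter.unusedSectionVars false
set_option linter.style.haveILetI false

namespace Cfsg.Agent.StdL2.EOneXC

open Cfsg.Agent.StdL2.F
open Cfsg.Agent.StdL2.F.XC (rho rho_apply)

universe u v

variable {X : Type v} {W : Type u} [Group X] [AddCommGroup W] [DistribMulAction X W]

/-- the input -/
structure Pre (V : AddSubgroup W) (q : ℕ) (t δ f : X) : Prop where
  faithful : ∀ x : X, (∀ w : W, x • w = w) → x = 1
  two : ∀ w : W, w + w = 0
  fixV : ∀ w : W, t • w = w ↔ w ∈ V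
  t1 : t ≠ 1
  tt : t * t = 1
  td : t * δ = δ * t
  q2 : ∃ a : ℕ, q = 2 ^ a
  q16 : 16 ≤ q
  cardV : Nat.card V = q
  dq : δ ^ (q - 1) = 1
  reg : ∀ v ∈ V, v ≠ 0 → ∀ u ∈ V, u ≠ 0 → ∃ j : ℕ, δ ^ j • v = u
  ff : f * f = 1
  tf : t * f = f * t
  f1 : f ≠ 1
  ft : f ≠ t
  norm : ∀ x : X, x * t = t * x → ∃ j : ℕ, x * δ = δ ^ j * x
  cent : ∀ x : X, x * t = t * x → x * δ = δ * x → ∃ j : ℕ, x = δ ^ j ∨ x = δ ^ j * t

namespace Pre

variable {V : AddSubgroup W} {q : ℕ} {t δ f : X}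

theorem rho_inj (P : Pre V q t δ f) : Function.Injective (rho X W) := by
  intro x y h
  have h1 : x⁻¹ * y = 1 := by
    apply P.faithful
    intro w
    have : x • w = y • w := DFunLike.congr_fun h w
    rw [mul_smul, ← this, inv_smul_smul]
  exact (inv_mul_eq_one.mp h1)

theorem tw_mem (P : Pre V q t δ f) (w : W) : t • w + w ∈ V := by
  rw [← P.fixV, smul_add, smul_smul, P.tt, one_smul, add_comm]

theorem exists_notMem (P : Pre V q t δ f) : ∃ w : W, w ∉ V := by
  by_contra hcon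
  push Not at hcon
  exact P.t1 (P.faithful t fun w => (P.fixV w).2 (hcon w))

theorem exists_v (P : Pre V q t δ f) : ∃ v ∈ V, v ≠ 0 := by
  by_contra hcon
  push Not at hcon
  have h1 : V = ⊥ := (AddSubgroup.eq_bot_iff_forall V).2 hcon
  have h2 := P.cardV
  have h3 := P.q16
  rw [h1, AddSubgroup.card_bot] at h2
  omega

theorem end_two (P : Pre V q t δ f) : (2 : AddMonoid.End W) = 0 := by
  have h : (1 + 1 : AddMonoid.End W) = 0 := by
    ext w
    exact P.two w
  rw [← one_add_one_eq_two, h]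

theorem end_charP (P : Pre V q t δ f) : CharP (AddMonoid.End W) 2 := by
  refine CharTwo.of_one_ne_zero_of_two_eq_zero ?_ P.end_two
  intro h
  obtain ⟨v, _, hv⟩ := P.exists_v
  exact hv (DFunLike.congr_fun h v)

/-- the ring generated by `δ` -/
theorem closure_spec (P : Pre V q t δ f) {s : AddMonoid.End W}
    (hs : s ∈ Subring.closure {rho X W δ}) :
    s * rho X W t = rho X W t * s ∧ s * rho X W δ = rho X W δ * s ∧ s ^ q = s := by
  haveI := P.end_charP
  haveI : Fact (Nat.Prime 2) := ⟨Nat.prime_two⟩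
  obtain ⟨a, ha⟩ := P.q2
  have hcomm : ∀ x y : AddMonoid.End W, x ∈ Subring.closure {rho X W δ} →
      y ∈ Subring.closure {rho X W δ} → x * y = y * x := by
    intro x y hx hy
    have h1 : Subring.closure {rho X W δ} ≤ Subring.centralizer {rho X W δ} := by
      rw [Subring.closure_le, Set.singleton_subset_iff, SetLike.mem_coe,
        Subring.mem_centralizer_iff]
      intro g hg
      rw [Set.mem_singleton_iff.1 hg]
    have h2 : Subring.closure {rho X W δ} ≤ Subring.centralizer {x} := by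
      rw [Subring.closure_le, Set.singleton_subset_iff, SetLike.mem_coe,
        Subring.mem_centralizer_iff]
      intro g hg
      rw [Set.mem_singleton_iff.1 hg]
      exact (Subring.mem_centralizer_iff.1 (h1 hx) _ rfl).symm
    exact Subring.mem_centralizer_iff.1 (h2 hy) _ rfl
  induction hs using Subring.closure_induction with
  | mem x hx =>
    rw [Set.mem_singleton_iff] at hx
    subst hx
    refine ⟨?_, rfl, ?_⟩
    · rw [← map_mul, ← map_mul, P.td]
    · rw [← map_pow]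
      congr 1
      have h1 : δ ^ q = δ ^ (q - 1) * δ := by
        rw [← pow_succ]; congr 1
        have := P.q16; omega
      rw [h1, P.dq, one_mul]
  | zero =>
    refine ⟨by rw [zero_mul, mul_zero], by rw [zero_mul, mul_zero], ?_⟩
    exact zero_pow (by have := P.q16; omega)
  | one => exact ⟨by rw [one_mul, mul_one], by rw [one_mul, mul_one], one_pow q⟩
  | add x y hx hy ihx ihy =>
    refine ⟨by rw [add_mul, mul_add, ihx.1, ihy.1], by rw [add_mul, mul_add, ihx.2.1, ihy.2.1], ?_⟩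
    have h1 : Commute x y := hcomm x y hx hy
    have h2 := add_pow_char_pow_of_commute 2 a h1
    rw [← ha] at h2
    rw [h2, ihx.2.2, ihy.2.2]
  | neg x hx ih =>
    have h1 : -x = x := neg_eq_of_add_eq_zero_left (by
      ext w; exact P.two (x w))
    rw [h1]; exact ih
  | mul x y hx hy ihx ihy =>
    refine ⟨?_, ?_, ?_⟩
    · rw [mul_assoc, ihy.1, ← mul_assoc, ihx.1, mul_assoc]
    · rw [mul_assoc, ihy.2.1, ← mul_assoc, ihx.2.1, mul_assoc]
    · rw [(show Commute x y from hcomm x y hx hy).mul_pow, ihx.2.2, ihy.2.2]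

/-- an element commuting with `t`, `δ`, with `s ^ q = s`, killing a vector of `V#`, is `0` -/
theorem eq_zero (P : Pre V q t δ f) {s : AddMonoid.End W}
    (h1 : s * rho X W t = rho X W t * s) (h2 : s * rho X W δ = rho X W δ * s) (h3 : s ^ q = s)
    {v : W} (hv : v ∈ V) (hv0 : v ≠ 0) (hs : s v = 0) : s = 0 := by
  have hV : ∀ u ∈ V, s u = 0 := by
    intro u hu
    by_cases hu0 : u = 0
    · rw [hu0, map_zero]
    obtain ⟨j, rfl⟩ := P.reg v hv hv0 u hu hu0
    have h4 : s * rho X W δ ^ j = rho X W δ ^ j * s :=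
      ((show Commute s (rho X W δ) from h2).pow_right j)
    have h5 := DFunLike.congr_fun h4 v
    rw [← map_pow] at h5
    change s (δ ^ j • v) = δ ^ j • (s v) at h5
    rw [h5, hs, smul_zero]
  have hW : ∀ w, s (s w) = 0 := by
    intro w
    apply hV
    have h4 := hV _ (P.tw_mem w)
    rw [map_add] at h4
    have h5 : s (t • w) = t • s w := DFunLike.congr_fun h1 w
    rw [h5] at h4
    rw [← P.fixV]
    have h6 := eq_neg_of_add_eq_zero_left h4
    rwa [neg_eq_of_add_eq_zero_left (P.two (s w))] at h6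
  have h4 : s * s = 0 := by
    ext w; exact hW w
  have h5 : s ^ q = 0 := by
    have : q = 2 + (q - 2) := by have := P.q16; omega
    rw [this, pow_add, pow_two, h4, zero_mul]
  rw [← h3, h5]

theorem mem_closure (P : Pre V q t δ f) {s : AddMonoid.End W}
    (hs : s ∈ Subring.closure {rho X W δ}) : s = 0 ∨ ∃ j : ℕ, s = rho X W (δ ^ j) := by
  obtain ⟨v, hv, hv0⟩ := P.exists_v
  obtain ⟨h1, h2, h3⟩ := P.closure_spec hs
  by_cases hsv : s v = 0
  · exact Or.inl (P.eq_zero h1 h2 h3 hv hv0 hsv)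
  right
  have hsV : s v ∈ V := by
    rw [← P.fixV]
    have h5 : s (t • v) = t • s v := DFunLike.congr_fun h1 v
    rw [← h5, (P.fixV v).2 hv]
  obtain ⟨j, hj⟩ := P.reg v hv hv0 _ hsV hsv
  refine ⟨j, ?_⟩
  have hmem : s - rho X W (δ ^ j) ∈ Subring.closure {rho X W δ} := by
    refine Subring.sub_mem _ hs ?_
    rw [map_pow]
    exact Subring.pow_mem _ (Subring.subset_closure (Set.mem_singleton _)) j
  obtain ⟨k1, k2, k3⟩ := P.closure_spec hmem
  have := P.eq_zero k1 k2 k3 hv hv0 (by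
    change s v - (δ ^ j • v) = 0
    rw [hj, sub_self])
  exact sub_eq_zero.1 this

/-- the ring `{0} ∪ ⟨δ⟩` -/
def SS (P : Pre V q t δ f) : Subring (AddMonoid.End W) where
  carrier := {s | s = 0 ∨ ∃ j : ℕ, s = rho X W (δ ^ j)}
  mul_mem' := by
    rintro x y (rfl | ⟨i, rfl⟩) (rfl | ⟨j, rfl⟩)
    · left; rw [zero_mul]
    · left; rw [zero_mul]
    · left; rw [mul_zero]
    · right; exact ⟨i + j, by rw [← map_mul, pow_add]⟩
  one_mem' := Or.inr ⟨0, by rw [pow_zero, map_one]⟩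
  add_mem' := by
    intro x y hx hy
    have h : ∀ z : AddMonoid.End W, (z = 0 ∨ ∃ j : ℕ, z = rho X W (δ ^ j)) →
        z ∈ Subring.closure {rho X W δ} := by
      rintro z (rfl | ⟨j, rfl⟩)
      · exact Subring.zero_mem _
      · rw [map_pow]
        exact Subring.pow_mem _ (Subring.subset_closure (Set.mem_singleton _)) j
    exact P.mem_closure (Subring.add_mem _ (h x hx) (h y hy))
  zero_mem' := Or.inl rfl
  neg_mem' := by
    intro x hx
    have h1 : -x = x := neg_eq_of_add_eq_zero_left (by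
      ext w; exact P.two (x w))
    rw [h1]; exact hx

theorem mem_SS (P : Pre V q t δ f) {s : AddMonoid.End W} :
    s ∈ P.SS ↔ s = 0 ∨ ∃ j : ℕ, s = rho X W (δ ^ j) := Iff.rfl

theorem SS_comm (P : Pre V q t δ f) (x y : P.SS) : x * y = y * x := by
  obtain ⟨x, hx⟩ := x
  obtain ⟨y, hy⟩ := y
  apply Subtype.ext
  change x * y = y * x
  rcases P.mem_SS.1 hx with rfl | ⟨i, rfl⟩
  · rw [zero_mul, mul_zero]
  rcases P.mem_SS.1 hy with rfl | ⟨j, rfl⟩
  · rw [zero_mul, mul_zero]
  rw [← map_mul, ← map_mul, ← pow_add, ← pow_add, add_comm]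

/-- the commutative ring -/
abbrev ssRing (P : Pre V q t δ f) : CommRing P.SS :=
  { (inferInstance : Ring P.SS) with mul_comm := P.SS_comm }

theorem SS_unit (P : Pre V q t δ f) (a : P.SS) : (∃ b : P.SS, a * b = 1) ∨ a = 0 := by
  obtain ⟨x, hx⟩ := a
  rcases P.mem_SS.1 hx with rfl | ⟨i, rfl⟩
  · right; rfl
  · left
    refine ⟨⟨rho X W (δ ^ (i * (q - 2))), Or.inr ⟨_, rfl⟩⟩, ?_⟩
    apply Subtype.ext
    change rho X W (δ ^ i) * rho X W (δ ^ (i * (q - 2))) = 1
    rw [← map_mul, ← pow_add]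
    have : i + i * (q - 2) = (q - 1) * i := by
      have h16 := P.q16
      obtain ⟨r, rfl⟩ : ∃ r, q = r + 2 := ⟨q - 2, by omega⟩
      rw [Nat.add_sub_cancel, show r + 2 - 1 = r + 1 by omega]
      ring
    rw [this, pow_mul, P.dq, one_pow, map_one]

theorem SS_nontrivial (P : Pre V q t δ f) : Nontrivial P.SS := by
  refine ⟨⟨0, 1, ?_⟩⟩
  intro h
  obtain ⟨v, _, hv⟩ := P.exists_v
  rw [Subtype.ext_iff] at h
  exact hv (DFunLike.congr_fun h.symm v)

/-- the field -/
theorem exists_field [Finite W] (P : Pre V q t δ f) :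
    ∃ (F : Type u) (_ : Field F) (_ : Finite F) (κ : F →+* AddMonoid.End W),
      (∀ a : F, a ≠ 0 → ∃ j : ℕ, κ a = rho X W (δ ^ j)) ∧
      (∀ j : ℕ, ∃ a : F, κ a = rho X W (δ ^ j)) := by
  haveI := P.SS_nontrivial
  letI iC : CommRing P.SS := P.ssRing
  letI iF : Field P.SS := Field.ofIsUnitOrEqZero (fun a => by
    rcases P.SS_unit a with ⟨b, hb⟩ | h
    · exact Or.inl (IsUnit.of_mul_eq_one b hb)
    · exact Or.inr h)
  haveI : Finite (AddMonoid.End W) :=
    Finite.of_injective (fun g : AddMonoid.End W => (g : W → W)) DFunLike.coe_injective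
  refine ⟨P.SS, iF, inferInstance, P.SS.subtype, ?_, ?_⟩
  · rintro ⟨x, hx⟩ h0
    rcases P.mem_SS.1 hx with h | ⟨i, h⟩
    · exact absurd (Subtype.ext h) h0
    · exact ⟨i, h⟩
  · intro j
    exact ⟨⟨rho X W (δ ^ j), Or.inr ⟨j, rfl⟩⟩, rfl⟩

theorem conj_pow (_P : Pre V q t δ f) {x : X} {j : ℕ} (h : x * δ = δ ^ j * x) (i : ℕ) :
    x * δ ^ i = δ ^ (j * i) * x := by
  have h1 : x * δ * x⁻¹ = δ ^ j := by rw [h, mul_inv_cancel_right]
  have h2 : x * δ ^ i * x⁻¹ = (δ ^ j) ^ i := by rw [← _root_.conj_pow, h1]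
  rw [pow_mul, ← h2, inv_mul_cancel_right]

theorem eq_one_of_sq (P : Pre V q t δ f) {j : ℕ} (h : δ ^ j * δ ^ j = 1) : δ ^ j = 1 := by
  obtain ⟨a, ha⟩ := P.q2
  have h16 := P.q16
  have h1 : (δ ^ j) ^ q = 1 := by
    cases a with
    | zero => rw [pow_zero] at ha; omega
    | succ b => rw [ha, pow_succ, mul_comm, pow_mul, pow_two, h, one_pow]
  have h2 : (δ ^ j) ^ (q - 1) = 1 := by rw [← pow_mul, mul_comm, pow_mul, P.dq, one_pow]
  have h3 : (δ ^ j) ^ q = (δ ^ j) ^ (q - 1) * δ ^ j := by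
    rw [← pow_succ]; congr 1; omega
  rw [h1, h2, one_mul] at h3
  exact h3.symm

/-- **The coordinates.** -/
theorem exists_XC [Finite W] (P : Pre V q t δ f) :
    ∃ (F : Type u) (_ : Field F) (_ : Finite F) (κ : F →+* AddMonoid.End W) (d : Fˣ →* X)
      (σ : F ≃+* F) (w₁ : W), XC κ d σ t f w₁ ∧ Nat.card F = q ∧ ∃ a, d a = δ := by
  obtain ⟨F, iF, iFin, κ, hκ1, hκ2⟩ := P.exists_field
  refine ⟨F, iF, iFin, κ, ?_⟩
  obtain ⟨v0, hv0, hv00⟩ := P.exists_v
  haveI : Nontrivial (AddMonoid.End W) := ⟨⟨0, 1, fun h => hv00 (DFunLike.congr_fun h.symm v0)⟩⟩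
  have hκi : Function.Injective κ := κ.injective
  -- `d`
  have hd : ∀ a : Fˣ, ∃ x : X, rho X W x = κ a ∧ ∃ j : ℕ, x = δ ^ j := by
    intro a
    obtain ⟨j, hj⟩ := hκ1 a a.ne_zero
    exact ⟨δ ^ j, hj.symm, j, rfl⟩
  choose d0 hd0 hd0' using hd
  let d : Fˣ →* X :=
    { toFun := d0
      map_one' := P.rho_inj (by rw [hd0, Units.val_one, map_one, map_one])
      map_mul' := fun a b => P.rho_inj (by
        rw [hd0, Units.val_mul, map_mul, map_mul, hd0, hd0]) }
  have hdr : ∀ a : Fˣ, rho X W (d a) = κ a := hd0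
  have hdj : ∀ a : Fˣ, ∃ j : ℕ, d a = δ ^ j := hd0'
  have hdd : ∀ j : ℕ, ∃ a : Fˣ, d a = δ ^ j := by
    intro j
    obtain ⟨a, ha⟩ := hκ2 j
    have ha0 : a ≠ 0 := by
      rintro rfl
      rw [map_zero] at ha
      have h1 : δ ^ j • v0 = 0 := (DFunLike.congr_fun ha v0).symm
      rw [smul_eq_zero_iff_eq] at h1
      exact hv00 h1
    exact ⟨Units.mk0 a ha0, P.rho_inj (by rw [hdr]; exact ha)⟩
  -- `σ`
  obtain ⟨jf, hjf⟩ := P.norm f P.tf.symm
  have hrff : rho X W f * rho X W f = 1 := by rw [← map_mul, P.ff, map_one]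
  have hσ : ∀ a : F, ∃ b : F, rho X W f * κ a = κ b * rho X W f := by
    intro a
    by_cases ha : a = 0
    · exact ⟨0, by rw [ha, map_zero, mul_zero, zero_mul]⟩
    obtain ⟨i, hi⟩ := hκ1 a ha
    obtain ⟨b, hb⟩ := hκ2 (jf * i)
    refine ⟨b, ?_⟩
    rw [hi, hb, ← map_mul, ← map_mul, P.conj_pow hjf]
  choose σ0 hσ0 using hσ
  have hcancel : ∀ x y : AddMonoid.End W, x * rho X W f = y * rho X W f → x = y := by
    intro x y h
    have h1 := congrArg (· * rho X W f) h
    simp only [mul_assoc, hrff, mul_one] at h1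
    exact h1
  let σ1 : F →+* F :=
    { toFun := σ0
      map_one' := hκi (hcancel _ _ (by rw [← hσ0, map_one, mul_one, one_mul]))
      map_mul' := fun a b => hκi (hcancel _ _ (by
        rw [← hσ0, map_mul, map_mul, ← mul_assoc, hσ0 a, mul_assoc, hσ0 b, mul_assoc]))
      map_zero' := hκi (hcancel _ _ (by rw [← hσ0, map_zero, mul_zero, zero_mul]))
      map_add' := fun a b => hκi (hcancel _ _ (by
        rw [← hσ0, map_add, map_add, mul_add, hσ0, hσ0, add_mul])) }
  have hσ1 : ∀ a, rho X W f * κ a = κ (σ1 a) * rho X W f := hσ0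
  have hσσ : ∀ a, σ1 (σ1 a) = a := by
    intro a
    apply hκi
    have h1 : rho X W f * (rho X W f * κ a) = κ (σ1 (σ1 a)) := by
      rw [hσ1, ← mul_assoc, hσ1, mul_assoc, hrff, mul_one]
    rw [← h1, ← mul_assoc, hrff, one_mul]
  let σ : F ≃+* F := RingEquiv.ofRingHom σ1 σ1 (RingHom.ext hσσ) (RingHom.ext hσσ)
  have hσa : ∀ a, σ a = σ1 a := fun _ => rfl
  have hfσ : ∀ a, rho X W f * κ a = κ (σ a) * rho X W f := hσ1
  have hσ2 : ∀ a, σ (σ a) = a := hσσ
  -- `σ ≠ 1`
  have hsig1 : ∃ a, σ a ≠ a := by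
    by_contra hcon
    push Not at hcon
    obtain ⟨a, ha⟩ := hκ2 1
    have h1 : f * δ = δ * f := by
      apply P.rho_inj
      have h2 := hfσ a
      rw [hcon a, ha, pow_one] at h2
      rw [map_mul, map_mul, h2]
    obtain ⟨j, hj | hj⟩ := P.cent f P.tf.symm h1
    · have h3 := P.ff
      rw [hj] at h3
      exact P.f1 (hj.trans (P.eq_one_of_sq h3))
    · have h3 := P.ff
      have h4 : Commute (δ ^ j) t := ((show Commute δ t from P.td.symm).pow_left j)
      rw [hj, show δ ^ j * t * (δ ^ j * t) = (δ ^ j * δ ^ j) * (t * t) by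
        rw [mul_assoc, ← mul_assoc t, ← h4.eq, mul_assoc, mul_assoc], P.tt, mul_one] at h3
      have h5 := P.eq_one_of_sq h3
      rw [h5, one_mul] at hj
      exact P.ft hj
  -- `κ` preserves `V`
  have hκt : ∀ (a : F) (w : W), t • κ a w = κ a (t • w) := by
    intro a w
    by_cases ha : a = 0
    · rw [ha, map_zero]; exact smul_zero t
    obtain ⟨i, hi⟩ := hκ1 a ha
    rw [hi]
    change t • (δ ^ i • w) = δ ^ i • (t • w)
    rw [smul_smul, smul_smul, ((show Commute t δ from P.td).pow_right i).eq]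
  have hκV : ∀ (a : F) (v : W), v ∈ V → κ a v ∈ V := by
    intro a v hv
    rw [← P.fixV] at hv ⊢
    rw [hκt, hv]
  have hκa : ∀ (a b : F) (w : W), κ (a + b) w = κ a w + κ b w := by
    intro a b w; rw [map_add]; rfl
  have hκm : ∀ (a b : F) (w : W), κ (a * b) w = κ a (κ b w) := by
    intro a b w; rw [map_mul]; rfl
  -- `w₁`
  obtain ⟨w, hw⟩ := P.exists_notMem
  obtain ⟨w₁, hfw, hw₁⟩ : ∃ w₁ : W, f • w₁ = w₁ ∧ w₁ ∉ V := by
    by_contra hcon
    push Not at hcon
    have h1 : ∀ a : F, f • κ a w + κ a w ∈ V := by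
      intro a
      apply hcon
      rw [smul_add, smul_smul, P.ff, one_smul, add_comm]
    obtain ⟨a, ha⟩ := hsig1
    apply hw
    have h2 := h1 1
    rw [map_one] at h2
    change f • w + w ∈ V at h2
    have h3 : f • κ a w = κ (σ a) (f • w) := DFunLike.congr_fun (hfσ a) w
    have h4 := V.add_mem (h1 a) (hκV (σ a) _ h2)
    have h5 : f • κ a w + κ a w + κ (σ a) (f • w + w) = κ (a + σ a) w := by
      rw [h3, map_add, hκa]
      have h6 := P.two (κ (σ a) (f • w))
      calc κ (σ a) (f • w) + κ a w + (κ (σ a) (f • w) + κ (σ a) w)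
          = (κ (σ a) (f • w) + κ (σ a) (f • w)) + (κ a w + κ (σ a) w) := by abel
        _ = κ a w + κ (σ a) w := by rw [h6, zero_add]
    rw [h5] at h4
    have hc : a + σ a ≠ 0 := by
      intro h
      apply ha
      have h6 : κ (a + σ a) = 0 := by rw [h, map_zero]
      rw [map_add] at h6
      apply hκi
      have h7 := eq_neg_of_add_eq_zero_left h6
      have h8 : -κ (σ a) = κ (σ a) := neg_eq_of_add_eq_zero_left (by
        ext u; exact P.two _)
      rw [h8] at h7
      exact h7.symm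
    have h6 := hκV (a + σ a)⁻¹ _ h4
    rwa [← hκm, inv_mul_cancel₀ hc, map_one] at h6
  -- `v₁`
  have hv₁ : t • w₁ + w₁ ∈ V := P.tw_mem w₁
  have hv₁0 : t • w₁ + w₁ ≠ 0 := by
    intro h
    apply hw₁
    rw [← P.fixV]
    have h1 := eq_neg_of_add_eq_zero_left h
    rwa [neg_eq_of_add_eq_zero_left (P.two w₁)] at h1
  have hVs : ∀ u ∈ V, ∃ a : F, u = κ a (t • w₁ + w₁) := by
    intro u hu
    by_cases hu0 : u = 0
    · exact ⟨0, by rw [hu0, map_zero]; rfl⟩
    obtain ⟨j, hj⟩ := P.reg _ hv₁ hv₁0 u hu hu0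
    obtain ⟨a, ha⟩ := hκ2 j
    exact ⟨a, by rw [ha]; exact hj.symm⟩
  have hκ0 : ∀ a : F, κ a (t • w₁ + w₁) = 0 → a = 0 := by
    intro a h
    by_contra ha
    obtain ⟨j, hj⟩ := hκ1 a ha
    rw [hj] at h
    change δ ^ j • (t • w₁ + w₁) = 0 at h
    rw [smul_eq_zero_iff_eq] at h
    exact hv₁0 h
  have hcard : Nat.card F = q := by
    rw [← P.cardV]
    refine Nat.card_congr (Equiv.ofBijective (fun a : F => (⟨κ a (t • w₁ + w₁),
      hκV a _ hv₁⟩ : V)) ⟨?_, ?_⟩)
    · intro a b hab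
      have h1 : κ a (t • w₁ + w₁) = κ b (t • w₁ + w₁) := congrArg (fun z : V => (z : W)) hab
      have h2 := hκ0 (a - b) (by
        rw [map_sub]
        change κ a (t • w₁ + w₁) - κ b (t • w₁ + w₁) = 0
        rw [h1, sub_self])
      exact sub_eq_zero.1 h2
    · rintro ⟨u, hu⟩
      obtain ⟨a, ha⟩ := hVs u hu
      exact ⟨a, Subtype.ext ha.symm⟩
  refine ⟨d, σ, w₁, ⟨P.faithful, ?_, hσ2, hsig1, ?_, ?_, P.tt, P.ff, P.tf, ?_, ?_, hfw, ?_, ?_, ?_,
    ?_⟩, hcard, ?_⟩
  · -- two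
    apply hκi
    rw [map_zero]
    have : (2 : F) = 1 + 1 := by norm_num
    rw [this, map_add]
    ext u
    have h1 : κ (1 : F) = 1 := map_one κ
    rw [h1]
    exact P.two u
  · -- four
    let τ : F →+ F :=
      { toFun := fun a => a + σ a
        map_zero' := by rw [map_zero, add_zero]
        map_add' := fun a b => by rw [map_add]; abel }
    have h2F : ∀ a : F, a + a = 0 := by
      intro a
      apply hκi
      rw [map_zero, map_add]
      ext u; exact P.two _
    have hτ : ∀ a, τ a = a + σ a := fun _ => rfl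
    have h1 := τ.ker.card_mul_index
    rw [AddSubgroup.index_ker] at h1
    have h2 : Nat.card τ.ker ≤ Nat.card {a : F // σ a = a} := by
      refine Nat.card_le_card_of_injective (fun a => ⟨a.1, ?_⟩) ?_
      · have h3 : a.1 + σ a.1 = 0 := a.2
        have h4 := eq_neg_of_add_eq_zero_left h3
        rw [neg_eq_of_add_eq_zero_left (h2F (σ a.1))] at h4
        exact h4.symm
      · intro a b hab
        exact Subtype.ext (congrArg (fun z : {a : F // σ a = a} => (z : F)) hab)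
    have h3 : Nat.card τ.range ≤ Nat.card {a : F // σ a = a} := by
      refine Nat.card_le_card_of_injective (fun a => ⟨a.1, ?_⟩) ?_
      · obtain ⟨b, hb⟩ := a.2
        rw [← hb, hτ, map_add, hσ2, add_comm]
      · intro a b hab
        exact Subtype.ext (congrArg (fun z : {a : F // σ a = a} => (z : F)) hab)
    have h4 := P.q16
    rw [← hcard, ← h1] at h4
    by_contra hcon
    have h5 : Nat.card τ.ker ≤ 3 := by omega
    have h6 : Nat.card τ.range ≤ 3 := by omega
    have := Nat.mul_le_mul h5 h6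
    omega
  · -- act
    intro a w
    exact DFunLike.congr_fun (hdr a) w
  · -- td
    intro a
    obtain ⟨j, hj⟩ := hdj a
    rw [hj]
    exact ((show Commute t δ from P.td).pow_right j)
  · -- fd
    intro a
    apply P.rho_inj
    rw [map_mul, map_mul, hdr, hdr]
    exact hfσ a
  · -- span
    intro w
    obtain ⟨a, ha⟩ := hVs _ (P.tw_mem w)
    have h1 : w + κ a w₁ ∈ V := by
      rw [← P.fixV]
      have h2 : (t • w + w) + κ a (t • w₁ + w₁) = 0 := by rw [ha]; exact P.two _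
      have h3 : t • (w + κ a w₁) + (w + κ a w₁) = 0 := by
        rw [smul_add, hκt, ← h2, map_add]
        abel
      have h4 := eq_neg_of_add_eq_zero_left h3
      rwa [neg_eq_of_add_eq_zero_left (P.two _)] at h4
    obtain ⟨b, hb⟩ := hVs _ h1
    refine ⟨a, b, ?_⟩
    rw [← hb, ← add_assoc, add_comm (κ a w₁) w, add_assoc, P.two, add_zero]
  · -- indep
    intro a b h
    have ha : a = 0 := by
      apply hκ0
      have h1 : t • (κ a w₁ + κ b (t • w₁ + w₁)) + (κ a w₁ + κ b (t • w₁ + w₁)) = 0 := by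
        rw [h, smul_zero, add_zero]
      have h2 : t • (t • w₁ + w₁) = t • w₁ + w₁ := (P.fixV _).2 hv₁
      rw [smul_add, hκt, hκt, h2] at h1
      calc κ a (t • w₁ + w₁) = κ a (t • w₁) + κ a w₁ := map_add _ _ _
        _ = (κ a (t • w₁) + κ a w₁) + (κ b (t • w₁ + w₁) + κ b (t • w₁ + w₁)) := by
          rw [P.two, add_zero]
        _ = 0 := by rw [← h1]; abel
    refine ⟨ha, hκ0 b ?_⟩
    rw [ha, map_zero] at h
    change (0 : W) + _ = 0 at h
    rwa [zero_add] at h
  · -- normD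
    intro x hx a
    obtain ⟨j, hj⟩ := P.norm x hx
    obtain ⟨i, hi⟩ := hdj a
    obtain ⟨b, hb⟩ := hdd (j * i)
    exact ⟨b, by rw [hi, hb, P.conj_pow hj]⟩
  · -- centD
    intro x hx hxd
    obtain ⟨b, hb⟩ := hdd 1
    have h1 := hxd b
    rw [hb, pow_one] at h1
    obtain ⟨j, hj⟩ := P.cent x hx h1
    obtain ⟨a, ha⟩ := hdd j
    refine ⟨a, ?_⟩
    rw [ha]
    rcases hj with hj | hj
    · exact Or.inl hj
    · right
      rw [hj]
      exact ((show Commute t δ from P.td).pow_right j).eq.symm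
  · obtain ⟨b, hb⟩ := hdd 1
    exact ⟨b, by rw [hb, pow_one]⟩

end Pre

end Cfsg.Agent.StdL2.EOneXC
end

-- part: StdL2/EOneWeak
section
/-!
# S1773, case `e ≥ 1`: Sylow 2-subgroups containing `W T` normalise `W`

`EOne.norm_of_le`: every 2-subgroup of `G` which contains `W` and `T` normalises `W`.
`EOne.no_field`: if `W` is weakly closed in the 2-groups containing it, then no element of `W` is
conjugate to an element `f ∈ C(t)` for which `C(t) ∩ C(f)` has a perfect subgroup of even order.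
-/

set_option autoImplicit false
set_option linter.unusedSectionVars false
set_option linter.style.haveILetI false

open Subgroup

namespace Cfsg.Agent.StdL2.EOneWeak

open Cfsg.Agent.StdL2.FieldStart
open Cfsg.Agent.StdL2.FieldStart.Fld (conj_mem_norm norm_conj norm_conj')
open Cfsg.Agent.StdL2.EOneFusion
open Cfsg.Agent.StdL2.EOneFusion.EOne (isSyl Γ)

variable {G : Type*} [Group G] [Finite G] {t : G} {V R T W : Subgroup G} {F : Fld t V R T}

/-- a commutative subgroup of order `q²` of `W ∪ tW` is contained in `W` -/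
theorem le_W_of_le_Q (H : EOne F W) (hq : 16 ≤ Nat.card V) {Z : Subgroup G} (hZQ : Z ≤ H.Q)
    (hZcomm : ∀ x ∈ Z, ∀ y ∈ Z, x * y = y * x) (hZc : Nat.card Z = Nat.card V ^ 2) : Z ≤ W := by
  by_contra hcon
  obtain ⟨z0, hz0, hz0W⟩ := Set.not_subset.1 hcon
  have h2 := (H.mem_Q.1 (hZQ hz0)).resolve_left hz0W
  have h3 := card_le_two_mul Z W (fun x hx y hy hxW hyW => by
    have hx' := (H.mem_Q.1 (hZQ hx)).resolve_left hxW
    have hy' := (H.mem_Q.1 (hZQ hy)).resolve_left hyW
    have : x⁻¹ * y = (t * x)⁻¹ * (t * y) := by group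
    rw [this]
    exact W.mul_mem (W.inv_mem hx') hy')
  have h4 : (Z ⊓ W : Subgroup G) ≤ V := by
    rintro x ⟨hxZ, hxW⟩
    refine H.cW x hxW ?_
    have h5 := hZcomm x hxZ _ hz0
    have h6 : z0 = t * (t * z0) := F.eq_tmul z0
    have h7 := H.wcomm hxW h2
    rw [h6] at h5
    have h8 : x * t * (t * z0) = t * x * (t * z0) := by
      calc x * t * (t * z0) = x * (t * (t * z0)) := by group
        _ = t * ((t * z0) * x) := by rw [h5]; group
        _ = t * x * (t * z0) := by rw [← h7]; group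
    exact mul_right_cancel h8
  have h5 : Nat.card (Z ⊓ W : Subgroup G) ≤ Nat.card V := Subgroup.card_le_of_le h4
  rw [hZc, pow_two] at h3
  nlinarith only [hq, h3, h5]

/-- `T = C_P(t)` for a 2-group `P ≥ T` -/
theorem mem_T_of_comm (F : Fld t V R T) {P : Subgroup G} (hP : IsPGroup 2 P) (hTP : T ≤ P) {x : G}
    (hx : x ∈ P) (hxt : x * t = t * x) : x ∈ T := by
  refine F.Tmax (P ⊓ centralizer {t}) (hP.to_le inf_le_left)
    (le_inf hTP fun y hy => mem_centralizer_singleton_iff.2 (F.Tt y hy)) ?_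
    ⟨hx, mem_centralizer_singleton_iff.2 hxt⟩
  rintro y ⟨_, hy⟩
  exact mem_centralizer_singleton_iff.1 hy

/-- if `t` normalises the conjugate `y W y⁻¹`, this conjugate is `c W c⁻¹` with `c ∈ C(t)` -/
theorem exists_cent (H : EOne F W) (hq : 16 ≤ Nat.card V) {y : G}
    (hy : ∀ w ∈ W, (y⁻¹ * t * y) * w * (y⁻¹ * t * y)⁻¹ ∈ W) :
    ∃ n ∈ normalizer (W : Set G), (y * n) * t = t * (y * n) := by
  have h1 : y⁻¹ * t * y⁻¹⁻¹ = y⁻¹ * t * y := by rw [inv_inv]
  obtain ⟨n, hn, h⟩ := H.fusion hq y⁻¹ (by rw [h1]; exact hy)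
  refine ⟨n, hn, ?_⟩
  calc y * n * t = y * (n * t * n⁻¹) * n := by group
    _ = t * (y * n) := by rw [h]; group

/-- **(B1)** every 2-subgroup containing `W` and `T` normalises `W` -/
theorem norm_of_le (H : EOne F W) (hq : 16 ≤ Nat.card V)
    (TW : ∀ s ∈ T, ∀ w ∈ W, s * w * s⁻¹ ∈ W) {P : Subgroup G} (hP : IsPGroup 2 P) (hWP : W ≤ P)
    (hTP : T ≤ P) : P ≤ normalizer (W : Set G) := by
  by_contra hcon
  have hTW : T ≤ normalizer (W : Set G) := fun s hs => conj_mem_norm (TW s hs)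
  set P1 := P ⊓ normalizer (W : Set G) with hP1
  have hlt : P1 < P := lt_of_le_of_ne inf_le_left fun e => hcon (by
    rw [← e]; exact inf_le_right)
  obtain ⟨y, hyP, hyP1, hyn⟩ := exists_normalizer_gt hP hlt
  apply hyP1
  refine ⟨hyP, ?_⟩
  have hWP1 : W ≤ P1 := le_inf hWP le_normalizer
  have hTP1 : T ≤ P1 := le_inf hTP hTW
  have hP1p : IsPGroup 2 P1 := hP.to_le inf_le_left
  have htP1 : t ∈ P1 := hTP1 F.tT
  have hty : y⁻¹ * t * y ∈ P1 := norm_conj' hyn htP1
  obtain ⟨n, hn, hct⟩ := exists_cent H hq (y := y) (fun w hw => norm_conj hty.2 hw)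
  set c := y * n with hc
  -- `c w c⁻¹ ∈ P1`
  have hcW : ∀ w ∈ W, c * w * c⁻¹ ∈ P1 := by
    intro w hw
    have h1 : c * w * c⁻¹ = y * (n * w * n⁻¹) * y⁻¹ := by rw [hc]; group
    rw [h1]
    exact norm_conj hyn (hWP1 (norm_conj hn hw))
  -- `c` normalises `E` and `V`
  have hcE : c ∈ normalizer (F.E : Set G) := by
    refine F.norm_of_conj hq fun e he => ?_
    have h1 : c * e * c⁻¹ ∈ P := by
      rcases he with he | he
      · exact (hcW e (H.VW he)).1
      · have h2 : c * e * c⁻¹ = t * (c * (t * e) * c⁻¹) := by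
          calc c * e * c⁻¹ = c * (t * (t * e)) * c⁻¹ := by rw [← F.eq_tmul e]
            _ = (c * t) * (t * e) * c⁻¹ := by group
            _ = (t * c) * (t * e) * c⁻¹ := by rw [hct]
            _ = t * (c * (t * e) * c⁻¹) := by group
        rw [h2]
        exact P.mul_mem htP1.1 (hcW _ (H.VW he)).1
    refine mem_T_of_comm F hP hTP h1 ?_
    have h2 := F.tcomm he
    calc c * e * c⁻¹ * t = c * e * (c⁻¹ * t * c) * c⁻¹ := by group
      _ = c * e * t * c⁻¹ := by
        have : c⁻¹ * t * c = t := by rw [mul_assoc, ← hct]; group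
        rw [this]
      _ = c * t * e * c⁻¹ := by rw [mul_assoc c e t, h2]; group
      _ = t * (c * e * c⁻¹) := by rw [hct]; group
  have hcV : ∀ v ∈ V, c⁻¹ * v * c ∈ V := by
    intro v hv
    have := H.norm_V ((normalizer (F.E : Set G)).inv_mem hcE) hv
    rwa [inv_inv] at this
  -- `Z = c W c⁻¹ ≤ Γ`
  let Z := W.map (MulAut.conj c).toMonoidHom
  have hZP1 : Z ≤ P1 := by
    rintro _ ⟨w, hw, rfl⟩
    exact hcW w hw
  have hZΓ : Z ≤ Γ F := by
    rintro _ ⟨w, hw, rfl⟩
    have h1 : w ∈ Γ F := H.Q_le (H.WQ hw)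
    refine ⟨?_, ?_⟩
    · change c * w * c⁻¹ ∈ _
      exact (normalizer (F.E : Set G)).mul_mem ((normalizer (F.E : Set G)).mul_mem hcE h1.1)
        ((normalizer (F.E : Set G)).inv_mem hcE)
    · change c * w * c⁻¹ ∈ centralizer (V : Set G)
      rw [mem_centralizer_iff]
      intro v hv
      have h2 := mem_centralizer_iff.1 h1.2 _ (hcV v hv)
      calc v * (c * w * c⁻¹) = c * ((c⁻¹ * v * c) * w) * c⁻¹ := by group
        _ = c * (w * (c⁻¹ * v * c)) * c⁻¹ := by rw [h2]
        _ = c * w * c⁻¹ * v := by group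
  -- `P1 ∩ Γ = Q`
  have hQP1 : H.Q ≤ P1 := by
    intro x hx
    rcases H.mem_Q.1 hx with h | h
    · exact hWP1 h
    · have : x = t⁻¹ * (t * x) := by group
      rw [this]
      exact P1.mul_mem (P1.inv_mem htP1) (hWP1 h)
  have hΓP : P1 ⊓ Γ F ≤ H.Q := (H.isSyl_Q hq).2.2 _ (hP1p.to_le inf_le_left)
    (le_inf hQP1 H.Q_le) inf_le_right
  have hZW : Z ≤ W := by
    refine le_W_of_le_Q H hq ((le_inf hZP1 hZΓ).trans hΓP) ?_ ?_
    · rintro _ ⟨a, ha, rfl⟩ _ ⟨b, hb, rfl⟩
      rw [← map_mul, ← map_mul]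
      exact congrArg _ (H.wcomm ha hb)
    · have h3 : Nat.card Z = Nat.card W := Subgroup.card_map_of_injective (MulAut.conj c).injective
      rw [h3, H.card]
  have hcn : c ∈ normalizer (W : Set G) := conj_mem_norm fun w hw => hZW ⟨w, hw, rfl⟩
  have hyc : y = c * n⁻¹ := by rw [hc]; group
  rw [hyc]
  exact (normalizer (W : Set G)).mul_mem hcn ((normalizer (W : Set G)).inv_mem hn)

/-- `W` is weakly closed: every 2-subgroup containing `W` normalises `W` -/
def WC (W : Subgroup G) : Prop :=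
  ∀ P : Subgroup G, IsPGroup 2 P → W ≤ P → P ≤ normalizer (W : Set G)

end Cfsg.Agent.StdL2.EOneWeak
end

-- part: StdL2/EOneX
section
/-!
# S1773, case `e ≥ 1`: the action of `N(W) ∩ C(t)` on `W`

* `isSyl_W`: `W` is a Sylow 2-subgroup of `C(W)`.
* `frattini`: an element of `N(W)` commuting with `t` on `W` is in `C(W) C(t)`.
* `kernel`: an element of `N(W)` commuting with `t` on `W`, trivial on `V`, acts on `W` as `1` or `t`.
-/

set_option autoImplicit false
set_option linter.unusedSectionVars false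
set_option linter.style.haveILetI false

open Subgroup

namespace Cfsg.Agent.StdL2.EOneX

open Cfsg.Agent.StdL2.FieldStart
open Cfsg.Agent.StdL2.FieldStart.Fld (conj_mem_norm norm_conj norm_conj' conj_ne_one)
open Cfsg.Agent.StdL2.EOneFusion
open Cfsg.Agent.StdL2.EOneFusion.EOne (isSyl Γ)
open Cfsg.Agent.StdL2.EOneWeak
open Cfsg.Agent.GH.E (rr mem_rr le_rr self_mem_rr)

variable {G : Type*} [Group G] [Finite G] {t : G} {V R T W : Subgroup G} {F : Fld t V R T}

/-- `x` and `y` act in the same way on `W` -/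
def Same (W : Subgroup G) (x y : G) : Prop := ∀ w ∈ W, x * w * x⁻¹ = y * w * y⁻¹

theorem Same.symm {x y : G} (h : Same W x y) : Same W y x := fun w hw => (h w hw).symm

theorem Same.trans {x y z : G} (h : Same W x y) (h' : Same W y z) : Same W x z :=
  fun w hw => (h w hw).trans (h' w hw)

theorem Same.refl (x : G) : Same W x x := fun _ _ => rfl

theorem Same.mul {x y x' y' : G} (h : Same W x y) (h' : Same W x' y')
    (hx' : ∀ w ∈ W, x' * w * x'⁻¹ ∈ W) : Same W (x * x') (y * y') := by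
  intro w hw
  calc x * x' * w * (x * x')⁻¹ = x * (x' * w * x'⁻¹) * x⁻¹ := by group
    _ = y * (x' * w * x'⁻¹) * y⁻¹ := h _ (hx' w hw)
    _ = y * (y' * w * y'⁻¹) * y⁻¹ := by rw [h' w hw]
    _ = y * y' * w * (y * y')⁻¹ := by group

theorem same_iff {x y : G} : Same W x y ↔ y⁻¹ * x ∈ centralizer (W : Set G) := by
  rw [mem_centralizer_iff]
  constructor
  · intro h w hw
    have h1 := h w hw
    calc w * (y⁻¹ * x) = y⁻¹ * (y * w * y⁻¹) * x := by group
      _ = y⁻¹ * (x * w * x⁻¹) * x := by rw [h1]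
      _ = y⁻¹ * x * w := by group
  · intro h w hw
    have h1 := h w hw
    calc x * w * x⁻¹ = y * ((y⁻¹ * x) * w) * x⁻¹ := by group
      _ = y * (w * (y⁻¹ * x)) * x⁻¹ := by rw [h1]
      _ = y * w * y⁻¹ := by group

theorem cent_norm {n : G} (hn : n ∈ normalizer (W : Set G)) {c : G}
    (hc : c ∈ centralizer (W : Set G)) : n * c * n⁻¹ ∈ centralizer (W : Set G) := by
  rw [mem_centralizer_iff] at hc ⊢
  intro w hw
  have h1 := hc _ (norm_conj' hn hw)
  calc w * (n * c * n⁻¹) = n * ((n⁻¹ * w * n) * c) * n⁻¹ := by group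
    _ = n * (c * (n⁻¹ * w * n)) * n⁻¹ := by rw [h1]
    _ = n * c * n⁻¹ * w := by group

theorem cent_le_norm : centralizer (W : Set G) ≤ normalizer (W : Set G) := by
  intro c hc
  refine conj_mem_norm fun w hw => ?_
  rw [← mem_centralizer_iff.1 hc w hw, mul_inv_cancel_right]
  exact hw

/-- `K = C(W) ∪ C(W) t` -/
def K (_H : EOne F W) : Subgroup G := rr t (centralizer (W : Set G))

theorem tnorm (H : EOne F W) : t ∈ normalizer (W : Set G) := conj_mem_norm H.tW

theorem mem_K (H : EOne F W) {x : G} :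
    x ∈ K H ↔ x ∈ centralizer (W : Set G) ∨ t * x ∈ centralizer (W : Set G) :=
  mem_rr F.t2 (fun _ hx => cent_norm (tnorm H) hx)

theorem WC' (H : EOne F W) : W ≤ centralizer (W : Set G) := fun _ hx =>
  mem_centralizer_iff.2 fun _ hy => H.wcomm hy hx

theorem tnC (H : EOne F W) (hq : 16 ≤ Nat.card V) : t ∉ centralizer (W : Set G) := by
  intro h
  have h1 : W ≤ V := fun w hw => H.cW w hw (mem_centralizer_iff.1 h w hw)
  have h2 := Subgroup.card_le_of_le h1
  rw [H.card, pow_two] at h2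
  nlinarith

theorem QK (H : EOne F W) : H.Q ≤ K H := by
  intro x hx
  rcases H.mem_Q.1 hx with h | h
  · exact (mem_K H).2 (Or.inl (WC' H h))
  · exact (mem_K H).2 (Or.inr (WC' H h))

/-- elements of `Q ∖ W` which are involutions lie in `tV` -/
theorem tmul_mem_V (H : EOne F W) {x : G} (hx : x ∈ H.Q) (hxW : x ∉ W) (h2 : x * x = 1) :
    t * x ∈ V := by
  have h1 := (H.mem_Q.1 hx).resolve_left hxW
  refine H.cW _ h1 ?_
  have h3 := H.wsq _ h1
  have h4 : x⁻¹ = x := inv_eq_of_mul_eq_one_left h2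
  have h5 : t * x * t = x := by
    have : t * x * t * x = 1 := by
      calc t * x * t * x = (t * x) * (t * x) := by group
        _ = 1 := h3
    have := eq_inv_of_mul_eq_one_left this
    rw [this, h4]
  rw [h5, ← mul_assoc, F.t2, one_mul]

theorem conj_sq {x g : G} (h : x * x = 1) : (g * x * g⁻¹) * (g * x * g⁻¹) = 1 := by
  calc g * x * g⁻¹ * (g * x * g⁻¹) = g * (x * x) * g⁻¹ := by group
    _ = 1 := by rw [h]; group

/-- `W ∪ tW` is a Sylow subgroup of `K` -/
theorem isSyl_K (H : EOne F W) (hq : 16 ≤ Nat.card V) : IsSyl (K H) H.Q := by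
  obtain ⟨S, hS, hQS⟩ := exists_isSyl (K H) H.Q H.Q2 (QK H)
  have hSQ : S = H.Q := by
    by_contra hne
    have hlt : H.Q < S := lt_of_le_of_ne hQS (Ne.symm hne)
    obtain ⟨n, hnS, hnQ, hnn⟩ := exists_normalizer_gt hS.1 hlt
    -- reduce to `n ∈ C(W)`
    obtain ⟨m, hmS, hmQ, hmn, hmC⟩ : ∃ m ∈ S, m ∉ H.Q ∧ m ∈ normalizer (H.Q : Set G) ∧
        m ∈ centralizer (W : Set G) := by
      rcases (mem_K H).1 (hS.2.1 hnS) with h | h
      · exact ⟨n, hnS, hnQ, hnn, h⟩
      · refine ⟨t * n, S.mul_mem (hQS H.tQ) hnS, fun e => hnQ ?_,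
          (normalizer (H.Q : Set G)).mul_mem (le_normalizer H.tQ) hnn, h⟩
        have : n = t⁻¹ * (t * n) := by group
        rw [this]
        exact H.Q.mul_mem (H.Q.inv_mem H.tQ) e
    have h1 : m * t * m⁻¹ ∈ H.Q := norm_conj hmn H.tQ
    have h2 : t * (m * t * m⁻¹) ∈ V := tmul_mem_V H h1 (H.noW m) (conj_sq F.t2)
    have hmV : ∀ v ∈ V, m * v * m⁻¹ = v := fun v hv => by
      rw [← mem_centralizer_iff.1 hmC v (H.VW hv), mul_inv_cancel_right]
    have hmE : m ∈ normalizer (F.E : Set G) := by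
      refine conj_mem_norm ?_
      rintro e (he | he)
      · rw [hmV e he]; exact F.VE he
      · have h3 : m * e * m⁻¹ = (m * t * m⁻¹) * (m * (t * e) * m⁻¹) := by
          have : m * t * m⁻¹ * (m * (t * e) * m⁻¹) = m * ((t * t) * e) * m⁻¹ := by group
          rw [this, F.t2, one_mul]
        rw [h3, hmV _ he]
        exact F.E.mul_mem (Or.inr h2) (F.VE he)
    have hmΓ : m ∈ Γ F := ⟨hmE, mem_centralizer_iff.2 fun v hv =>
      mem_centralizer_iff.1 hmC v (H.VW hv)⟩
    have h4 : H.Q ⊔ zpowers m ≤ S := sup_le hQS (by rw [zpowers_le]; exact hmS)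
    have h5 := (H.isSyl_Q hq).2.2 (H.Q ⊔ zpowers m) (hS.1.to_le h4) le_sup_left
      (sup_le H.Q_le (by rw [zpowers_le]; exact hmΓ))
    exact hmQ (h5 (mem_sup_right (mem_zpowers m)))
  rw [← hSQ]
  exact hS

/-- a 2-subgroup of `K` is conjugate into `W ∪ tW` by an element of `C(W)` -/
theorem conj_into_Q (H : EOne F W) (hq : 16 ≤ Nat.card V) {P : Subgroup G} (hP : IsPGroup 2 P)
    (hPK : P ≤ K H) : ∃ c ∈ centralizer (W : Set G), ∀ x ∈ P, c * x * c⁻¹ ∈ H.Q := by
  obtain ⟨k, hk, hkP⟩ := (isSyl_K H hq).conj hP hPK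
  rcases (mem_K H).1 hk with h | h
  · exact ⟨k, h, hkP⟩
  · refine ⟨t * k, h, fun x hx => ?_⟩
    have h1 : t * k * x * (t * k)⁻¹ = t * (k * x * k⁻¹) * t⁻¹ := by group
    rw [h1]
    exact H.Q.mul_mem (H.Q.mul_mem H.tQ (hkP x hx)) (H.Q.inv_mem H.tQ)

/-- `W` is a Sylow 2-subgroup of `C(W)` -/
theorem isSyl_W (H : EOne F W) (hq : 16 ≤ Nat.card V) : IsSyl (centralizer (W : Set G)) W := by
  refine ⟨H.W2, WC' H, fun P hP hWP hPC => ?_⟩
  obtain ⟨c, hc, hcP⟩ := conj_into_Q H hq hP (fun x hx => (mem_K H).2 (Or.inl (hPC hx)))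
  have h1 : ∀ x ∈ P, c * x * c⁻¹ ∈ W := by
    intro x hx
    rcases H.mem_Q.1 (hcP x hx) with h | h
    · exact h
    · exfalso
      apply tnC H hq
      have h2 : c * x * c⁻¹ ∈ centralizer (W : Set G) :=
        (centralizer (W : Set G)).mul_mem ((centralizer (W : Set G)).mul_mem hc (hPC hx))
          ((centralizer (W : Set G)).inv_mem hc)
      have h3 : t = (t * (c * x * c⁻¹)) * (c * x * c⁻¹)⁻¹ := by group
      rw [h3]
      exact (centralizer (W : Set G)).mul_mem (WC' H h) ((centralizer (W : Set G)).inv_mem h2)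
  intro x hx
  have h2 := mem_centralizer_iff.1 ((centralizer (W : Set G)).inv_mem hc) _ (h1 x hx)
  have h3 : x = c⁻¹ * (c * x * c⁻¹) * c⁻¹⁻¹ := by group
  rw [h3, ← h2, mul_inv_cancel_right]
  exact h1 x hx

/-- an element which commutes with `t` on `W` is in `C(W) C(t)` -/
theorem frattini (H : EOne F W) (hq : 16 ≤ Nat.card V) {n : G}
    (hn : Same W (n * t * n⁻¹) t) :
    ∃ c ∈ centralizer (W : Set G), (c * n) * t = t * (c * n) := by
  have h1 : n * t * n⁻¹ ∈ K H := by
    refine (mem_K H).2 (Or.inr ?_)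
    have := same_iff.1 hn
    rwa [F.tinv] at this
  have hz2 : IsPGroup 2 (zpowers (n * t * n⁻¹)) := by
    rintro ⟨x, hx⟩
    obtain ⟨k, rfl⟩ := mem_zpowers_iff.1 hx
    refine ⟨1, Subtype.ext ?_⟩
    change ((n * t * n⁻¹) ^ k) ^ (2 ^ 1) = 1
    rw [pow_one, pow_two, ← zpow_add, ← two_mul, zpow_mul, zpow_ofNat, pow_two, conj_sq F.t2,
      one_zpow]
  obtain ⟨c, hc, hcP⟩ := conj_into_Q H hq hz2 (by rw [zpowers_le]; exact h1)
  have h2 : (c * n) * t * (c * n)⁻¹ ∈ H.Q := by
    have := hcP _ (mem_zpowers _)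
    have h3 : (c * n) * t * (c * n)⁻¹ = c * (n * t * n⁻¹) * c⁻¹ := by group
    rwa [h3]
  have h3 := tmul_mem_V H h2 (H.noW _) (conj_sq F.t2)
  obtain ⟨w, hw, hwt⟩ := H.conj_of_mem (Or.inr h3) (fun h => H.noW _ (H.VW h))
  refine ⟨w⁻¹ * c, (centralizer (W : Set G)).mul_mem (WC' H (W.inv_mem hw)) hc, ?_⟩
  calc w⁻¹ * c * n * t = w⁻¹ * ((c * n) * t * (c * n)⁻¹) * (c * n) := by group
    _ = w⁻¹ * (w * t * w⁻¹) * (c * n) := by rw [hwt]
    _ = t * (w⁻¹ * c * n) := by group

theorem same_one_of_mem (H : EOne F W) {x : G} (hx : x ∈ W) : Same W x 1 := by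
  intro w hw
  rw [H.wcomm hx hw]; group

theorem same_t_of_mem (H : EOne F W) {x : G} (hx : t * x ∈ W) : Same W x t := by
  intro w hw
  have h1 := H.wcomm hx hw
  have h2 : x = t⁻¹ * (t * x) := by group
  have h3 : x * w * x⁻¹ = t⁻¹ * ((t * x) * w) * (t * x)⁻¹ * t := by group
  rw [h3, h1, F.tinv]; group

/-- an element of `C(t) ∩ N(W)` which is trivial on `V` has square trivial on `W` -/
theorem sq_triv (H : EOne F W) {n : G} (hnW : n ∈ normalizer (W : Set G)) (hnt : n * t = t * n)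
    (hnV : ∀ v ∈ V, n * v * n⁻¹ = v) : Same W (n * n) 1 := by
  intro w hw
  have ht : ∀ w ∈ W, t * w * t⁻¹ * w ∈ V := by
    intro w hw
    refine H.cW _ (W.mul_mem (H.tW w hw) hw) ?_
    have h1 := H.wcomm (H.tW w hw) hw
    calc t * w * t⁻¹ * w * t = w * (t * w * t⁻¹) * t := by rw [h1]
      _ = (t * t) * w * (t * w) := by rw [F.t2]; group
      _ = t * (t * w * t⁻¹ * w) := by rw [F.tinv]; group
  set v := t * w * t⁻¹ * w with hv
  have hvV : v ∈ V := ht w hw
  have htw : t * w * t⁻¹ = v * w := by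
    rw [hv, mul_assoc (t * w * t⁻¹), H.wsq w hw, mul_one]
  set c := n * w * n⁻¹ * w with hc
  have hnw : n * w * n⁻¹ ∈ W := norm_conj hnW hw
  have hcW : c ∈ W := W.mul_mem hnw hw
  have hcw : n * w * n⁻¹ = c * w := by rw [hc, mul_assoc (n * w * n⁻¹), H.wsq w hw, mul_one]
  have htn : t * (n * w * n⁻¹) * t⁻¹ = v * (n * w * n⁻¹) := by
    calc t * (n * w * n⁻¹) * t⁻¹ = (t * n) * w * (t * n)⁻¹ := by group
      _ = (n * t) * w * (n * t)⁻¹ := by rw [hnt]
      _ = n * (t * w * t⁻¹) * n⁻¹ := by group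
      _ = (n * v * n⁻¹) * (n * w * n⁻¹) := by rw [htw]; group
      _ = v * (n * w * n⁻¹) := by rw [hnV v hvV]
  have hcV : c ∈ V := by
    refine H.cW _ hcW ?_
    have h1 : t * c * t⁻¹ = c := by
      calc t * c * t⁻¹ = (t * (n * w * n⁻¹) * t⁻¹) * (t * w * t⁻¹) := by rw [hc]; group
        _ = v * (n * w * n⁻¹) * (v * w) := by rw [htn, htw]
        _ = v * ((n * w * n⁻¹) * v) * w := by group
        _ = v * (v * (n * w * n⁻¹)) * w := by rw [H.wcomm hnw (H.VW hvV)]
        _ = (v * v) * c := by rw [hc]; group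
        _ = c := by rw [F.vsq v hvV, one_mul]
    rw [mul_inv_eq_iff_eq_mul] at h1
    exact h1.symm
  calc n * n * w * (n * n)⁻¹ = n * (n * w * n⁻¹) * n⁻¹ := by group
    _ = n * (c * w) * n⁻¹ := by rw [hcw]
    _ = (n * c * n⁻¹) * (n * w * n⁻¹) := by group
    _ = c * (c * w) := by rw [hnV c hcV, hcw]
    _ = 1 * w * 1⁻¹ := by rw [← mul_assoc, F.vsq c hcV]; group

theorem pow_norm {n : G} (hnW : n ∈ normalizer (W : Set G)) (k : ℕ) :
    n ^ k ∈ normalizer (W : Set G) := (normalizer (W : Set G)).pow_mem hnW k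

theorem Same.pow {x y : G} (h : Same W x y) (hx : x ∈ normalizer (W : Set G)) (k : ℕ) :
    Same W (x ^ k) (y ^ k) := by
  induction k with
  | zero => rw [pow_zero, pow_zero]; exact Same.refl 1
  | succ k ih =>
    rw [pow_succ, pow_succ]
    exact ih.mul h (fun w hw => norm_conj hx hw)

/-- **kernel**: an element of `C(t) ∩ N(W)` which is trivial on `V` acts on `W` as `1` or `t` -/
theorem kernel (H : EOne F W) (hq : 16 ≤ Nat.card V) {n : G} (hnW : n ∈ normalizer (W : Set G))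
    (hnt : n * t = t * n) (hnV : ∀ v ∈ V, n * v * n⁻¹ = v) : Same W n 1 ∨ Same W n t := by
  have h0 : orderOf n ≠ 0 := (orderOf_pos n).ne'
  obtain ⟨k, m, hm, hkm⟩ := Nat.exists_eq_two_pow_mul_odd h0
  obtain ⟨r, hr⟩ := hm
  -- `a = n ^ m` is a 2-element
  have ha2 : (n ^ m) ^ (2 ^ k) = 1 := by
    rw [← pow_mul, mul_comm, ← hkm, pow_orderOf_eq_one]
  have haE : ∀ e ∈ F.E, n ^ m * e = e * n ^ m := by
    have h1 : ∀ v ∈ V, Commute n v := fun v hv => by
      have := hnV v hv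
      rwa [mul_inv_eq_iff_eq_mul] at this
    rintro e (he | he)
    · exact (h1 e he).pow_left m
    · have h2 : Commute (n ^ m) (t * e) := (h1 _ he).pow_left m
      have h3 : Commute (n ^ m) t := (show Commute n t from hnt).pow_left m
      have h4 : Commute (n ^ m) (t * (t * e)) := h3.mul_right h2
      rw [← F.eq_tmul] at h4
      exact h4
  have hz : IsPGroup 2 (zpowers (n ^ m)) := by
    rintro ⟨x, hx⟩
    obtain ⟨j, rfl⟩ := mem_zpowers_iff.1 hx
    refine ⟨k, Subtype.ext ?_⟩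
    change ((n ^ m) ^ j) ^ (2 ^ k) = 1
    rw [← zpow_natCast, ← zpow_mul, mul_comm, zpow_mul, zpow_natCast, ha2, one_zpow]
  have hE2 : IsPGroup 2 F.E := F.T2.to_le F.ET
  have hP : IsPGroup 2 (F.E ⊔ zpowers (n ^ m) : Subgroup G) := by
    refine isPGroup_sup hE2 hz ?_
    rw [zpowers_le]
    refine conj_mem_norm fun e he => ?_
    rw [haE e he, mul_inv_cancel_right]; exact he
  have hPt : F.E ⊔ zpowers (n ^ m) ≤ centralizer {t} := by
    refine sup_le (fun e he => mem_centralizer_singleton_iff.2 (F.tcomm he)) ?_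
    rw [zpowers_le]
    exact mem_centralizer_singleton_iff.2 (haE t F.tE)
  have hPV : F.E ⊔ zpowers (n ^ m) ≤ centralizer (V : Set G) := by
    refine sup_le (fun e he => mem_centralizer_iff.2 fun v hv => F.Ecomm (F.VE hv) he) ?_
    rw [zpowers_le]
    exact mem_centralizer_iff.2 fun v hv => (haE v (F.VE hv)).symm
  have h1 := H.card_cent hq hP hPt hPV le_sup_left
  have h2 : F.E = F.E ⊔ zpowers (n ^ m) :=
    Subgroup.eq_of_le_of_card_ge le_sup_left (h1.trans F.card_E.2)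
  have h3 : n ^ m ∈ F.E := by
    rw [h2]; exact mem_sup_right (mem_zpowers _)
  -- `n` acts as `n ^ m`
  have h4 : Same W (n ^ m) n := by
    have h5 := (sq_triv H hnW hnt hnV).pow ((normalizer (W : Set G)).mul_mem hnW hnW) r
    have h6 := h5.mul (Same.refl n) (fun w hw => norm_conj hnW hw)
    rw [one_pow, one_mul] at h6
    have h7 : (n * n) ^ r * n = n ^ m := by
      rw [← pow_two, ← pow_mul, hr, pow_succ]
    rwa [h7] at h6
  rcases h3 with h | h
  · exact Or.inl (h4.symm.trans (same_one_of_mem H (H.VW h)))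
  · exact Or.inr (h4.symm.trans (same_t_of_mem H (H.VW h)))

/-- `d` acts on `W` as a cyclic group of order `q - 1`, regularly on `V#`, and `⟨d⟩` is normal in
the centraliser of `t` in `N(W)/C(W)` -/
structure Tor (F : Fld t V R T) (W : Subgroup G) (d : G) : Prop where
  dt : d * t = t * d
  dW : d ∈ normalizer (W : Set G)
  ord : Same W (d ^ (Nat.card V - 1)) 1
  reg : ∀ v ∈ V, v ≠ 1 → ∀ u ∈ V, u ≠ 1 → ∃ j : ℕ, d ^ j * v * (d ^ j)⁻¹ = u
  norm : ∀ n ∈ normalizer (W : Set G), Same W (n * t * n⁻¹) t → ∃ j : ℕ,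
    Same W (n * d * n⁻¹) (d ^ j)

theorem norm_V (H : EOne F W) {n : G} (hnW : n ∈ normalizer (W : Set G)) (hnt : n * t = t * n)
    {v : G} (hv : v ∈ V) : n * v * n⁻¹ ∈ V := by
  refine H.cW _ (norm_conj hnW (H.VW hv)) ?_
  calc n * v * n⁻¹ * t = n * v * (n⁻¹ * t * n) * n⁻¹ := by group
    _ = n * (v * t) * n⁻¹ := by
      have : n⁻¹ * t * n = t := by rw [mul_assoc, ← hnt]; group
      rw [this]; group
    _ = n * (t * v) * n⁻¹ := by rw [F.tv hv]
    _ = (n * t) * v * n⁻¹ := by group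
    _ = t * (n * v * n⁻¹) := by rw [hnt]; group

theorem commute_pow {n : G} (hnt : n * t = t * n) (k : ℕ) : n ^ k * t = t * n ^ k :=
  ((show Commute n t from hnt).pow_left k)

theorem one_le_card (F : Fld t V R T) (hq : 16 ≤ Nat.card V) :
    ∃ r, Nat.card V - 1 = 2 * r + 1 := by
  obtain ⟨k, hk⟩ := F.two_dvd_card_V hq
  exact ⟨k - 1, by omega⟩

/-- correction of the torus element -/
theorem torus (H : EOne F W) (hq : 16 ≤ Nat.card V) {d : G} (hdt : d * t = t * d)
    (hdW : ∀ w ∈ W, d * w * d⁻¹ ∈ W)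
    (hdq : ∀ v ∈ V, d ^ (Nat.card V - 1) * v * (d ^ (Nat.card V - 1))⁻¹ = v)
    (reg : ∀ v ∈ V, v ≠ 1 → ∀ u ∈ V, u ≠ 1 → ∃ j : ℕ, d ^ j * v * (d ^ j)⁻¹ = u)
    (hD : ∀ n : G, n * t = t * n → (∀ v ∈ V, n * v * n⁻¹ ∈ V) → ∃ j : ℕ, ∀ v ∈ V,
      (n * d * n⁻¹) * v * (n * d * n⁻¹)⁻¹ = d ^ j * v * (d ^ j)⁻¹) :
    ∃ d1 : G, Tor F W d1 ∧ ∀ v ∈ V, d1 * v * d1⁻¹ = d * v * d⁻¹ := by
  set q := Nat.card V with hqdef
  have hdWn : d ∈ normalizer (W : Set G) := conj_mem_norm hdW
  have hdV : ∀ v ∈ V, d * v * d⁻¹ ∈ V := fun v hv => norm_V H hdWn hdt hv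
  have hdVn : d ∈ normalizer (V : Set G) := conj_mem_norm hdV
  -- `e = d ^ (q - 1)` acts as `1` or `t`
  have he : Same W (d ^ (q - 1)) 1 ∨ Same W (d ^ (q - 1)) t :=
    kernel H hq (pow_norm hdWn _) (commute_pow hdt _) hdq
  have he2 : Same W (d ^ (q - 1) * d ^ (q - 1)) 1 :=
    sq_triv H (pow_norm hdWn _) (commute_pow hdt _) hdq
  -- `d1 = d ^ q`
  have hd1V : ∀ v ∈ V, d ^ q * v * (d ^ q)⁻¹ = d * v * d⁻¹ := by
    intro v hv
    have h1 : d ^ q = d * d ^ (q - 1) := by
      rw [← pow_succ']; congr 1; omega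
    rw [h1]
    calc d * d ^ (q - 1) * v * (d * d ^ (q - 1))⁻¹
        = d * (d ^ (q - 1) * v * (d ^ (q - 1))⁻¹) * d⁻¹ := by group
      _ = d * v * d⁻¹ := by rw [hdq v hv]
  have hd1j : ∀ j : ℕ, ∀ v ∈ V, (d ^ q) ^ j * v * ((d ^ q) ^ j)⁻¹ = d ^ j * v * (d ^ j)⁻¹ := by
    intro j
    exact Same.pow (W := V) (x := d ^ q) (y := d) hd1V (pow_norm hdVn q) j
  have hord : Same W ((d ^ q) ^ (q - 1)) 1 := by
    obtain ⟨r, hr⟩ : 2 ∣ q := F.two_dvd_card_V hq
    have h1 : (d ^ q) ^ (q - 1) = (d ^ (q - 1) * d ^ (q - 1)) ^ r := by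
      rw [← pow_mul, ← pow_two, ← pow_mul, ← pow_mul]
      congr 1
      rw [mul_comm q, ← hr]
    rw [h1]
    have h2 := he2.pow ((normalizer (W : Set G)).mul_mem (pow_norm hdWn _) (pow_norm hdWn _)) r
    rwa [one_pow] at h2
  refine ⟨d ^ q, ⟨commute_pow hdt q, pow_norm hdWn q, hord, ?_, ?_⟩, hd1V⟩
  · intro v hv hv1 u hu hu1
    obtain ⟨j, hj⟩ := reg v hv hv1 u hu hu1
    exact ⟨j, by rw [hd1j j v hv]; exact hj⟩
  · intro n hn hnt
    obtain ⟨c, hc, hct⟩ := frattini H hq hnt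
    have hcn : c ∈ normalizer (W : Set G) := cent_le_norm hc
    set m := c * n with hm
    have hmn : m ∈ normalizer (W : Set G) := (normalizer (W : Set G)).mul_mem hcn hn
    obtain ⟨j, hj⟩ := hD m hct (fun v hv => norm_V H hmn hct hv)
    refine ⟨j, ?_⟩
    -- `x = d1^{-j} m d1 m⁻¹`
    have hmV : m ∈ normalizer (V : Set G) := conj_mem_norm fun v hv => norm_V H hmn hct hv
    have hA : ∀ v ∈ V, (m * d ^ q * m⁻¹) * v * (m * d ^ q * m⁻¹)⁻¹ =
        (d ^ q) ^ j * v * ((d ^ q) ^ j)⁻¹ := by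
      intro v hv
      rw [hd1j j v hv, ← hj v hv]
      have h1 := hd1V _ (norm_conj' hmV hv)
      calc m * d ^ q * m⁻¹ * v * (m * d ^ q * m⁻¹)⁻¹
          = m * (d ^ q * (m⁻¹ * v * m) * (d ^ q)⁻¹) * m⁻¹ := by group
        _ = m * (d * (m⁻¹ * v * m) * d⁻¹) * m⁻¹ := by rw [h1]
        _ = m * d * m⁻¹ * v * (m * d * m⁻¹)⁻¹ := by group
    set x := ((d ^ q) ^ j)⁻¹ * (m * d ^ q * m⁻¹) with hx
    have hd1t := commute_pow hdt q
    have hd1jt : Commute ((d ^ q) ^ j) t := (show Commute (d ^ q) t from hd1t).pow_left j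
    have hxt : x * t = t * x := by
      have h1 : Commute m t := hct
      have h2 : Commute x t := by
        rw [hx]
        exact (hd1jt.inv_left).mul_left ((h1.mul_left (show Commute (d ^ q) t from hd1t)).mul_left
          h1.inv_left)
      exact h2
    have hdqn : d ^ q ∈ normalizer (W : Set G) := pow_norm hdWn q
    have hmd : m * d ^ q * m⁻¹ ∈ normalizer (W : Set G) :=
      (normalizer (W : Set G)).mul_mem ((normalizer (W : Set G)).mul_mem hmn hdqn)
        ((normalizer (W : Set G)).inv_mem hmn)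
    have hdj : (d ^ q) ^ j ∈ normalizer (W : Set G) := pow_norm hdqn j
    have hxW : x ∈ normalizer (W : Set G) :=
      (normalizer (W : Set G)).mul_mem ((normalizer (W : Set G)).inv_mem hdj) hmd
    have hxV : ∀ v ∈ V, x * v * x⁻¹ = v := by
      intro v hv
      have h1 := hA v hv
      calc x * v * x⁻¹ = ((d ^ q) ^ j)⁻¹ * ((m * d ^ q * m⁻¹) * v * (m * d ^ q * m⁻¹)⁻¹) *
            (d ^ q) ^ j := by rw [hx]; group
        _ = v := by rw [h1]; group
    have hmain : Same W (m * d ^ q * m⁻¹) ((d ^ q) ^ j) := by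
      have hmx : m * d ^ q * m⁻¹ = (d ^ q) ^ j * x := by rw [hx]; group
      rcases kernel H hq hxW hxt hxV with h | h
      · have h1 := (Same.refl (W := W) ((d ^ q) ^ j)).mul h (fun w hw => norm_conj hxW hw)
        rwa [← hmx, mul_one] at h1
      · exfalso
        -- `m d1 m⁻¹ ~ d1^j t`, take the `(q - 1)`-th power
        have h1 := (Same.refl (W := W) ((d ^ q) ^ j)).mul h (fun w hw => norm_conj hxW hw)
        rw [← hmx] at h1
        have h2 := h1.pow hmd (q - 1)
        have h3 : Same W ((m * d ^ q * m⁻¹) ^ (q - 1)) 1 := by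
          rw [conj_pow]
          intro w hw
          have h4 := hord _ (norm_conj' hmn hw)
          calc m * (d ^ q) ^ (q - 1) * m⁻¹ * w * (m * (d ^ q) ^ (q - 1) * m⁻¹)⁻¹
              = m * ((d ^ q) ^ (q - 1) * (m⁻¹ * w * m) * ((d ^ q) ^ (q - 1))⁻¹) * m⁻¹ := by group
            _ = 1 * w * 1⁻¹ := by rw [h4]; group
        have h4 : Same W (((d ^ q) ^ j * t) ^ (q - 1)) t := by
          obtain ⟨r, hr⟩ := one_le_card F hq
          have h5 : ((d ^ q) ^ j * t) ^ (q - 1) = ((d ^ q) ^ (q - 1)) ^ j * t := by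
            rw [hd1jt.mul_pow]
            congr 1
            · rw [← pow_mul, ← pow_mul, ← pow_mul, ← pow_mul]
              congr 1
              ring
            · rw [← hqdef] at hr
              change t ^ (Nat.card V - 1) = t
              rw [hr, pow_succ, pow_mul, pow_two, F.t2, one_pow, one_mul]
          rw [h5]
          have h6 := (hord.pow (pow_norm hdqn _) j).mul (Same.refl (W := W) t) H.tW
          rwa [one_pow, one_mul] at h6
        have h5 : Same W 1 t := h3.symm.trans (h2.trans h4)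
        have h6 := same_iff.1 h5.symm
        rw [inv_one, one_mul] at h6
        exact tnC H hq h6
    -- back to `n = c⁻¹ m`
    have hnm : n = c⁻¹ * m := by rw [hm]; group
    intro w hw
    have h1 := hmain w hw
    have hc' := mem_centralizer_iff.1 hc
    have h2 : ∀ w ∈ W, c * w * c⁻¹ = w := fun w hw => by rw [← hc' w hw, mul_inv_cancel_right]
    have h2' : ∀ w ∈ W, c⁻¹ * w * c = w := fun w hw => by rw [mul_assoc, hc' w hw]; group
    calc n * d ^ q * n⁻¹ * w * (n * d ^ q * n⁻¹)⁻¹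
        = c⁻¹ * ((m * d ^ q * m⁻¹) * (c * w * c⁻¹) * (m * d ^ q * m⁻¹)⁻¹) * c := by
          rw [hnm]; group
      _ = c⁻¹ * ((m * d ^ q * m⁻¹) * w * (m * d ^ q * m⁻¹)⁻¹) * c := by rw [h2 w hw]
      _ = (m * d ^ q * m⁻¹) * w * (m * d ^ q * m⁻¹)⁻¹ := h2' _ (norm_conj hmd hw)
      _ = (d ^ q) ^ j * w * ((d ^ q) ^ j)⁻¹ := h1

/-- the centraliser of `t` and `d` in `N(W)/C(W)` is `⟨t, d⟩` -/
theorem Tor.cent (H : EOne F W) (hq : 16 ≤ Nat.card V) {d : G} (D : Tor F W d) {n : G}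
    (hn : n ∈ normalizer (W : Set G)) (hnt : Same W (n * t * n⁻¹) t)
    (hnd : Same W (n * d * n⁻¹) d) : ∃ j : ℕ, Same W n (d ^ j) ∨ Same W n (d ^ j * t) := by
  obtain ⟨c, hc, hct⟩ := frattini H hq hnt
  have hcn : c ∈ normalizer (W : Set G) := cent_le_norm hc
  set m := c * n with hm
  have hmn : m ∈ normalizer (W : Set G) := (normalizer (W : Set G)).mul_mem hcn hn
  have hc' := mem_centralizer_iff.1 hc
  have h2 : ∀ w ∈ W, c * w * c⁻¹ = w := fun w hw => by rw [← hc' w hw, mul_inv_cancel_right]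
  have hsame : Same W m n := by
    intro w hw
    calc m * w * m⁻¹ = c * (n * w * n⁻¹) * c⁻¹ := by rw [hm]; group
      _ = n * w * n⁻¹ := h2 _ (norm_conj hn hw)
  have hmd : Same W (m * d * m⁻¹) d := by
    intro w hw
    have h3 : c⁻¹ * w * c = w := by rw [mul_assoc, hc' w hw]; group
    have h4 : (n * d * n⁻¹) * w * (n * d * n⁻¹)⁻¹ ∈ W := by
      rw [hnd w hw]; exact norm_conj D.dW hw
    calc m * d * m⁻¹ * w * (m * d * m⁻¹)⁻¹
        = c * ((n * d * n⁻¹) * (c⁻¹ * w * c) * (n * d * n⁻¹)⁻¹) * c⁻¹ := by rw [hm]; group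
      _ = c * ((n * d * n⁻¹) * w * (n * d * n⁻¹)⁻¹) * c⁻¹ := by rw [h3]
      _ = (n * d * n⁻¹) * w * (n * d * n⁻¹)⁻¹ := h2 _ h4
      _ = d * w * d⁻¹ := hnd w hw
  -- an element `v0 ≠ 1`
  obtain ⟨v0, hv0, hv01⟩ : ∃ v ∈ V, v ≠ 1 := by
    by_contra hcon
    push Not at hcon
    have : V = ⊥ := (Subgroup.eq_bot_iff_forall V).2 hcon
    rw [this, Subgroup.card_bot] at hq
    omega
  have hmv : m * v0 * m⁻¹ ∈ V := norm_V H hmn hct hv0
  obtain ⟨j, hj⟩ := D.reg v0 hv0 hv01 _ hmv (conj_ne_one hv01)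
  refine ⟨j, ?_⟩
  have hdVn : ∀ v ∈ V, d * v * d⁻¹ ∈ V := fun v hv => norm_V H D.dW D.dt hv
  -- `m` acts on `V` as `d ^ j`
  have hmV : ∀ v ∈ V, m * v * m⁻¹ = d ^ j * v * (d ^ j)⁻¹ := by
    intro v hv
    by_cases hv1 : v = 1
    · rw [hv1]; group
    obtain ⟨i, hi⟩ := D.reg v0 hv0 hv01 v hv hv1
    have h3 : Same W (m * d ^ i * m⁻¹) (d ^ i) := by
      rw [← conj_pow]
      exact hmd.pow ((normalizer (W : Set G)).mul_mem ((normalizer (W : Set G)).mul_mem hmn D.dW)
        ((normalizer (W : Set G)).inv_mem hmn)) i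
    calc m * v * m⁻¹ = (m * d ^ i * m⁻¹) * (m * v0 * m⁻¹) * (m * d ^ i * m⁻¹)⁻¹ := by
          rw [← hi]; group
      _ = d ^ i * (m * v0 * m⁻¹) * (d ^ i)⁻¹ := h3 _ (H.VW hmv)
      _ = d ^ i * (d ^ j * v0 * (d ^ j)⁻¹) * (d ^ i)⁻¹ := by rw [hj]
      _ = (d ^ i * d ^ j) * v0 * (d ^ i * d ^ j)⁻¹ := by group
      _ = (d ^ j * d ^ i) * v0 * (d ^ j * d ^ i)⁻¹ := by rw [← pow_add, add_comm, pow_add]
      _ = d ^ j * (d ^ i * v0 * (d ^ i)⁻¹) * (d ^ j)⁻¹ := by group
      _ = d ^ j * v * (d ^ j)⁻¹ := by rw [hi]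
  have hdjn : d ^ j ∈ normalizer (W : Set G) := pow_norm D.dW j
  have hdjt : Commute (d ^ j) t := (show Commute d t from D.dt).pow_left j
  have hx := kernel H hq (n := (d ^ j)⁻¹ * m)
    ((normalizer (W : Set G)).mul_mem ((normalizer (W : Set G)).inv_mem hdjn) hmn)
    (hdjt.inv_left.mul_left (show Commute m t from hct))
    (fun v hv => by
      calc (d ^ j)⁻¹ * m * v * ((d ^ j)⁻¹ * m)⁻¹ = (d ^ j)⁻¹ * (m * v * m⁻¹) * d ^ j := by group
        _ = v := by rw [hmV v hv]; group)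
  have hmx : m = d ^ j * ((d ^ j)⁻¹ * m) := by group
  rcases hx with h | h
  · left
    have h3 := (Same.refl (W := W) (d ^ j)).mul h (fun w hw => norm_conj
      ((normalizer (W : Set G)).mul_mem ((normalizer (W : Set G)).inv_mem hdjn) hmn) hw)
    rw [← hmx, mul_one] at h3
    exact hsame.symm.trans h3
  · right
    have h3 := (Same.refl (W := W) (d ^ j)).mul h (fun w hw => norm_conj
      ((normalizer (W : Set G)).mul_mem ((normalizer (W : Set G)).inv_mem hdjn) hmn) hw)
    rw [← hmx] at h3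
    exact hsame.symm.trans h3

end Cfsg.Agent.StdL2.EOneX
end

-- part: StdL2/EOneFOut
section
/-!
# S1773, case (f): the bridge from helper69's `FOut` to `N(U)/C(U)`

`eone : FTD → FOut → EOne`, `exists_torus`: the torus of `N(U)/C(U)`, `exists_sylow`: a Sylow
2-subgroup of `G` containing `UT`, contained in `N(U)`, in which `U` is self-centralising.
-/

set_option autoImplicit false
set_option linter.unusedSectionVars false
set_option linter.style.haveILetI false

open Subgroup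

namespace Cfsg.Agent.StdL2.EOneFOut

open Cfsg.Agent.StdL2.FieldStart Cfsg.Agent.StdL2.EOneFusion Cfsg.Agent.StdL2.FT
open Cfsg.Agent.StdL2.EOneOf Cfsg.Agent.StdL2.EOneWeak Cfsg.Agent.StdL2.EOneX
open Cfsg.Agent.StdL2.FieldStart.Fld (conj_mem_norm norm_conj norm_conj')

variable {G : Type*} [Group G] [Finite G] {t d : G} {V T C₀ U : Subgroup G}

/-- a cyclic group regular on `V#` has exponent `q - 1` on `V` -/
theorem pow_triv (dV : ∀ v ∈ V, d * v * d⁻¹ ∈ V)
    (reg : ∀ v ∈ V, ∀ w ∈ V, v ≠ 1 → w ≠ 1 → ∃ n : ℕ, d ^ n * v * (d ^ n)⁻¹ = w) {v : G}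
    (hv : v ∈ V) : d ^ (Nat.card V - 1) * v * (d ^ (Nat.card V - 1))⁻¹ = v := by
  classical
  haveI : Fintype V := Fintype.ofFinite V
  by_cases hv1 : v = 1
  · rw [hv1]; group
  let f0 : V → V := fun v => ⟨d * v * d⁻¹, dV v v.2⟩
  have hf0 : Function.Injective f0 := by
    intro a b hab
    have : d * (a : G) * d⁻¹ = d * b * d⁻¹ := congrArg (fun z : V => (z : G)) hab
    exact Subtype.ext (mul_left_cancel (mul_right_cancel this))
  let f : Equiv.Perm V := Equiv.ofBijective f0 ⟨hf0, Finite.injective_iff_surjective.1 hf0⟩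
  have hf : ∀ v : V, ((f v : V) : G) = d * v * d⁻¹ := fun _ => rfl
  have hfn : ∀ (n : ℕ) (v : V), (((f ^ n) v : V) : G) = d ^ n * v * (d ^ n)⁻¹ := by
    intro n
    induction n with
    | zero => intro v; simp
    | succ n ih =>
      intro v
      rw [pow_succ', Equiv.Perm.mul_apply, hf, ih, pow_succ']
      group
  let s : Finset V := Finset.univ.erase 1
  have hs : ∀ v : V, v ∈ s ↔ v ≠ 1 := fun v => by simp only [s, _root_.Finset.mem_erase, _root_.ne_eq, _root_.Finset.mem_univ, _root_.and_true]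
  have hcyc : f.IsCycleOn (s : Set V) := by
    refine ⟨⟨?_, f.injective.injOn, ?_⟩, ?_⟩
    · intro a ha
      rw [Finset.mem_coe, hs] at ha ⊢
      intro e
      apply ha
      have h1 : ((f a : V) : G) = 1 := by rw [e]; rfl
      rw [hf] at h1
      apply Subtype.ext
      have : (a : G) = d⁻¹ * (d * a * d⁻¹) * d := by group
      rw [this, h1]; group; rfl
    · intro a ha
      rw [Finset.mem_coe, hs] at ha
      refine ⟨f.symm a, ?_, f.apply_symm_apply a⟩
      rw [Finset.mem_coe, hs]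
      intro e
      apply ha
      have h1 := f.apply_symm_apply a
      rw [e] at h1
      rw [← h1]
      apply Subtype.ext
      rw [hf]
      simp
    · intro a ha b hb
      rw [Finset.mem_coe, hs] at ha hb
      obtain ⟨n, hn⟩ := reg a a.2 b b.2 (fun e => ha (Subtype.ext e)) (fun e => hb (Subtype.ext e))
      refine ⟨n, ?_⟩
      apply Subtype.ext
      rw [zpow_natCast, hfn, hn]
  have h1 := hcyc.pow_card_apply (a := ⟨v, hv⟩) (by
    rw [hs]; intro e; exact hv1 (congrArg (fun z : V => (z : G)) e))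
  have h2 : s.card = Nat.card V - 1 := by
    rw [Finset.card_erase_of_mem (Finset.mem_univ _), Finset.card_univ, Nat.card_eq_fintype_card]
  rw [h2] at h1
  have h3 := hfn (Nat.card V - 1) ⟨v, hv⟩
  rw [h1] at h3
  exact h3.symm

/-- `EOne` from helper69's output -/
theorem eone (H : FTD t V T C₀) (O : FOut t V T d U) : EOne (fldOf H) U :=
  eoneOf H O.usq O.VU (O.TU t H.tT) O.fix O.card

/-- the torus of `N(U)/C(U)` -/
theorem exists_torus (H : FTD t V T C₀) (T0 : Cfsg.Agent.StdL2.Tor t V d)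
    (O : FOut t V T d U) :
    ∃ d1 : G, EOneX.Tor (fldOf H) U d1 ∧ ∀ v ∈ V, d1 * v * d1⁻¹ = d * v * d⁻¹ := by
  obtain ⟨d', hdt, hdV, hdU⟩ := O.dd
  have hpow : ∀ n : ℕ, ∀ v ∈ V, d' ^ n * v * (d' ^ n)⁻¹ = d ^ n * v * (d ^ n)⁻¹ := by
    intro n
    have hn : d' ∈ normalizer (V : Set G) := conj_mem_norm fun v hv => by
      rw [hdV v hv]; exact T0.dV v hv
    exact Same.pow (W := V) (x := d') (y := d) hdV hn n
  obtain ⟨d1, hd1, hd1V⟩ := torus (eone H O) H.card16 hdt hdU
    (fun v hv => by rw [hpow _ v hv]; exact pow_triv T0.dV T0.reg hv)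
    (fun v hv hv1 u hu hu1 => by
      obtain ⟨j, hj⟩ := T0.reg v hv u hu hv1 hu1
      exact ⟨j, by rw [hpow j v hv]; exact hj⟩)
    (fun n hnt hnV => by
      obtain ⟨j, hj⟩ := T0.nrm n hnt hnV
      refine ⟨j, fun v hv => ?_⟩
      have hnVn : n ∈ normalizer (V : Set G) := conj_mem_norm hnV
      rw [hpow j v hv, ← hj v hv]
      have h1 := hdV _ (norm_conj' hnVn hv)
      calc n * d' * n⁻¹ * v * (n * d' * n⁻¹)⁻¹ = n * (d' * (n⁻¹ * v * n) * d'⁻¹) * n⁻¹ := by group
        _ = n * (d * (n⁻¹ * v * n) * d⁻¹) * n⁻¹ := by rw [h1]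
        _ = n * d * n⁻¹ * v * (n * d * n⁻¹)⁻¹ := by group)
  exact ⟨d1, hd1, fun v hv => by rw [hd1V v hv, hdV v hv]⟩

/-- a Sylow 2-subgroup of `G` contained in `N(U)` -/
theorem exists_sylow (H : FTD t V T C₀) (O : FOut t V T d U) :
    ∃ S : Subgroup G, IsSyl ⊤ S ∧ T ≤ S ∧ U ≤ S ∧ (∀ s ∈ S, ∀ u ∈ U, s * u * s⁻¹ ∈ U) ∧
      (∀ s ∈ S, (∀ u ∈ U, s * u = u * s) → s ∈ U) := by
  have E := eone H O
  have hU2 : IsPGroup 2 U := E.W2
  have hTU : T ≤ normalizer (U : Set G) := fun s hs => conj_mem_norm (O.TU s hs)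
  obtain ⟨S, hS, hUS⟩ := exists_isSyl (⊤ : Subgroup G) (U ⊔ T) (isPGroup_sup hU2 H.T2 hTU) le_top
  have h1 := norm_of_le E H.card16 O.TU hS.1 (le_sup_left.trans hUS) (le_sup_right.trans hUS)
  refine ⟨S, hS, le_sup_right.trans hUS, le_sup_left.trans hUS,
    fun s hs u hu => norm_conj (h1 hs) hu, fun s hs hsc => ?_⟩
  refine (isSyl_W E H.card16).2.2 (S ⊓ centralizer (U : Set G)) (hS.1.to_le inf_le_left)
    (le_inf (le_sup_left.trans hUS) (WC' E)) inf_le_right ⟨hs, ?_⟩
  exact mem_centralizer_iff.2 fun u hu => (hsc u hu).symm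

end Cfsg.Agent.StdL2.EOneFOut
end

-- part: StdL2/EOneXG
section
/-!
# S1773, case (f): from `G` to helper806's configuration `XC`

`bridge`: `X = N(W)/C(W)` acting on `W` (additive), with the coordinates `XC`.
-/

set_option autoImplicit false
set_option linter.unusedSectionVars false
set_option linter.style.haveILetI false

open Subgroup

namespace Cfsg.Agent.StdL2.EOneXG

open Cfsg.Agent.StdL2.FieldStart Cfsg.Agent.StdL2.EOneFusion Cfsg.Agent.StdL2.FT
open Cfsg.Agent.StdL2.EOneOf Cfsg.Agent.StdL2.EOneWeak Cfsg.Agent.StdL2.EOneX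
open Cfsg.Agent.StdL2.EOneXC Cfsg.Agent.StdL2.F Cfsg.Agent.StdL2.EOneFOut
open Cfsg.Agent.StdL2.FieldStart.Fld (conj_mem_norm norm_conj norm_conj')

universe u

variable {G : Type u} [Group G] [Finite G] {t d : G} {V R T W : Subgroup G} {F : Fld t V R T}

/-- The translation data between `N(W)` and `X`. -/
structure Trans (W : Subgroup G) {X W' : Type u} [Group X] [AddCommGroup W']
    [DistribMulAction X W'] (φ : ↥(normalizer (W : Set G)) →* X) (ψ : ↥W → W') : Prop where
  surj : Function.Surjective φ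
  bij : Function.Bijective ψ
  add : ∀ a b : W, ψ (a * b) = ψ a + ψ b
  act : ∀ (n : ↥(normalizer (W : Set G))) (w w' : W), (w' : G) = n * w * (n : G)⁻¹ →
    φ n • ψ w = ψ w'
  ker : ∀ n : ↥(normalizer (W : Set G)), φ n = 1 ↔ (n : G) ∈ centralizer (W : Set G)

theorem same_mul_inv {x y : G} (h : Same W x y)
    (hy : y ∈ normalizer (W : Set G)) : Same W (x * y⁻¹) 1 := by
  have h1 : Same W y⁻¹ y⁻¹ := Same.refl _
  have h2 := h.mul h1 (fun w hw => norm_conj ((normalizer (W : Set G)).inv_mem hy) hw)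
  rwa [mul_inv_cancel] at h2

theorem bridge (E : EOne F W) (hq : 16 ≤ Nat.card V) (D : EOneX.Tor F W d) {s : G}
    (hs : s ∈ normalizer (W : Set G)) (hst : s * t = t * s) (hss : Same W (s * s) 1)
    (hs1 : ¬ Same W s 1) (hs2 : ¬ Same W s t) :
    ∃ (X W' F' : Type u) (_ : Group X) (_ : Finite X) (_ : AddCommGroup W')
      (_ : DistribMulAction X W') (_ : Field F') (_ : Finite F') (κ : F' →+* AddMonoid.End W')
      (δ : F'ˣ →* X) (σ : F' ≃+* F') (w₁ : W') (φ : ↥(normalizer (W : Set G)) →* X)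
      (ψ : ↥W → W'), XC κ δ σ (φ ⟨t, tnorm E⟩) (φ ⟨s, hs⟩) w₁ ∧ Trans W φ ψ ∧
      Nat.card F' = Nat.card V ∧ ∃ a, δ a = φ ⟨d, D.dW⟩ := by
  classical
  have hcomm : ∀ a b : Additive W, a + b = b + a := by
    intro a b
    apply Additive.toMul.injective
    apply Subtype.ext
    exact E.wcomm a.toMul.2 b.toMul.2
  letI iA : AddCommGroup (Additive W) := { (inferInstance : AddGroup (Additive W)) with
    add_comm := hcomm }
  let X := (normalizerMonoidHom W).range
  letI iM : DistribMulAction X (Additive W) :=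
    { smul := fun x w => Additive.ofMul (x.1 w.toMul)
      one_smul := fun w => rfl
      mul_smul := fun x y w => rfl
      smul_zero := fun x => by
        apply Additive.toMul.injective
        exact map_one x.1
      smul_add := fun x v w => by
        apply Additive.toMul.injective
        exact map_mul x.1 _ _ }
  let φ : ↥(normalizer (W : Set G)) →* X := (normalizerMonoidHom W).rangeRestrict
  let ψ : W → Additive W := Additive.ofMul
  have hφs : Function.Surjective φ := MonoidHom.rangeRestrict_surjective _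
  have hact : ∀ (n : ↥(normalizer (W : Set G))) (w w' : W), (w' : G) = n * w * (n : G)⁻¹ →
      φ n • ψ w = ψ w' := by
    intro n w w' h
    apply Additive.toMul.injective
    apply Subtype.ext
    exact h.symm
  have hact' : ∀ (n : ↥(normalizer (W : Set G))) (w : W), φ n • ψ w =
      ψ ⟨(n : G) * w * (n : G)⁻¹, norm_conj n.2 w.2⟩ := fun n w => hact n w _ rfl
  have hψi : Function.Injective ψ := Additive.ofMul.injective
  have hψs : Function.Surjective ψ := Additive.ofMul.surjective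
  have hψa : ∀ a b : W, ψ (a * b) = ψ a + ψ b := fun _ _ => rfl
  have hψ0 : ∀ a : W, ψ a = 0 ↔ (a : G) = 1 := by
    intro a
    constructor
    · intro h
      have h1 : a = 1 := hψi h
      rw [h1]; rfl
    · intro h
      have h1 : a = 1 := Subtype.ext h
      rw [h1]; rfl
  have hfaith : ∀ x : X, (∀ w : Additive W, x • w = w) → x = 1 := by
    intro x hx
    apply Subtype.ext
    apply MulEquiv.ext
    intro w
    exact hx (Additive.ofMul w)
  -- equality in `X`
  have hker : ∀ n : ↥(normalizer (W : Set G)), φ n = 1 ↔ Same W (n : G) 1 := by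
    intro n
    constructor
    · intro h w hw
      have h1 := hact' n ⟨w, hw⟩
      rw [h, one_smul] at h1
      have h2 := congrArg (fun z : W => (z : G)) (hψi h1)
      rw [one_mul, inv_one, mul_one]
      exact h2.symm
    · intro h
      apply hfaith
      intro w
      obtain ⟨w, rfl⟩ := hψs w
      rw [hact']
      congr 1
      apply Subtype.ext
      have h1 := h w w.2
      rw [one_mul, inv_one, mul_one] at h1
      exact h1
  have heq : ∀ m n : ↥(normalizer (W : Set G)), φ m = φ n ↔ Same W (m : G) n := by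
    intro m n
    rw [← mul_inv_eq_one, ← map_inv, ← map_mul, hker]
    constructor
    · intro h
      have h2 := h.mul (Same.refl (W := W) (n : G)) (fun w hw => norm_conj n.2 hw)
      rw [one_mul] at h2
      have h3 : ((m * n⁻¹ : ↥(normalizer (W : Set G))) : G) * (n : G) = m := by
        rw [Subgroup.coe_mul, InvMemClass.coe_inv]; group
      rwa [h3] at h2
    · intro h
      exact same_mul_inv h n.2
  -- `V`
  let V' : AddSubgroup (Additive W) :=
    { carrier := {w | ((w.toMul : W) : G) ∈ V}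
      add_mem' := fun {a b} ha hb => V.mul_mem ha hb
      zero_mem' := V.one_mem
      neg_mem' := fun {a} ha => V.inv_mem ha }
  have hV' : ∀ w : W, ψ w ∈ V' ↔ (w : G) ∈ V := fun _ => Iff.rfl
  have hVcard : Nat.card V' = Nat.card V := by
    refine Nat.card_congr ⟨fun w => ⟨((w : Additive W).toMul : W), w.2⟩,
      fun v => ⟨Additive.ofMul ⟨v, E.VW v.2⟩, v.2⟩, fun w => rfl, fun v => rfl⟩
  have hpow : ∀ (n : ↥(normalizer (W : Set G))) (j : ℕ), φ n ^ j = φ (n ^ j) := fun n j =>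
    (map_pow φ n j).symm
  have hd := D.dW
  -- commutation with `t` in `X`
  have htc : ∀ n : ↥(normalizer (W : Set G)), φ n * φ ⟨t, tnorm E⟩ = φ ⟨t, tnorm E⟩ * φ n →
      Same W ((n : G) * t * (n : G)⁻¹) t := by
    intro n h
    have h1 : φ (n * ⟨t, tnorm E⟩ * n⁻¹) = φ ⟨t, tnorm E⟩ := by
      rw [map_mul, map_mul, map_inv, h, mul_inv_cancel_right]
    exact (heq _ _).1 h1
  have hP : Pre V' (Nat.card V) (φ ⟨t, tnorm E⟩) (φ ⟨d, hd⟩) (φ ⟨s, hs⟩) := by
    refine ⟨hfaith, ?_, ?_, ?_, ?_, ?_, ?_, hq, hVcard, ?_, ?_, ?_, ?_, ?_, ?_, ?_, ?_⟩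
    · intro w
      obtain ⟨w, rfl⟩ := hψs w
      rw [← hψa, hψ0]
      exact E.wsq w w.2
    · intro w
      obtain ⟨w, rfl⟩ := hψs w
      rw [hact', hV']
      constructor
      · intro h
        have h1 : t * (w : G) * t⁻¹ = w := congrArg (fun z : W => (z : G)) (hψi h)
        refine E.cW w w.2 ?_
        rw [mul_inv_eq_iff_eq_mul] at h1
        exact h1.symm
      · intro h
        congr 1
        apply Subtype.ext
        change t * (w : G) * t⁻¹ = w
        rw [F.tv h, mul_inv_cancel_right]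
    · intro h
      have h1 := (hker _).1 h
      have h2 := same_iff.1 h1
      rw [inv_one, one_mul] at h2
      exact tnC E hq h2
    · rw [← map_mul]
      have : (⟨t, tnorm E⟩ * ⟨t, tnorm E⟩ : ↥(normalizer (W : Set G))) = 1 := Subtype.ext F.t2
      rw [this, map_one]
    · rw [← map_mul, ← map_mul]
      congr 1
      exact Subtype.ext D.dt.symm
    · obtain ⟨a, ha⟩ := IsPGroup.iff_card.1 (F.T2.to_le F.VT)
      exact ⟨a, ha⟩
    · rw [hpow, hker]
      exact D.ord
    · intro v hv hv0 u hu hu0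
      obtain ⟨v, rfl⟩ := hψs v
      obtain ⟨u, rfl⟩ := hψs u
      obtain ⟨j, hj⟩ := D.reg v ((hV' v).1 hv) (fun h => hv0 ((hψ0 v).2 h)) u ((hV' u).1 hu)
        (fun h => hu0 ((hψ0 u).2 h))
      refine ⟨j, ?_⟩
      rw [hpow]
      exact hact _ _ _ hj.symm
    · rw [← map_mul, hker]
      exact hss
    · rw [← map_mul, ← map_mul]
      congr 1
      exact Subtype.ext hst.symm
    · intro h
      exact hs1 ((hker _).1 h)
    · intro h
      exact hs2 ((heq _ _).1 h)
    · intro x hx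
      obtain ⟨n, rfl⟩ := hφs x
      obtain ⟨j, hj⟩ := D.norm n n.2 (htc n hx)
      refine ⟨j, ?_⟩
      have h1 : φ (n * ⟨d, hd⟩ * n⁻¹) = φ (⟨d, hd⟩ ^ j) := (heq _ _).2 hj
      rw [map_mul, map_mul, map_inv, map_pow] at h1
      rw [← h1]; group
    · intro x hx hxd
      obtain ⟨n, rfl⟩ := hφs x
      have h1 : φ (n * ⟨d, hd⟩ * n⁻¹) = φ ⟨d, hd⟩ := by
        rw [map_mul, map_mul, map_inv, hxd, mul_inv_cancel_right]
      obtain ⟨j, hj | hj⟩ := D.cent E hq n.2 (htc n hx) ((heq _ _).1 h1)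
      · refine ⟨j, Or.inl ?_⟩
        rw [hpow]
        exact (heq _ _).2 hj
      · refine ⟨j, Or.inr ?_⟩
        rw [hpow, ← map_mul]
        exact (heq _ _).2 hj
  haveI : Finite (Additive W) := inferInstanceAs (Finite W)
  haveI : Finite X := Finite.of_surjective φ hφs
  obtain ⟨F', iF, iFin, κ, δ, σ, w₁, hXC, hcard, a, ha⟩ := hP.exists_XC
  refine ⟨X, Additive W, F', inferInstance, inferInstance, iA, iM, iF, iFin, κ, δ, σ, w₁, φ, ψ,
    hXC, ⟨hφs, ⟨hψi, hψs⟩, hψa, hact, ?_⟩, hcard, a, ha⟩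
  intro n
  rw [hker, same_iff, inv_one, one_mul]

/-- **Case (f): the whole input of the X-side.**  `f = φ s`, `y t y⁻¹ = t f` in `X`. -/
theorem of_fout {C₀ U : Subgroup G} (H : FTD t V T C₀) (T0 : Cfsg.Agent.StdL2.Tor t V d)
    (O : FOut t V T d U) :
    ∃ (s : G) (_ : s ∈ T) (hs : s ∈ normalizer (U : Set G)) (ht : t ∈ normalizer (U : Set G))
      (d1 : G) (hd : d1 ∈ normalizer (U : Set G))
      (X W' F' : Type u) (_ : Group X) (_ : Finite X) (_ : AddCommGroup W')
      (_ : DistribMulAction X W') (_ : Field F') (_ : Finite F') (κ : F' →+* AddMonoid.End W')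
      (δ : F'ˣ →* X) (σ : F' ≃+* F') (w₁ : W') (φ : ↥(normalizer (U : Set G)) →* X)
      (ψ : ↥U → W'), s ∉ V ∧ t * s ∉ V ∧ (∀ v ∈ V, d1 * v * d1⁻¹ = d * v * d⁻¹) ∧
      XC κ δ σ (φ ⟨t, ht⟩) (φ ⟨s, hs⟩) w₁ ∧ Trans U φ ψ ∧
      Nat.card F' = Nat.card V ∧ (∃ a, δ a = φ ⟨d1, hd⟩) ∧
      ∃ y : X, y * φ ⟨t, ht⟩ * y⁻¹ = φ ⟨t, ht⟩ * φ ⟨s, hs⟩ := by
  have E := eone H O
  obtain ⟨u, hu, s0, hs0, hs0V, hts0V, hsq, g, hg⟩ := O.bad
  obtain ⟨d1, D, hd1V⟩ := exists_torus H T0 O
  have hTn : ∀ x ∈ T, x ∈ normalizer (U : Set G) := fun x hx => conj_mem_norm (O.TU x hx)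
  have hs0n := hTn s0 hs0
  -- `s = t s0`
  have hsT : t * s0 ∈ T := T.mul_mem H.tT hs0
  have hss0 : s0 * s0 ∈ U := by
    have h1 : s0 * s0 = (s0 * u⁻¹ * s0⁻¹) * u⁻¹ * ((u * s0) * (u * s0)) := by
      group
    rw [h1, hsq, mul_one]
    exact U.mul_mem (norm_conj hs0n (U.inv_mem hu)) (U.inv_mem hu)
  have hst : t * s0 * t = t * (t * s0) := by rw [mul_assoc, H.Tt s0 hs0]
  have hss : (t * s0) * (t * s0) = s0 * s0 := by
    calc (t * s0) * (t * s0) = t * (s0 * t) * s0 := by group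
      _ = t * (t * s0) * s0 := by rw [H.Tt s0 hs0]
      _ = (t * t) * s0 * s0 := by group
      _ = s0 * s0 := by rw [H.t2]; group
  have hcent : ∀ x ∈ T, Same U x 1 → x ∈ V ∨ t * x ∈ V := by
    intro x hx h
    refine H.cV x hx fun v hv => ?_
    have h1 := h v (O.VU hv)
    rw [one_mul, inv_one, mul_one, mul_inv_eq_iff_eq_mul] at h1
    exact h1
  have htts : t * (t * s0) = s0 := by rw [← mul_assoc, H.t2, one_mul]
  obtain ⟨X, W', F', i1, i2, i3, i4, i5, i6, κ, δ, σ, w₁, φ, ψ, hXC, hT, hc, ha⟩ :=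
    bridge E H.card16 D (hTn _ hsT) (by rw [mul_assoc, H.Tt s0 hs0])
      (by rw [hss]; exact same_one_of_mem E hss0)
      (fun h => by
        rcases hcent _ hsT h with h | h
        · exact hts0V h
        · exact hs0V (by rwa [htts] at h))
      (fun h => by
        have h1 : Same U s0 1 := by
          have h2 := (Same.refl (W := U) t).mul h (fun w hw => norm_conj (hTn _ hsT) hw)
          rwa [htts, H.t2] at h2
        rcases hcent _ hs0 h1 with h | h
        · exact hs0V h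
        · exact hts0V h)
  refine ⟨t * s0, hsT, hTn _ hsT, tnorm E, d1, D.dW, X, W', F', i1, i2, i3, i4, i5, i6, κ, δ, σ,
    w₁, φ, ψ, hts0V, by rw [htts]; exact hs0V, hd1V, hXC, hT, hc, ha, ?_⟩
  -- `t ~ u s0`
  have hun : u ∈ normalizer (U : Set G) := le_normalizer hu
  have hus : u * s0 ∈ normalizer (U : Set G) := (normalizer (U : Set G)).mul_mem hun hs0n
  obtain ⟨n, hn, hnt⟩ := E.fusion H.card16 g (fun w hw => by
    rw [hg]; exact norm_conj hus hw)
  rw [hg] at hnt
  refine ⟨φ ⟨n, hn⟩, ?_⟩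
  rw [← map_inv, ← map_mul, ← map_mul, ← map_mul]
  have h1 : (⟨n, hn⟩ * ⟨t, tnorm E⟩ * ⟨n, hn⟩⁻¹ : ↥(normalizer (U : Set G))) =
      ⟨u, hun⟩ * (⟨t, tnorm E⟩ * ⟨t * s0, hTn _ hsT⟩) := by
    apply Subtype.ext
    change n * t * n⁻¹ = u * (t * (t * s0))
    rw [hnt, htts]
  have h2 : φ ⟨u, hun⟩ = 1 := by
    rw [hT.ker]
    exact WC' E hu
  rw [h1, map_mul, h2, one_mul]

end Cfsg.Agent.StdL2.EOneXG
end

-- part: StdL2/FFourSyl
section
/-!
# S1773, case (f), item (4): a Sylow 2-subgroup of `X` normalising `B₀`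
-/

set_option autoImplicit false
set_option linter.unusedSectionVars false

open Subgroup

namespace Cfsg.Agent.StdL2.FFourSyl

open Cfsg.Agent.StdL2.F Cfsg.Agent.StdL2.F.XC Cfsg.Agent.StdL2.FRel Cfsg.Agent.StdL2.FieldStart
open Cfsg.Agent.StdL2.FieldStart.Fld (conj_mem_norm norm_conj norm_conj')
open Cfsg.Agent.StdL2.FFour

variable {X W F : Type*} [Group X] [Finite X] [AddCommGroup W] [DistribMulAction X W] [Field F]
  [Finite F] {κ : F →+* AddMonoid.End W} {d : Fˣ →* X} {σ : F ≃+* F} {t f : X} {w₁ : W}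
  {y : X} {e : AddMonoid.End W} {C : XC κ d σ t f w₁} {Y : YC κ t f y e}

theorem t_norm : t ∈ normalizer (B0 Y C : Set X) := by
  refine conj_mem_norm ?_
  rintro _ ⟨a, ha, b, hb, rfl⟩
  have h1 : t * d a * t⁻¹ = d a := by rw [C.td, mul_inv_cancel_right]
  have h0 := Y.yt' C
  have h2 : t * y = y * (t * f) := by rw [← h0]; group
  have h3 : t * (y * d b * y⁻¹) * t⁻¹ = y * (d b)⁻¹ * y⁻¹ := by
    have h4 : t * y * d b * (t * y)⁻¹ = y * (t * (f * d b * f⁻¹) * t⁻¹) * y⁻¹ := by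
      rw [h2]; group
    have h5 : t * (d b)⁻¹ * t⁻¹ = (d b)⁻¹ := by
      rw [← map_inv, C.td, mul_inv_cancel_right]
    calc t * (y * d b * y⁻¹) * t⁻¹ = t * y * d b * (t * y)⁻¹ := by group
      _ = y * (t * (d b)⁻¹ * t⁻¹) * y⁻¹ := by rw [h4, f_inv_d C hb]
      _ = _ := by rw [h5]
  refine ⟨a, ha, b⁻¹, inv_mem hb, ?_⟩
  calc t * (d a * (y * d b * y⁻¹)) * t⁻¹ = (t * d a * t⁻¹) * (t * (y * d b * y⁻¹) * t⁻¹) := by
        group
    _ = _ := by rw [h1, h3, map_inv]

theorem y_norm : y ∈ normalizer (B0 Y C : Set X) := by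
  refine norm_of Y.yf' ?_
  rw [Y.yt]
  exact mul_mem t_norm f_norm

/-- powers of an element -/
theorem exists_two_part (g : X) : ∃ m : ℕ, Odd m ∧ IsPGroup 2 (zpowers (g ^ m)) := by
  haveI : Fact (Nat.Prime 2) := ⟨Nat.prime_two⟩
  obtain ⟨k, m, hm, h⟩ := Nat.exists_eq_two_pow_mul_odd (orderOf_pos g).ne'
  refine ⟨m, hm, ?_⟩
  rw [IsPGroup.iff_card, Nat.card_zpowers]
  refine ⟨k, ?_⟩
  rw [orderOf_pow, h]
  have : Nat.gcd (2 ^ k * m) m = m := Nat.gcd_eq_right (Dvd.intro_left _ rfl)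
  rw [this, Nat.mul_div_cancel _ hm.pos]

theorem isPGroup_zpowers_inv {g : X} (h : g * g = 1) : IsPGroup 2 (zpowers g) := by
  haveI : Fact (Nat.Prime 2) := ⟨Nat.prime_two⟩
  intro x
  obtain ⟨x, n, rfl⟩ := x
  refine ⟨1, Subtype.ext ?_⟩
  simp only [SubmonoidClass.mk_pow, pow_one, OneMemClass.coe_one]
  change (g ^ n) ^ 2 = 1
  rw [← zpow_natCast, ← zpow_mul, mul_comm, zpow_mul, zpow_natCast, pow_two, h, one_zpow]

/-- the Sylow 2-subgroup -/
theorem exists_syl (C : XC κ d σ t f w₁) (Y : YC κ t f y e) :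
    ∃ (P : Subgroup X) (y' : X), IsSyl ⊤ P ∧ (∀ s ∈ P, s ∈ normalizer (B0 Y C : Set X)) ∧
      (∀ s ∈ P, s * f = f * s) ∧ t ∈ P ∧ f ∈ P ∧ y' ∈ P ∧ y' * t * y'⁻¹ = t * f := by
  haveI : Fact (Nat.Prime 2) := ⟨Nat.prime_two⟩
  -- the 2-part of y
  obtain ⟨m, hm, hm2⟩ := exists_two_part y
  have hy2t : y * y * t * (y * y)⁻¹ = t := by
    calc y * y * t * (y * y)⁻¹ = y * (y * t * y⁻¹) * y⁻¹ := by group
      _ = y * (t * f) * y⁻¹ := by rw [Y.yt]
      _ = (y * t * y⁻¹) * (y * f * y⁻¹) := by group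
      _ = t * f * f := by rw [Y.yt, Y.yf]
      _ = t := by rw [mul_assoc, C.ff, mul_one]
  have hypow : ∀ k : ℕ, (y * y) ^ k * t * ((y * y) ^ k)⁻¹ = t := by
    intro k
    induction k with
    | zero => simp
    | succ k ih =>
      calc (y * y) ^ (k + 1) * t * ((y * y) ^ (k + 1))⁻¹ =
          (y * y) ^ k * ((y * y) * t * (y * y)⁻¹) * ((y * y) ^ k)⁻¹ := by
            rw [pow_succ]; group
        _ = t := by rw [hy2t, ih]
  set y' := y ^ m with hy'
  have hy't : y' * t * y'⁻¹ = t * f := by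
    obtain ⟨k, hk⟩ := hm
    have h1 : y' = y * (y * y) ^ k := by
      rw [hy', hk, pow_succ', pow_mul, pow_two]
    calc y' * t * y'⁻¹ = y * ((y * y) ^ k * t * ((y * y) ^ k)⁻¹) * y⁻¹ := by rw [h1]; group
      _ = t * f := by rw [hypow, Y.yt]
  have hy'f : y' * f = f * y' := (Commute.pow_left (show Commute y f from Y.yf') m).eq
  have hy'N : y' ∈ normalizer (B0 Y C : Set X) := Subgroup.pow_mem _ y_norm _
  -- the four-group
  have hfE : IsPGroup 2 (zpowers t ⊔ zpowers f : Subgroup X) := by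
    refine isPGroup_sup (isPGroup_zpowers_inv C.tt) (isPGroup_zpowers_inv C.ff) ?_
    rw [zpowers_le]
    refine conj_mem_norm ?_
    rintro _ ⟨n, rfl⟩
    have : f * t * f⁻¹ = t := by rw [← C.tf, mul_inv_cancel_right]
    refine ⟨n, ?_⟩
    change t ^ n = f * t ^ n * f⁻¹
    rw [← conj_zpow, this]
  set E : Subgroup X := zpowers t ⊔ zpowers f with hE
  have htE : t ∈ E := le_sup_left (a := zpowers t) (mem_zpowers t)
  have hfE' : f ∈ E := le_sup_right (a := zpowers t) (mem_zpowers f)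
  have hQ : IsPGroup 2 (E ⊔ zpowers y' : Subgroup X) := by
    refine isPGroup_sup hfE hm2 ?_
    rw [zpowers_le]
    have hle : E ≤ E.comap (MulAut.conj y').toMonoidHom := by
      rw [hE, sup_le_iff, zpowers_le, zpowers_le]
      constructor
      · change y' * t * y'⁻¹ ∈ E
        rw [hy't]; exact mul_mem htE hfE'
      · change y' * f * y'⁻¹ ∈ E
        rw [hy'f, mul_inv_cancel_right]; exact hfE'
    exact conj_mem_norm fun w hw => hle hw
  set Q : Subgroup X := E ⊔ zpowers y' with hQdef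
  set K : Subgroup X := centralizer {f} ⊓ normalizer (B0 Y C : Set X) with hK
  have hQK : Q ≤ K := by
    rw [hQdef, hE, sup_le_iff, sup_le_iff, zpowers_le, zpowers_le, zpowers_le, hK]
    refine ⟨⟨⟨?_, t_norm⟩, ⟨?_, f_norm⟩⟩, ⟨?_, hy'N⟩⟩
    · exact mem_centralizer_singleton_iff.2 C.tf
    · exact mem_centralizer_singleton_iff.2 rfl
    · exact mem_centralizer_singleton_iff.2 hy'f
  obtain ⟨P, hP, hQP⟩ := exists_isSyl K Q hQ hQK
  have htP : t ∈ P := hQP (le_sup_left (a := E) htE)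
  have hfP : f ∈ P := hQP (le_sup_left (a := E) hfE')
  have hyP : y' ∈ P := hQP (le_sup_right (a := E) (mem_zpowers y'))
  have hPf : ∀ s ∈ P, s * f = f * s := fun s hs => mem_centralizer_singleton_iff.1 (hP.2.1 hs).1
  have hPN : ∀ s ∈ P, s ∈ normalizer (B0 Y C : Set X) := fun s hs => (hP.2.1 hs).2
  refine ⟨P, y', ⟨hP.1, le_top, ?_⟩, hPN, hPf, htP, hfP, hyP, hy't⟩
  intro R hR hPR _
  by_contra hRP
  have hlt : P < R := lt_of_le_of_ne hPR (fun h => hRP h.ge)
  obtain ⟨n, hnR, hnP, hnn⟩ := exists_normalizer_gt hR hlt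
  -- `n` centralises `f`
  have hnf : n * f * n⁻¹ = f := by
    have hu : n * f * n⁻¹ ∈ P := norm_conj hnn hfP
    have hcen : ∀ s ∈ P, n * f * n⁻¹ * s = s * (n * f * n⁻¹) := by
      intro s hs
      have h1 := hPf _ (norm_conj' hnn hs)
      calc n * f * n⁻¹ * s = n * (f * (n⁻¹ * s * n)) * n⁻¹ := by group
        _ = n * ((n⁻¹ * s * n) * f) * n⁻¹ := by rw [h1]
        _ = s * (n * f * n⁻¹) := by group
    have huu : n * f * n⁻¹ * (n * f * n⁻¹) = 1 := by
      calc n * f * n⁻¹ * (n * f * n⁻¹) = n * (f * f) * n⁻¹ := by group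
        _ = 1 := by rw [C.ff]; group
    rcases inv_cases C (hcen t htP) (hcen f hfP) huu with h | h | h | h
    · exfalso
      apply C.f_ne_one
      calc f = n⁻¹ * (n * f * n⁻¹) * n := by group
        _ = 1 := by rw [h]; group
    · exfalso
      have h1 := hcen y' hyP
      rw [h] at h1
      have h2 : y' * t * y'⁻¹ = t := by rw [← h1, mul_inv_cancel_right]
      rw [hy't] at h2
      exact C.f_ne_one (mul_left_cancel (h2.trans (mul_one t).symm))
    · exact h
    · exfalso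
      have h1 := hcen y' hyP
      rw [h] at h1
      have h2 : y' * (t * f) * y'⁻¹ = t * f := by rw [← h1, mul_inv_cancel_right]
      have h3 : y' * (t * f) * y'⁻¹ = t := by
        calc y' * (t * f) * y'⁻¹ = (y' * t * y'⁻¹) * (y' * f * y'⁻¹) := by group
          _ = t * f * f := by rw [hy't, hy'f, mul_inv_cancel_right]
          _ = t := by rw [mul_assoc, C.ff, mul_one]
      rw [h3] at h2
      exact C.f_ne_one (mul_left_cancel ((mul_one t).trans h2)).symm
  have hnf' : n * f = f * n := by rw [mul_inv_eq_iff_eq_mul] at hnf; exact hnf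
  have hnN : n ∈ normalizer (B0 Y C : Set X) := norm_of hnf' (hPN _ (norm_conj hnn htP))
  have hnK : n ∈ K := ⟨mem_centralizer_singleton_iff.2 hnf', hnN⟩
  have h1 : P ⊔ zpowers n ≤ R := sup_le hPR ((zpowers_le).2 hnR)
  have h2 := hP.2.2 (P ⊔ zpowers n) (hR.to_le h1) le_sup_left
    (sup_le hP.2.1 ((zpowers_le).2 hnK))
  exact hnP (h2 (le_sup_right (a := P) (mem_zpowers n)))

end Cfsg.Agent.StdL2.FFourSyl
end

-- part: StdL2/FFourLines
section
/-!
# S1773, case (f), item (4): the two lines, and the wreathed structure on `X`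
-/

set_option autoImplicit false
set_option linter.unusedSectionVars false

open Subgroup

namespace Cfsg.Agent.StdL2.FFourLines

open Cfsg.Agent.StdL2.F Cfsg.Agent.StdL2.F.XC Cfsg.Agent.StdL2.FRel Cfsg.Agent.StdL2.FieldStart
open Cfsg.Agent.StdL2.FieldStart.Fld (conj_mem_norm norm_conj norm_conj')
open Cfsg.Agent.StdL2.FFour Cfsg.Agent.StdL2.FFourSyl

variable {X W F : Type*} [Group X] [Finite X] [AddCommGroup W] [DistribMulAction X W] [Field F]
  [Finite F] {κ : F →+* AddMonoid.End W} {d : Fˣ →* X} {σ : F ≃+* F} {t f : X} {w₁ : W}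
  {y : X} {e : AddMonoid.End W} {C : XC κ d σ t f w₁} {Y : YC κ t f y e}

/-- the first line -/
def L1 (e : AddMonoid.End W) : AddSubgroup W where
  carrier := {v | e v = v}
  zero_mem' := map_zero e
  add_mem' := by
    intro a b ha hb
    change e (a + b) = a + b
    rw [map_add, show e a = a from ha, show e b = b from hb]
  neg_mem' := by
    intro a ha
    change e (-a) = -a
    rw [map_neg, show e a = a from ha]

/-- the second line -/
def L2 (e : AddMonoid.End W) : AddSubgroup W where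
  carrier := {v | e v = 0}
  zero_mem' := map_zero e
  add_mem' := by
    intro a b ha hb
    change e (a + b) = 0
    rw [map_add, show e a = 0 from ha, show e b = 0 from hb, add_zero]
  neg_mem' := by
    intro a ha
    change e (-a) = 0
    rw [map_neg, show e a = 0 from ha, neg_zero]

theorem mem_L1 {v : W} : v ∈ L1 e ↔ e v = v := Iff.rfl
theorem mem_L2 {v : W} : v ∈ L2 e ↔ e v = 0 := Iff.rfl

theorem disj {v : W} (h1 : v ∈ L1 e) (h2 : v ∈ L2 e) : v = 0 := by
  rw [← mem_L1.1 h1, mem_L2.1 h2]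

theorem gen (Y : YC κ t f y e) (w : W) : ∃ a ∈ L1 e, ∃ b ∈ L2 e, w = a + b := by
  have he : ∀ v, e (e v) = e v := fun v => DFunLike.congr_fun Y.e2 v
  refine ⟨e w, he w, w - e w, ?_, by abel⟩
  rw [mem_L2, map_sub, he, sub_self]

/-- uniqueness of the decomposition -/
theorem uniq {a a' b b' : W} (ha : a ∈ L1 e) (ha' : a' ∈ L1 e) (hb : b ∈ L2 e) (hb' : b' ∈ L2 e)
    (h : a + b = a' + b') : a = a' ∧ b = b' := by
  have h1 := congrArg e h
  rw [map_add, map_add, mem_L1.1 ha, mem_L1.1 ha', mem_L2.1 hb, mem_L2.1 hb', add_zero,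
    add_zero] at h1
  subst h1
  exact ⟨rfl, add_left_cancel h⟩

theorem te' (Y : YC κ t f y e) (v : W) : t • e v = e (t • v) + t • v :=
  DFunLike.congr_fun Y.te v

theorem t1 (Y : YC κ t f y e) {v : W} (h : v ∈ L1 e) : t • v ∈ L2 e := by
  have h1 := te' Y v
  rw [mem_L1.1 h] at h1
  rw [mem_L2]
  exact (add_eq_right.1 h1.symm)

theorem t2 (C : XC κ d σ t f w₁) (Y : YC κ t f y e) {v : W} (h : v ∈ L2 e) : t • v ∈ L1 e := by
  have h1 := te' Y v
  rw [mem_L2.1 h, smul_zero] at h1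
  rw [mem_L1]
  exact (C.add_eq_zero_iff_W.1 h1.symm)

theorem k1 (Y : YC κ t f y e) (a : F) {v : W} (h : v ∈ L1 e) : κ a v ∈ L1 e := by
  have h1 : e (κ a v) = κ a (e v) := DFunLike.congr_fun (Y.ek a) v
  rw [mem_L1, h1, mem_L1.1 h]

theorem k2 (Y : YC κ t f y e) (a : F) {v : W} (h : v ∈ L2 e) : κ a v ∈ L2 e := by
  have h1 : e (κ a v) = κ a (e v) := DFunLike.congr_fun (Y.ek a) v
  rw [mem_L2, h1, mem_L2.1 h, map_zero]

theorem f1 (Y : YC κ t f y e) {v : W} (h : v ∈ L1 e) : f • v ∈ L1 e := by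
  have h1 : e (f • v) = f • (e v) := DFunLike.congr_fun Y.ef v
  rw [mem_L1, h1, mem_L1.1 h]

theorem f2 (Y : YC κ t f y e) {v : W} (h : v ∈ L2 e) : f • v ∈ L2 e := by
  have h1 : e (f • v) = f • (e v) := DFunLike.congr_fun Y.ef v
  rw [mem_L2, h1, mem_L2.1 h, smul_zero]

theorem rho_yd (C : XC κ d σ t f w₁) (b : Fˣ) :
    rho X W (y * d b * y⁻¹) = rho X W y * κ b * rho X W y⁻¹ := by
  rw [map_mul, map_mul, C.rho_d]

theorem B1 {z : X} (hz : z ∈ B0 Y C) {v : W} (h : v ∈ L1 e) : z • v ∈ L1 e := by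
  obtain ⟨a, _, b, _, rfl⟩ := hz
  have h1 : e ((y * d b * y⁻¹) • v) = (y * d b * y⁻¹) • (e v) := by
    have := DFunLike.congr_fun (Y.ek' b) v
    rw [← rho_yd C b] at this
    exact this
  rw [mul_smul, C.act]
  apply k1 Y
  rw [mem_L1, h1, mem_L1.1 h]

theorem B2 {z : X} (hz : z ∈ B0 Y C) {v : W} (h : v ∈ L2 e) : z • v ∈ L2 e := by
  obtain ⟨a, _, b, _, rfl⟩ := hz
  have h1 : e ((y * d b * y⁻¹) • v) = (y * d b * y⁻¹) • (e v) := by
    have := DFunLike.congr_fun (Y.ek' b) v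
    rw [← rho_yd C b] at this
    exact this
  rw [mul_smul, C.act]
  apply k2 Y
  rw [mem_L2, h1, mem_L2.1 h, smul_zero]

theorem Bk {z : X} (hz : z ∈ B0 Y C) (a : F) (v : W) : z • κ a v = κ a (z • v) := by
  obtain ⟨a', _, b, _, rfl⟩ := hz
  have h1 : rho X W (d a' * (y * d b * y⁻¹)) * κ a = κ a * rho X W (d a' * (y * d b * y⁻¹)) := by
    have h2 : κ (a' : F) * κ a = κ a * κ a' := by rw [← map_mul, ← map_mul, mul_comm]
    rw [map_mul, C.rho_d, rho_yd C, mul_assoc (κ (a' : F)), ← Y.kk' a b, ← mul_assoc, h2,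
      mul_assoc]
  exact DFunLike.congr_fun h1 v

/-! ### the lines are lines -/

theorem finite_W (C : XC κ d σ t f w₁) : Finite W := by
  refine Finite.of_surjective (fun p : F × F => κ p.1 w₁ + κ p.2 (t • w₁ + w₁)) ?_
  intro w
  obtain ⟨a, b, h⟩ := C.span w
  exact ⟨(a, b), h.symm⟩

theorem card_W (C : XC κ d σ t f w₁) : Nat.card W = Nat.card F ^ 2 := by
  have h : Function.Bijective (fun p : F × F => κ p.1 w₁ + κ p.2 (t • w₁ + w₁)) := by
    constructor
    · rintro ⟨a, b⟩ ⟨a', b'⟩ hab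
      have h1 : κ (a - a') w₁ + κ (b - b') (t • w₁ + w₁) = 0 := by
        rw [map_sub, map_sub]
        change κ a w₁ - κ a' w₁ + (κ b (t • w₁ + w₁) - κ b' (t • w₁ + w₁)) = 0
        have : κ a w₁ + κ b (t • w₁ + w₁) = κ a' w₁ + κ b' (t • w₁ + w₁) := hab
        rw [sub_add_sub_comm, this, sub_self]
      obtain ⟨h2, h3⟩ := C.indep _ _ h1
      exact Prod.ext (sub_eq_zero.1 h2) (sub_eq_zero.1 h3)
    · intro w
      obtain ⟨a, b, h⟩ := C.span w
      exact ⟨(a, b), h.symm⟩
  rw [← Nat.card_eq_of_bijective _ h, Nat.card_prod, pow_two]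

theorem card_L1 (C : XC κ d σ t f w₁) (Y : YC κ t f y e) : Nat.card (L1 e) = Nat.card F := by
  haveI := finite_W C
  have h1 : Nat.card W = Nat.card (L1 e) * Nat.card (L2 e) := by
    have h : Function.Bijective (fun p : L1 e × L2 e => (p.1 : W) + (p.2 : W)) := by
      constructor
      · rintro ⟨a, b⟩ ⟨a', b'⟩ hab
        obtain ⟨h2, h3⟩ := uniq a.2 a'.2 b.2 b'.2 hab
        exact Prod.ext (Subtype.ext h2) (Subtype.ext h3)
      · intro w
        obtain ⟨a, ha, b, hb, h⟩ := gen Y w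
        exact ⟨(⟨a, ha⟩, ⟨b, hb⟩), h.symm⟩
    rw [← Nat.card_eq_of_bijective _ h, Nat.card_prod]
  have h2 : Nat.card (L1 e) = Nat.card (L2 e) := by
    refine Nat.card_eq_of_bijective (fun v : L1 e => (⟨t • (v : W), t1 Y v.2⟩ : L2 e)) ⟨?_, ?_⟩
    · intro a b h
      have := congrArg Subtype.val h
      exact Subtype.ext (smul_left_cancel t this)
    · intro b
      refine ⟨⟨t • (b : W), t2 C Y b.2⟩, Subtype.ext ?_⟩
      change t • t • (b : W) = b
      rw [smul_smul, C.tt, one_smul]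
  rw [← h2, card_W C, ← pow_two] at h1
  exact (Nat.pow_left_injective (n := 2) (by norm_num) h1).symm

theorem card_L1_sq (C : XC κ d σ t f w₁) (Y : YC κ t f y e) :
    Nat.card (L1 e) ^ 2 = Nat.card W := by
  rw [card_L1 C Y, card_W C]

theorem exists_v0 (C : XC κ d σ t f w₁) (Y : YC κ t f y e) : ∃ v ∈ L1 e, v ≠ 0 := by
  haveI := finite_W C
  by_contra hcon
  push Not at hcon
  have h1 := card_L1 C Y
  have h2 : 1 < Nat.card F := Finite.one_lt_card
  have h3 : L1 e = ⊥ := (AddSubgroup.eq_bot_iff_forall _).2 hcon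
  rw [h3] at h1
  rw [AddSubgroup.card_bot] at h1
  omega

theorem line (C : XC κ d σ t f w₁) (Y : YC κ t f y e) {v₀ : W} (h0 : v₀ ∈ L1 e) (hne : v₀ ≠ 0) :
    Function.Bijective (fun a : F => (⟨κ a v₀, k1 Y a h0⟩ : L1 e)) := by
  haveI := finite_W C
  rw [Nat.bijective_iff_injective_and_card]
  refine ⟨?_, (card_L1 C Y).symm⟩
  intro a b h
  exact kappa_uniq κ hne (congrArg Subtype.val h)

/-- a `κ`-linear element preserving `L₁` acts as a scalar -/
theorem exists_scal (C : XC κ d σ t f w₁) (Y : YC κ t f y e) {z : X}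
    (hz : ∀ a, ∀ v ∈ L1 e, z • κ a v = κ a (z • v)) (h1 : ∀ v ∈ L1 e, z • v ∈ L1 e) :
    ∃ α : F, ∀ v ∈ L1 e, z • v = κ α v := by
  obtain ⟨v₀, h0, hne⟩ := exists_v0 C Y
  have hl := (line C Y h0 hne).2
  obtain ⟨α, hα⟩ := hl ⟨z • v₀, h1 _ h0⟩
  have hα' : κ α v₀ = z • v₀ := congrArg Subtype.val hα
  refine ⟨α, fun v hv => ?_⟩
  obtain ⟨a, ha⟩ := hl ⟨v, hv⟩
  have ha' : κ a v₀ = v := congrArg Subtype.val ha
  rw [← ha', hz a _ h0, ← hα', ← kappa_mul_apply, ← kappa_mul_apply, mul_comm]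

theorem B_scal1 {z : X} (hz : z ∈ B0 Y C) : ∃ α : F, ∀ v ∈ L1 e, z • v = κ α v :=
  exists_scal C Y (fun a v _ => Bk hz a v) fun _ hv => B1 hz hv

theorem B_scal2 {z : X} (hz : z ∈ B0 Y C) : ∃ α : F, ∀ v ∈ L2 e, z • v = κ α v := by
  have h1 : t * z * t⁻¹ ∈ B0 Y C := norm_conj t_norm hz
  obtain ⟨α, hα⟩ := B_scal1 h1
  refine ⟨α, fun v hv => ?_⟩
  have h2 := hα _ (t2 C Y hv)
  have h3 : (t * z * t⁻¹) • t • v = t • z • v := by
    rw [smul_smul, smul_smul, inv_mul_cancel_right]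
  rw [h3, ← C.t_smul_kappa] at h2
  exact smul_left_cancel t h2

/-- `t` inverts `y d y⁻¹` -/
theorem t_inv_yd {b : Fˣ} (Y : YC κ t f y e) (C : XC κ d σ t f w₁) (hb : b ∈ N1 σ) :
    t * (y * d b * y⁻¹) * t⁻¹ = (y * d b * y⁻¹)⁻¹ := by
  have h0 := Y.yt' C
  have h2 : t * y = y * (t * f) := by rw [← h0]; group
  have h4 : t * y * d b * (t * y)⁻¹ = y * (t * (f * d b * f⁻¹) * t⁻¹) * y⁻¹ := by
    rw [h2]; group
  have h5 : t * (d b)⁻¹ * t⁻¹ = (d b)⁻¹ := by
    rw [← map_inv, C.td, mul_inv_cancel_right]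
  calc t * (y * d b * y⁻¹) * t⁻¹ = t * y * d b * (t * y)⁻¹ := by group
    _ = y * (t * (d b)⁻¹ * t⁻¹) * y⁻¹ := by rw [h4, f_inv_d C hb]
    _ = y * (d b)⁻¹ * y⁻¹ := by rw [h5]
    _ = _ := by group

theorem exists_N1 (C : XC κ d σ t f w₁) : ∃ b ∈ N1 σ, b ≠ 1 := by
  obtain ⟨a, ha⟩ := C.sig1
  have ha0 : a ≠ 0 := fun h => ha (by rw [h, map_zero])
  have hs0 : σ a ≠ 0 := (map_ne_zero_iff σ σ.injective).2 ha0
  refine ⟨Units.mk0 (a / σ a) (div_ne_zero ha0 hs0), ?_, ?_⟩
  · rw [mem_N1, Units.val_mk0, map_div₀, C.sig]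
    field_simp
  · intro h
    have h1 := congrArg (fun u : Fˣ => (u : F)) h
    simp only [Units.val_mk0, Units.val_one] at h1
    rw [div_eq_one_iff_eq hs0] at h1
    exact ha h1.symm

/-- an element of `B₀` trivial on `L₁` and a nontrivial scalar on `L₂` -/
theorem exists_z2 (C : XC κ d σ t f w₁) (Y : YC κ t f y e) :
    ∃ z ∈ B0 Y C, (∀ v ∈ L1 e, z • v = v) ∧ ∃ β : F, β ≠ 1 ∧ ∀ v ∈ L2 e, z • v = κ β v := by
  obtain ⟨b, hb, hb1⟩ := exists_N1 C
  obtain ⟨v₀, h0, hne⟩ := exists_v0 C Y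
  have hc : y * d b * y⁻¹ ∈ B0 Y C := yd_mem hb
  set c := y * d b * y⁻¹ with hcdef
  have hc1 : c ≠ 1 := by
    intro h
    apply hb1
    apply C.d_inj
    rw [map_one]
    calc d b = y⁻¹ * c * y := by rw [hcdef]; group
      _ = 1 := by rw [h]; group
  obtain ⟨l, hl⟩ := B_scal1 hc
  have hl0 : l ≠ 0 := by
    intro h
    have h1 := hl v₀ h0
    rw [h, map_zero] at h1
    apply hne
    have h2 : c • v₀ = 0 := h1
    rwa [smul_eq_zero_iff_eq] at h2
  have hinv1 : ∀ v ∈ L1 e, c⁻¹ • v = κ l⁻¹ v := by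
    intro v hv
    rw [inv_smul_eq_iff, hl _ (k1 Y _ hv), ← kappa_mul_apply, mul_inv_cancel₀ hl0,
      kappa_one_apply]
  have hct : t * c = c⁻¹ * t := by
    have := t_inv_yd Y C hb
    rw [← hcdef] at this
    rw [← this]; group
  have hct' : c * t = t * c⁻¹ := by
    calc c * t = c * (t * c) * c⁻¹ := by group
      _ = c * (c⁻¹ * t) * c⁻¹ := by rw [hct]
      _ = t * c⁻¹ := by group
  have hl2 : ∀ v ∈ L2 e, c • v = κ l⁻¹ v := by
    intro v hv
    have h1 : v = t • t • v := by rw [smul_smul, C.tt, one_smul]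
    rw [h1, smul_smul, hct', mul_smul, hinv1 _ (t2 C Y hv), C.t_smul_kappa]
  have hl1 : l ≠ 1 := by
    intro h
    apply hc1
    apply C.faithful
    intro w
    obtain ⟨a, ha, b, hb, rfl⟩ := gen Y w
    rw [smul_add, hl a ha, hl2 b hb, h, inv_one, kappa_one_apply, kappa_one_apply]
  -- `l` has norm one
  have hlN : σ l = l⁻¹ := by
    have hfc : f * c = c⁻¹ * f := by
      have := B0_f hc
      rw [mul_inv_eq_iff_eq_mul] at this
      exact this
    have h1 : (f * c) • v₀ = κ (σ l) (f • v₀) := by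
      rw [mul_smul, hl _ h0, C.f_smul_kappa]
    have h2 : (f * c) • v₀ = κ l⁻¹ (f • v₀) := by
      rw [hfc, mul_smul, hinv1 _ (f1 Y h0)]
    have hfn : f • v₀ ≠ 0 := by
      intro h
      exact hne ((smul_eq_zero_iff_eq f).1 h)
    exact kappa_uniq κ hfn (h1.symm.trans h2)
  have hlm : Units.mk0 l hl0 ∈ N1 σ := by
    rw [mem_N1, Units.val_mk0, hlN, mul_inv_cancel₀ hl0]
  have hd : ∀ v : W, (d (Units.mk0 l hl0))⁻¹ • v = κ l⁻¹ v := by
    intro v
    rw [inv_smul_eq_iff, C.act, Units.val_mk0, ← kappa_mul_apply, mul_inv_cancel₀ hl0,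
      kappa_one_apply]
  refine ⟨(d (Units.mk0 l hl0))⁻¹ * c, mul_mem (inv_mem (d_mem hlm)) hc, ?_, l⁻¹ * l⁻¹, ?_, ?_⟩
  · intro v hv
    rw [mul_smul, hl v hv, hd, ← kappa_mul_apply, inv_mul_cancel₀ hl0, kappa_one_apply]
  · intro h
    apply hl1
    have h1 := unit_sq C h
    rwa [inv_eq_one] at h1
  · intro v hv
    rw [mul_smul, hl2 v hv, hd, ← kappa_mul_apply]

/-! ### the permutation of the lines -/

theorem perm_one {n : X} (hn : n ∈ normalizer (B0 Y C : Set X)) :
    (∀ v ∈ L1 e, n • v ∈ L1 e) ∨ (∀ v ∈ L1 e, n • v ∈ L2 e) := by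
  obtain ⟨z, hz, hz1, β, hβ, hzβ⟩ := exists_z2 C Y
  obtain ⟨v₀, h0, hne⟩ := exists_v0 C Y
  have hz' : n * z * n⁻¹ ∈ B0 Y C := norm_conj hn hz
  obtain ⟨a1, ha1⟩ := B_scal1 hz'
  obtain ⟨a2, ha2⟩ := B_scal2 hz'
  have hfix : ∀ v ∈ L1 e, ∀ a ∈ L1 e, ∀ b ∈ L2 e, n • v = a + b → κ a1 a = a ∧ κ a2 b = b := by
    intro v hv a ha b hb h
    have h1 : (n * z * n⁻¹) • n • v = n • v := by
      rw [smul_smul, inv_mul_cancel_right, mul_smul, hz1 v hv]
    rw [h, smul_add, ha1 a ha, ha2 b hb] at h1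
    exact uniq (k1 Y _ ha) ha (k2 Y _ hb) hb h1
  by_cases h1 : a1 = 1
  · left
    have h2 : a2 ≠ 1 := by
      intro h2
      have h3 : n * z * n⁻¹ = 1 := by
        apply C.faithful
        intro w
        obtain ⟨a, ha, b, hb, rfl⟩ := gen Y w
        rw [smul_add, ha1 a ha, ha2 b hb, h1, h2, kappa_one_apply, kappa_one_apply]
      have h4 : z = 1 := by
        calc z = n⁻¹ * (n * z * n⁻¹) * n := by group
          _ = 1 := by rw [h3]; group
      have h5 := hzβ _ (t1 Y h0)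
      rw [h4, one_smul] at h5
      have h6 : t • v₀ ≠ 0 := fun h => hne ((smul_eq_zero_iff_eq t).1 h)
      exact hβ (kappa_uniq κ h6 (h5.symm.trans (kappa_one_apply κ _).symm))
    intro v hv
    obtain ⟨a, ha, b, hb, h⟩ := gen Y (n • v)
    have h3 := (hfix v hv a ha b hb h).2
    have h4 : b = 0 := by
      by_contra hb0
      exact h2 (kappa_uniq κ hb0 (h3.trans (kappa_one_apply κ _).symm))
    rw [h, h4, add_zero]; exact ha
  · right
    intro v hv
    obtain ⟨a, ha, b, hb, h⟩ := gen Y (n • v)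
    have h3 := (hfix v hv a ha b hb h).1
    have h4 : a = 0 := by
      by_contra ha0
      exact h1 (kappa_uniq κ ha0 (h3.trans (kappa_one_apply κ _).symm))
    rw [h, h4, zero_add]; exact hb

theorem perm {n : X} (hn : n ∈ normalizer (B0 Y C : Set X)) :
    ((∀ v ∈ L1 e, n • v ∈ L1 e) ∧ (∀ v ∈ L2 e, n • v ∈ L2 e)) ∨
      ((∀ v ∈ L1 e, n • v ∈ L2 e) ∧ (∀ v ∈ L2 e, n • v ∈ L1 e)) := by
  obtain ⟨v₀, h0, hne⟩ := exists_v0 C Y
  have htn : t • v₀ ≠ 0 := fun h => hne ((smul_eq_zero_iff_eq t).1 h)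
  have hnt : n * t ∈ normalizer (B0 Y C : Set X) := mul_mem hn t_norm
  have e1 : ∀ v : W, (n * t) • t • v = n • v := by
    intro v
    rw [smul_smul, mul_assoc, C.tt, mul_one]
  have himp : ∀ A : AddSubgroup W, (∀ v ∈ L1 e, n • v ∈ A) → (∀ v ∈ L2 e, n • v ∈ A) →
      ∀ w : W, w ∈ A := by
    intro A h1 h2 w
    obtain ⟨a, ha, b, hb, h⟩ := gen Y (n⁻¹ • w)
    have h3 : w = n • a + n • b := by rw [← smul_add, ← h, smul_inv_smul]
    rw [h3]
    exact A.add_mem (h1 a ha) (h2 b hb)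
  have h2 : (∀ v ∈ L2 e, n • v ∈ L1 e) ∨ (∀ v ∈ L2 e, n • v ∈ L2 e) := by
    rcases perm_one hnt with h | h
    · left
      intro v hv
      have := h _ (t2 C Y hv)
      rwa [e1] at this
    · right
      intro v hv
      have := h _ (t2 C Y hv)
      rwa [e1] at this
  rcases perm_one hn with h | h <;> rcases h2 with h' | h'
  · exact absurd (disj (himp _ h h' _) (t1 Y h0)) htn
  · exact Or.inl ⟨h, h'⟩
  · exact Or.inr ⟨h, h'⟩
  · exact absurd (disj h0 (himp _ h h' _)) hne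

/-! ### the field automorphism on `L₁` -/

/-- a subring containing the elements of norm 1 is everything -/
theorem N1_gen (C : XC κ d σ t f w₁) (R : Subring F) (h : ∀ a ∈ N1 σ, (a : F) ∈ R) (x : F) :
    x ∈ R := by
  classical
  have hinv : ∀ a ∈ R, a⁻¹ ∈ R := by
    intro a ha
    by_cases h0 : a = 0
    · rw [h0, inv_zero]; exact R.zero_mem
    haveI := Fintype.ofFinite F
    have h1 : a ^ (Fintype.card F - 1) = 1 := FiniteField.pow_card_sub_one_eq_one a h0
    have h2 : 1 < Fintype.card F := Fintype.one_lt_card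
    have h3 : a ^ (Fintype.card F - 2) * a = 1 := by
      rw [← pow_succ, ← h1]; congr 1; omega
    have h4 : a⁻¹ = a ^ (Fintype.card F - 2) := (eq_inv_of_mul_eq_one_left h3).symm
    rw [h4]
    exact R.pow_mem ha _
  obtain ⟨ω, hω⟩ := C.exists_omega
  have hω' : ∀ u : F, σ u = u → ω + u ∈ R := by
    intro u hu
    have h1 : ω + u ≠ 0 := by
      intro h1
      have h2 := congrArg σ h1
      rw [map_add, hω, hu, map_zero] at h2
      have : (1 : F) = 0 := by linear_combination h2 - h1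
      exact one_ne_zero this
    have h2 : σ (ω + u) = ω + u + 1 := by rw [map_add, hω, hu]; ring
    have h3 : ω + u + 1 ≠ 0 := by
      rw [← h2]; exact (map_ne_zero_iff σ σ.injective).2 h1
    have h4 : (ω + u + 1) / (ω + u) ∈ R := by
      have := h (Units.mk0 ((ω + u + 1) / (ω + u)) (div_ne_zero h3 h1)) (by
        have h5 := C.add_self_F (1 : F)
        rw [mem_N1, Units.val_mk0, map_div₀, map_add, h2, map_one]
        field_simp
        linear_combination h5)
      exact this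
    have h5 : (ω + u)⁻¹ = (ω + u + 1) / (ω + u) - 1 := by field_simp; ring
    have h6 := hinv _ (R.sub_mem h4 R.one_mem)
    rwa [← h5, inv_inv] at h6
  have h0 : ω ∈ R := by
    have := hω' 0 (map_zero σ)
    rwa [add_zero] at this
  have hF0 : ∀ u : F, σ u = u → u ∈ R := by
    intro u hu
    have := R.sub_mem (hω' u hu) h0
    rwa [add_sub_cancel_left] at this
  obtain ⟨u, v, hu, hv, hx⟩ := C.decomp hω x
  rw [hx]
  exact R.add_mem (hF0 u hu) (R.mul_mem (hF0 v hv) h0)

/-- `s` acts on `L₁` through the field automorphism `τ` -/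
def IsTau1 (κ : F →+* AddMonoid.End W) (e : AddMonoid.End W) (s : X) (τ : F ≃+* F) : Prop :=
  ∀ a, ∀ v ∈ L1 e, s • κ a v = κ (τ a) (s • v)

theorem exists_tau1 {s : X} (hs : s ∈ normalizer (B0 Y C : Set X))
    (h : ∀ v ∈ L1 e, s • v ∈ L1 e) : ∃ τ : F ≃+* F, IsTau1 κ e s τ := by
  obtain ⟨v₀, h0, hne⟩ := exists_v0 C Y
  have hsn : s • v₀ ≠ 0 := fun h => hne ((smul_eq_zero_iff_eq s).1 h)
  have hG : Good (fun a b => ∀ v ∈ L1 e, s • κ a v = κ b (s • v)) :=
    { add := fun a b a' b' h h' v hv => by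
        rw [kappa_add_apply, smul_add, h v hv, h' v hv, ← kappa_add_apply]
      mul := fun a b a' b' h h' v hv => by
        rw [kappa_mul_apply, h _ (k1 Y _ hv), h' v hv, ← kappa_mul_apply]
      one := fun v hv => by rw [kappa_one_apply, kappa_one_apply]
      neg := fun a b h v hv => by
        rw [kappa_neg_apply, kappa_neg_apply, smul_neg, h v hv]
      uniq := fun a b b' h h' => kappa_uniq κ hsn ((h _ h0).symm.trans (h' _ h0))
      inj := fun a h => by
        have h1 := h _ h0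
        rw [map_zero] at h1
        have h2 : s • κ a v₀ = 0 := h1
        rw [smul_eq_zero_iff_eq] at h2
        exact kappa_eq_zero κ hne h2 }
  refine hG.exists_aut fun a => ?_
  refine N1_gen C hG.dom ?_ a
  intro b hb
  obtain ⟨α, hα⟩ := B_scal1 (norm_conj hs (d_mem (C := C) (Y := Y) hb))
  refine ⟨α, fun v hv => ?_⟩
  rw [← hα _ (h v hv), smul_smul, inv_mul_cancel_right, mul_smul, C.act]

end Cfsg.Agent.StdL2.FFourLines
end

-- part: StdL2/FFourWr
section
/-!
# S1773, case (f), item (4): the wreathed structure on `X`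

Output: `xwr`: for every 2-subgroup `P` of `X` containing `t` there are two lines `L₁`, `L₂`.
-/

set_option autoImplicit false
set_option linter.unusedSectionVars false

open Subgroup

namespace Cfsg.Agent.StdL2.FFourWr

open Cfsg.Agent.StdL2.F Cfsg.Agent.StdL2.F.XC Cfsg.Agent.StdL2.FRel Cfsg.Agent.StdL2.FieldStart
open Cfsg.Agent.StdL2.FieldStart.Fld (conj_mem_norm norm_conj norm_conj')
open Cfsg.Agent.StdL2.FFour Cfsg.Agent.StdL2.FFourSyl Cfsg.Agent.StdL2.FFourLines

/-- The wreathed structure on `X` acting on `W`. -/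
structure XWr {X W : Type*} [Group X] [AddCommGroup W] [DistribMulAction X W] (t : X)
    (F : Type*) [Field F] (L1 L2 : AddSubgroup W) (P : Subgroup X) : Prop where
  disj : ∀ v ∈ L1, v ∈ L2 → v = 0
  gen : ∀ w : W, ∃ a ∈ L1, ∃ b ∈ L2, w = a + b
  tsw : ∀ v ∈ L1, t • v ∈ L2
  tsw' : ∀ v ∈ L2, t • v ∈ L1
  perm : ∀ s ∈ P, ((∀ v ∈ L1, s • v ∈ L1) ∧ (∀ v ∈ L2, s • v ∈ L2)) ∨
    ((∀ v ∈ L1, s • v ∈ L2) ∧ (∀ v ∈ L2, s • v ∈ L1))
  no : ∀ x : X, x * t * x⁻¹ ∈ P → ¬ ∀ v ∈ L1, (x * t * x⁻¹) • v ∈ L1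
  card : Nat.card L1 = Nat.card F
  cardW : Nat.card L1 ^ 2 = Nat.card W
  gal : ∃ g : L1 ≃ F, ∀ s ∈ P, (∀ v ∈ L1, s • v ∈ L1) → ∃ τ : F ≃+* F,
    ∀ a b : L1, (b : W) = s • (a : W) → g b = τ (g a)

variable {X W F : Type*} [Group X] [Finite X] [AddCommGroup W] [DistribMulAction X W] [Field F]
  [Finite F] {κ : F →+* AddMonoid.End W} {d : Fˣ →* X} {σ : F ≃+* F} {t f : X} {w₁ : W}
  {y : X} {e : AddMonoid.End W} {C : XC κ d σ t f w₁} {Y : YC κ t f y e}

/-! ### no conjugate of `t` fixes the lines -/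

theorem conj_tt (C : XC κ d σ t f w₁) (x : X) : x * t * x⁻¹ * (x * t * x⁻¹) = 1 := by
  calc x * t * x⁻¹ * (x * t * x⁻¹) = x * (t * t) * x⁻¹ := by group
    _ = 1 := by rw [C.tt]; group

/-- the fixed vectors of a conjugate of `t` -/
theorem fix_conj (C : XC κ d σ t f w₁) (x : X) {v : W} (h : (x * t * x⁻¹) • v = v) :
    ∃ w, v = (x * t * x⁻¹) • w + w := by
  have h1 : t • (x⁻¹ • v) = x⁻¹ • v := by
    have := congrArg (x⁻¹ • ·) h
    simp only [smul_smul] at this
    rw [smul_smul, ← this]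
    congr 1
    group
  obtain ⟨a, b, hab⟩ := C.span (x⁻¹ • v)
  have h2 : t • κ a w₁ = κ a w₁ + κ a (t • w₁ + w₁) := by
    rw [C.t_smul_kappa, ← map_add]
    congr 1
    exact C.t_w
  have h3 : t • κ b (t • w₁ + w₁) = κ b (t • w₁ + w₁) := by
    rw [C.t_smul_kappa, C.t_v]
  rw [hab, smul_add, h2, h3] at h1
  have h4 : κ a (t • w₁ + w₁) = 0 := by
    exact add_eq_left.1 (add_right_cancel h1)
  have h5 : a = 0 := kappa_eq_zero κ C.v_ne h4
  rw [h5, map_zero] at hab
  have h6 : x⁻¹ • v = t • κ b w₁ + κ b w₁ := by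
    rw [hab, C.t_smul_kappa, ← map_add]
    exact zero_add _
  refine ⟨x • κ b w₁, ?_⟩
  rw [smul_smul, inv_mul_cancel_right, mul_smul, ← smul_add, ← h6, smul_inv_smul]

/-- the automorphism of a conjugate of `t` on `L₁` is nontrivial -/
theorem tau_ne (C : XC κ d σ t f w₁) (Y : YC κ t f y e) {x : X}
    (h1 : ∀ v ∈ L1 e, (x * t * x⁻¹) • v ∈ L1 e)
    (h2 : ∀ v ∈ L2 e, (x * t * x⁻¹) • v ∈ L2 e) {τ : F ≃+* F}
    (hτ : IsTau1 κ e (x * t * x⁻¹) τ) : τ ≠ 1 := by
  rintro rfl
  obtain ⟨v₀, h0, hne⟩ := exists_v0 C Y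
  obtain ⟨α, hα⟩ := exists_scal C Y (z := x * t * x⁻¹) hτ h1
  have h3 : α * α = 1 := by
    apply kappa_uniq κ hne
    rw [kappa_mul_apply, kappa_one_apply, ← hα _ h0, ← hα _ (h1 _ h0), smul_smul, conj_tt C,
      one_smul]
  have h4 := unit_sq C h3
  have hfix : ∀ v ∈ L1 e, (x * t * x⁻¹) • v = v := by
    intro v hv
    rw [hα v hv, h4, kappa_one_apply]
  obtain ⟨w, hw⟩ := fix_conj C x (hfix _ h0)
  obtain ⟨a, ha, b, hb, rfl⟩ := gen Y w
  rw [smul_add, hfix a ha] at hw
  have h5 : v₀ = (x * t * x⁻¹) • b + b := by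
    rw [hw]
    have := C.add_self_W a
    calc a + (x * t * x⁻¹) • b + (a + b) = (a + a) + ((x * t * x⁻¹) • b + b) := by abel
      _ = _ := by rw [this, zero_add]
  apply hne
  apply FFourLines.disj h0
  rw [h5]
  exact (L2 e).add_mem (h2 b hb) hb

/-- a Sylow 2-subgroup of `X` inside `C(t)` is commutative -/
theorem comm_of_cent (C : XC κ d σ t f w₁) {P : Subgroup X} (hP : IsPGroup 2 P)
    (hPt : ∀ s ∈ P, s * t = t * s) : ∀ a ∈ P, ∀ b ∈ P, a * b = b * a := by
  choose g hg using fun p : P => exists_tau C (hPt p p.2)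
  let G : P →* (F ≃+* F) := MonoidHom.mk' g
    (fun a b => IsTau.uniq C (hg (a * b)) ((hg a).mul (hg b)))
  haveI := isCyclic_aut (F := F) C.two
  have hker : G.ker ≤ center P := by
    intro p hp
    have h1 : IsTau κ (p : X) 1 := by
      have : g p = 1 := hp
      rw [← this]; exact hg p
    have hcen : ∀ q ∈ P, (p : X) * q = q * p := by
      obtain ⟨a, ha⟩ := C.centD p (hPt p p.2) (comm_d C h1)
      -- `p` is `d a` or `t * d a`, so `d a = 1`
      have key : ∀ u : X, (∃ k : ℕ, u ^ 2 ^ k = 1) → u = d a → d a = 1 := by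
        rintro u ⟨k, hk⟩ rfl
        have h2 : a ^ 2 ^ k = 1 := C.d_inj (by rw [map_pow, hk, map_one])
        have h3 : orderOf a ∣ 2 ^ k := orderOf_dvd_of_pow_eq_one h2
        have h4 : orderOf a ∣ Nat.card Fˣ := _root_.orderOf_dvd_natCard a
        have h5 : Nat.Coprime (2 ^ k) (Nat.card Fˣ) :=
          Nat.Coprime.pow_left k ((Nat.coprime_two_left).2 (odd_units C))
        have h6 : orderOf a = 1 := Nat.eq_one_of_dvd_coprimes h5 h3 h4
        rw [orderOf_eq_one_iff.1 h6, map_one]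
      obtain ⟨k, hk⟩ := hP p
      have hk' : (p : X) ^ 2 ^ k = 1 := by
        have := congrArg Subtype.val hk
        simpa only [_root_.SubmonoidClass.coe_pow, _root_.OneMemClass.coe_one] using this
      rcases ha with ha | ha
      · have h2 := key p ⟨k, hk'⟩ ha
        intro q _
        rw [ha, h2, one_mul, mul_one]
      · have h2 : d a = 1 := by
          refine key (t * p) ⟨k + 1, ?_⟩ ?_
          · have h3 : Commute t (p : X) := (hPt p p.2).symm
            rw [h3.mul_pow, pow_succ, pow_mul, pow_mul, hk', one_pow, mul_one, ← pow_mul,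
              mul_comm, pow_mul, pow_two, C.tt, one_pow]
          · rw [ha, ← mul_assoc, C.tt, one_mul]
        intro q hq
        rw [ha, h2, mul_one, hPt q hq]
    rw [mem_center_iff]
    intro q
    exact Subtype.ext (hcen q q.2).symm
  have := commutative_of_cyclic_center_quotient G hker
  intro a ha b hb
  exact congrArg Subtype.val (this ⟨a, ha⟩ ⟨b, hb⟩)

theorem no_conj (C : XC κ d σ t f w₁) (Y : YC κ t f y e) {P : Subgroup X} (hP : IsPGroup 2 P)
    (hPN : ∀ s ∈ P, s ∈ normalizer (B0 Y C : Set X)) (hPf : ∀ s ∈ P, s * f = f * s)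
    (htP : t ∈ P) {y' : X} (hyP : y' ∈ P) (hy : y' * t * y'⁻¹ = t * f) {x : X}
    (hx : x * t * x⁻¹ ∈ P) : ¬ ∀ v ∈ L1 e, (x * t * x⁻¹) • v ∈ L1 e := by
  intro h1
  obtain ⟨v₀, h0, hne⟩ := exists_v0 C Y
  have h2 : ∀ v ∈ L2 e, (x * t * x⁻¹) • v ∈ L2 e := by
    rcases perm (hPN _ hx) with h | h
    · exact h.2
    · exfalso
      have h3 := FFourLines.disj (h1 _ h0) (h.1 _ h0)
      exact hne ((smul_eq_zero_iff_eq _).1 h3)
  obtain ⟨τ1, hτ1⟩ := exists_tau1 (hPN _ hx) h1
  have hn1 := tau_ne C Y h1 h2 hτ1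
  -- the conjugate under `t`
  have hxt : t * x * t * (t * x)⁻¹ ∈ P := by
    have : t * x * t * (t * x)⁻¹ = t * (x * t * x⁻¹) * t⁻¹ := by group
    rw [this]
    exact P.mul_mem (P.mul_mem htP hx) (P.inv_mem htP)
  have hact : ∀ v : W, (t * x * t * (t * x)⁻¹) • v = t • (x * t * x⁻¹) • t • v := by
    intro v
    rw [smul_smul, smul_smul]
    congr 1
    calc t * x * t * (t * x)⁻¹ = t * (x * t * x⁻¹) * t⁻¹ := by group
      _ = t * (x * t * x⁻¹) * t := by rw [C.t_inv]
  have h1' : ∀ v ∈ L1 e, (t * x * t * (t * x)⁻¹) • v ∈ L1 e := by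
    intro v hv
    rw [hact]
    exact t2 C Y (h2 _ (t1 Y hv))
  have h2' : ∀ v ∈ L2 e, (t * x * t * (t * x)⁻¹) • v ∈ L2 e := by
    intro v hv
    rw [hact]
    exact t1 Y (h1 _ (t2 C Y hv))
  obtain ⟨τ2, hτ2⟩ := exists_tau1 (hPN _ hxt) h1'
  have hn2 := tau_ne C Y h1' h2' hτ2
  have hsq : ∀ (z : X) (τ : F ≃+* F), z * z = 1 → (∀ v ∈ L1 e, z • v ∈ L1 e) →
      IsTau1 κ e z τ → τ * τ = 1 := by
    intro z τ hzz hz hτ
    ext a
    apply kappa_uniq κ hne
    change κ (τ (τ a)) v₀ = κ a v₀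
    have h3 := hτ a v₀ h0
    have h4 : z • z • κ a v₀ = κ (τ (τ a)) (z • z • v₀) := by
      rw [h3, hτ _ _ (hz _ h0)]
    rw [smul_smul, hzz, one_smul, smul_smul, hzz, one_smul] at h4
    exact h4.symm
  have e1 : τ1 = σ := _root_.Cfsg.Agent.StdL2.FRel.inv_unique C.two ((by exact hsq _ _ (conj_tt C x) h1 hτ1)) (sigma_mul C) hn1
    (sigma_ne C)
  have e2 : τ2 = σ := _root_.Cfsg.Agent.StdL2.FRel.inv_unique C.two ((hsq _ _ (conj_tt C (t * x)) h1' hτ2 :)) (sigma_mul C) hn2
    (sigma_ne C)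
  subst e1
  subst e2
  -- `u = t₁ f` is linear
  have hfx : x * t * x⁻¹ * f = f * (x * t * x⁻¹) := hPf _ hx
  have huu : (x * t * x⁻¹ * f) * (x * t * x⁻¹ * f) = 1 := by
    calc (x * t * x⁻¹ * f) * (x * t * x⁻¹ * f) = (x * t * x⁻¹ * f) * (f * (x * t * x⁻¹)) := by
          rw [hfx]
      _ = x * t * x⁻¹ * (f * f) * (x * t * x⁻¹) := by group
      _ = 1 := by rw [C.ff, mul_one, conj_tt C]
  have hu1 : ∀ v ∈ L1 e, (x * t * x⁻¹ * f) • v ∈ L1 e := by
    intro v hv
    rw [mul_smul]; exact h1 _ (f1 Y hv)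
  have hul1 : ∀ a, ∀ v ∈ L1 e, (x * t * x⁻¹ * f) • κ a v = κ a ((x * t * x⁻¹ * f) • v) := by
    intro a v hv
    rw [mul_smul, C.f_smul_kappa, hτ1 _ _ (f1 Y hv), C.sig, ← mul_smul]
  have hone : ∀ z : X, z * z = 1 → (∀ v ∈ L1 e, z • v ∈ L1 e) →
      (∀ a, ∀ v ∈ L1 e, z • κ a v = κ a (z • v)) → ∀ v ∈ L1 e, z • v = v := by
    intro z hzz hz hzl
    obtain ⟨α, hα⟩ := exists_scal C Y hzl hz
    have h3 : α * α = 1 := by
      apply kappa_uniq κ hne
      rw [kappa_mul_apply, kappa_one_apply, ← hα _ h0, ← hα _ (hz _ h0), smul_smul, hzz, one_smul]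
    intro v hv
    rw [hα v hv, unit_sq C h3, kappa_one_apply]
  have hfixL1 := hone _ huu hu1 hul1
  -- on `L₂`
  set u := x * t * x⁻¹ * f with hu
  have hact2 : ∀ v : W, (t * u * t) • v = (t * x * t * (t * x)⁻¹) • f • v := by
    intro v
    rw [smul_smul]
    congr 1
    rw [hu]
    calc t * (x * t * x⁻¹ * f) * t = t * (x * t * x⁻¹) * (f * t) := by group
      _ = t * (x * t * x⁻¹) * (t * f) := by rw [C.tf]
      _ = t * (x * t * x⁻¹) * t * f := by group
      _ = t * (x * t * x⁻¹) * t⁻¹ * f := by rw [C.t_inv]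
      _ = t * x * t * (t * x)⁻¹ * f := by group
  have hfixL1' : ∀ v ∈ L1 e, (t * u * t) • v = v := by
    refine hone _ ?_ ?_ ?_
    · calc t * u * t * (t * u * t) = t * u * (t * t) * u * t := by group
        _ = t * (u * u) * t := by rw [C.tt]; group
        _ = 1 := by rw [huu, mul_one, C.tt]
    · intro v hv
      rw [hact2]; exact h1' _ (f1 Y hv)
    · intro a v hv
      rw [hact2, hact2, C.f_smul_kappa, hτ2 _ _ (f1 Y hv), C.sig]
  have hu1 : u = 1 := by
    apply C.faithful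
    intro w
    obtain ⟨a, ha, b, hb, rfl⟩ := gen Y w
    have h3 : u • b = b := by
      have h4 := hfixL1' _ (t2 C Y hb)
      rw [smul_smul] at h4
      have h5 : t * u * t * t = t * u := by rw [mul_assoc (t * u), C.tt, mul_one]
      rw [h5, mul_smul] at h4
      exact smul_left_cancel t h4
    rw [smul_add, hfixL1 a ha, h3]
  have htf : x * t * x⁻¹ = f := by
    have : x * t * x⁻¹ = u * f := by rw [hu, mul_assoc (x * t * x⁻¹), C.ff, mul_one]
    rw [this, hu1, one_mul]
  -- so `x⁻¹ P x ≤ C(t)` is commutative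
  let P1 : Subgroup X := P.comap (MulAut.conj x).toMonoidHom
  have hP1 : IsPGroup 2 P1 := hP.comap_of_injective _ (MulAut.conj x).injective
  have hmem : ∀ s ∈ P, x⁻¹ * s * x ∈ P1 := by
    intro s hs
    change x * (x⁻¹ * s * x) * x⁻¹ ∈ P
    have : x * (x⁻¹ * s * x) * x⁻¹ = s := by group
    rw [this]; exact hs
  have hP1t : ∀ s ∈ P1, s * t = t * s := by
    intro s hs
    have h3 : x * s * x⁻¹ * f = f * (x * s * x⁻¹) := hPf _ hs
    rw [← htf] at h3
    calc s * t = x⁻¹ * (x * s * x⁻¹ * (x * t * x⁻¹)) * x := by group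
      _ = x⁻¹ * (x * t * x⁻¹ * (x * s * x⁻¹)) * x := by rw [h3]
      _ = t * s := by group
  have hcomm := comm_of_cent C hP1 hP1t _ (hmem _ hyP) _ (hmem _ htP)
  have h3 : y' * t = t * y' := by
    calc y' * t = x * (x⁻¹ * y' * x * (x⁻¹ * t * x)) * x⁻¹ := by group
      _ = x * (x⁻¹ * t * x * (x⁻¹ * y' * x)) * x⁻¹ := by rw [hcomm]
      _ = t * y' := by group
  rw [h3, mul_inv_cancel_right] at hy
  exact C.f_ne_one (mul_left_cancel (a := t) (by rw [← hy, mul_one]))

/-! ### the base point -/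

theorem exists_gal (C : XC κ d σ t f w₁) (Y : YC κ t f y e) {P : Subgroup X} (hP : IsPGroup 2 P)
    (hPN : ∀ s ∈ P, s ∈ normalizer (B0 Y C : Set X)) :
    ∃ g : L1 e ≃ F, ∀ s ∈ P, (∀ v ∈ L1 e, s • v ∈ L1 e) → ∃ τ : F ≃+* F,
      ∀ a b : L1 e, (b : W) = s • (a : W) → g b = τ (g a) := by
  haveI : Fact (Nat.Prime 2) := ⟨Nat.prime_two⟩
  haveI := finite_W C
  -- the stabiliser of `L₁` in `P`
  let P0 : Subgroup X :=
    { carrier := {s | s ∈ P ∧ ∀ v ∈ L1 e, s • v ∈ L1 e}
      one_mem' := ⟨P.one_mem, fun v hv => by rwa [one_smul]⟩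
      mul_mem' := fun {a b} ha hb => ⟨P.mul_mem ha.1 hb.1, fun v hv => by
        rw [mul_smul]; exact ha.2 _ (hb.2 _ hv)⟩
      inv_mem' := fun {a} ha => ⟨P.inv_mem ha.1, fun v hv => by
        obtain ⟨v₀, h0, hne⟩ := exists_v0 C Y
        have hinj : Function.Injective (fun v : L1 e => (⟨a • (v : W), ha.2 _ v.2⟩ : L1 e)) := by
          intro u w h
          exact Subtype.ext (smul_left_cancel a (congrArg Subtype.val h))
        obtain ⟨u, hu⟩ := (Finite.injective_iff_surjective.1 hinj) ⟨v, hv⟩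
        have hu' : a • (u : W) = v := congrArg Subtype.val hu
        rw [← hu', inv_smul_smul]
        exact u.2⟩ }
  have hP0 : IsPGroup 2 P0 := hP.to_le (fun s hs => hs.1)
  letI : MulAction P0 (L1 e) :=
    { smul := fun s v => ⟨(s : X) • (v : W), s.2.2 _ v.2⟩
      one_smul := fun v => Subtype.ext (one_smul X (v : W))
      mul_smul := fun a b v => Subtype.ext (mul_smul (a : X) (b : X) (v : W)) }
  have hmod := hP0.card_modEq_card_fixedPoints (L1 e)
  have heven : Even (Nat.card F) := by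
    have h1 := odd_units C
    have h2 : Nat.card F = Nat.card Fˣ + 1 := by
      classical
      haveI := Fintype.ofFinite F
      rw [Nat.card_eq_fintype_card, Nat.card_eq_fintype_card, Fintype.card_units]
      have : 0 < Fintype.card F := Fintype.card_pos
      omega
    rw [h2]
    exact h1.add_one
  have h0fix : (0 : L1 e) ∈ MulAction.fixedPoints P0 (L1 e) := by
    intro s
    exact Subtype.ext (smul_zero (s : X))
  have hcard : ∃ v ∈ MulAction.fixedPoints P0 (L1 e), v ≠ 0 := by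
    by_contra hcon
    push Not at hcon
    have h1 : MulAction.fixedPoints P0 (L1 e) = {0} := by
      ext v
      constructor
      · intro h; exact hcon v h
      · rintro rfl; exact h0fix
    rw [h1, card_L1 C Y] at hmod
    have h2 : Nat.card ({0} : Set (L1 e)) = 1 := by simp
    rw [h2] at hmod
    rw [Nat.ModEq, Nat.even_iff.1 heven] at hmod
    norm_num at hmod
  obtain ⟨⟨v₀, h0⟩, hfix, hne⟩ := hcard
  have hne' : v₀ ≠ 0 := fun h => hne (Subtype.ext h)
  have hbij := line C Y h0 hne'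
  let g := Equiv.ofBijective _ hbij
  refine ⟨g.symm, fun s hs hsL => ?_⟩
  obtain ⟨τ, hτ⟩ := exists_tau1 (hPN s hs) hsL
  refine ⟨τ, fun a b hab => ?_⟩
  rw [Equiv.symm_apply_eq]
  apply Subtype.ext
  change (b : W) = κ (τ (g.symm a)) v₀
  have h1 : κ (g.symm a) v₀ = (a : W) := congrArg Subtype.val (g.apply_symm_apply a)
  have h2 : s • v₀ = v₀ := congrArg Subtype.val (hfix (⟨s, hs, hsL⟩ : P0))
  have h3 := hτ (g.symm a) v₀ h0
  rw [h1, h2] at h3
  rw [hab, h3]

/-- **the wreathed structure** for every 2-subgroup containing `t` -/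
theorem xwr (C : XC κ d σ t f w₁) (Y : YC κ t f y e) {P : Subgroup X} (hP : IsPGroup 2 P)
    (htP : t ∈ P) : ∃ L1 L2 : AddSubgroup W, XWr t F L1 L2 P := by
  haveI := finite_W C
  obtain ⟨P', y', hP', hPN, hPf, htP', -, hyP, hy⟩ := exists_syl C Y
  obtain ⟨c, -, hc⟩ := hP'.conj hP le_top
  obtain ⟨v₀, h0, hne⟩ := exists_v0 C Y
  have hmap : ∀ (L : AddSubgroup W) (v : W),
      v ∈ L.comap (DistribMulAction.toAddMonoidEnd X W c) ↔ c • v ∈ L := fun L v => Iff.rfl
  set M1 := (L1 e).comap (DistribMulAction.toAddMonoidEnd X W c) with hM1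
  set M2 := (L2 e).comap (DistribMulAction.toAddMonoidEnd X W c) with hM2
  have m1 : ∀ v, v ∈ M1 ↔ c • v ∈ L1 e := fun v => Iff.rfl
  have m2 : ∀ v, v ∈ M2 ↔ c • v ∈ L2 e := fun v => Iff.rfl
  have hcs : ∀ (s : X) (v : W), c • s • v = (c * s * c⁻¹) • c • v := by
    intro s v
    rw [smul_smul, smul_smul, inv_mul_cancel_right]
  have hperm : ∀ s ∈ P, ((∀ v ∈ M1, s • v ∈ M1) ∧ (∀ v ∈ M2, s • v ∈ M2)) ∨
      ((∀ v ∈ M1, s • v ∈ M2) ∧ (∀ v ∈ M2, s • v ∈ M1)) := by
    intro s hs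
    rcases perm (hPN _ (hc s hs)) with h | h
    · left
      refine ⟨fun v hv => ?_, fun v hv => ?_⟩
      · rw [m1, hcs]; exact h.1 _ hv
      · rw [m2, hcs]; exact h.2 _ hv
    · right
      refine ⟨fun v hv => ?_, fun v hv => ?_⟩
      · rw [m2, hcs]; exact h.1 _ hv
      · rw [m1, hcs]; exact h.2 _ hv
  have hback : ∀ s : X, (∀ v ∈ M1, s • v ∈ M1) → ∀ v ∈ L1 e, (c * s * c⁻¹) • v ∈ L1 e := by
    intro s h v hv
    have h1 : c⁻¹ • v ∈ M1 := by rw [m1, smul_inv_smul]; exact hv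
    have h2 := h _ h1
    rw [m1, hcs, smul_inv_smul] at h2
    exact h2
  have hno : ∀ x : X, x * t * x⁻¹ ∈ P → ¬ ∀ v ∈ M1, (x * t * x⁻¹) • v ∈ M1 := by
    intro x hx h
    have h1 := hback _ h
    have h2 : c * (x * t * x⁻¹) * c⁻¹ = c * x * t * (c * x)⁻¹ := by group
    have h3 := hc _ hx
    rw [h2] at h1 h3
    exact no_conj C Y hP'.1 hPN hPf htP' hyP hy h3 h1
  have ht : (∀ v ∈ M1, t • v ∈ M2) ∧ (∀ v ∈ M2, t • v ∈ M1) := by
    rcases hperm t htP with h | h
    · exfalso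
      refine hno 1 ?_ ?_
      · simpa using htP
      · simpa only [_root_.one_mul, _root_.inv_one, _root_.mul_one] using h.1
    · exact h
  have hcard : Nat.card M1 = Nat.card (L1 e) := by
    refine Nat.card_eq_of_bijective (fun v : M1 => (⟨c • (v : W), v.2⟩ : L1 e)) ⟨?_, ?_⟩
    · intro a b h
      exact Subtype.ext (smul_left_cancel c (congrArg Subtype.val h))
    · intro b
      refine ⟨⟨c⁻¹ • (b : W), ?_⟩, ?_⟩
      · rw [m1, smul_inv_smul]; exact b.2
      · exact Subtype.ext (smul_inv_smul c (b : W))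
  obtain ⟨g, hg⟩ := exists_gal C Y hP'.1 hPN
  let g' : M1 ≃ L1 e :=
    { toFun := fun v => ⟨c • (v : W), v.2⟩
      invFun := fun v => ⟨c⁻¹ • (v : W), by rw [m1, smul_inv_smul]; exact v.2⟩
      left_inv := fun v => Subtype.ext (inv_smul_smul c (v : W))
      right_inv := fun v => Subtype.ext (smul_inv_smul c (v : W)) }
  refine ⟨M1, M2, ?_, ?_, ht.1, ht.2, hperm, hno, ?_, ?_, g'.trans g, ?_⟩
  · intro v h1 h2
    have := FFourLines.disj h1 h2
    exact (smul_eq_zero_iff_eq c).1 this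
  · intro w
    obtain ⟨a, ha, b, hb, h⟩ := gen Y (c • w)
    refine ⟨c⁻¹ • a, ?_, c⁻¹ • b, ?_, ?_⟩
    · rw [m1, smul_inv_smul]; exact ha
    · rw [m2, smul_inv_smul]; exact hb
    · rw [← smul_add, ← h, inv_smul_smul]
  · rw [hcard, card_L1 C Y]
  · rw [hcard, card_L1_sq C Y]
  · intro s hs hsL
    obtain ⟨τ, hτ⟩ := hg _ (hc s hs) (hback s hsL)
    refine ⟨τ, fun a b hab => ?_⟩
    apply hτ
    change c • (b : W) = (c * s * c⁻¹) • c • (a : W)
    rw [← hcs, ← hab]

end Cfsg.Agent.StdL2.FFourWr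
end

-- part: StdL2/FWreath
section
/-!
# S1773, case (f): from `X` back to `G`

`wreath`: `FTD`, `Tor`, `FOut` and the X-side (`XC` and `y t y⁻¹ = t f` imply `YC`) give the
wreathed configuration `FWr.Wr`.
-/

set_option autoImplicit false
set_option linter.unusedSectionVars false
set_option linter.style.haveILetI false

open Subgroup

namespace Cfsg.Agent.StdL2.FWreath

open Cfsg.Agent.StdL2.FieldStart Cfsg.Agent.StdL2.EOneFusion Cfsg.Agent.StdL2.FT
open Cfsg.Agent.StdL2.EOneOf Cfsg.Agent.StdL2.EOneWeak Cfsg.Agent.StdL2.EOneX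
open Cfsg.Agent.StdL2.EOneXC Cfsg.Agent.StdL2.F Cfsg.Agent.StdL2.EOneFOut
open Cfsg.Agent.StdL2.EOneXG Cfsg.Agent.StdL2.FFour Cfsg.Agent.StdL2.FFourWr
open Cfsg.Agent.StdL2.FieldStart.Fld (conj_mem_norm norm_conj norm_conj')

universe u

/-- the X-side: `XC` and `y t y⁻¹ = t f` give the element `y` and the idempotent `e` -/
def XSide : Prop :=
  ∀ (X W' F' : Type u) (_ : Group X) (_ : Finite X) (_ : AddCommGroup W')
    (_ : DistribMulAction X W') (_ : Field F') (_ : Finite F') (κ : F' →+* AddMonoid.End W')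
    (δ : F'ˣ →* X) (σ : F' ≃+* F') (t f : X) (w₁ : W'), XC κ δ σ t f w₁ →
    (∃ y : X, y * t * y⁻¹ = t * f) → ∃ (y : X) (e : AddMonoid.End W'), YC κ t f y e

variable {G : Type u} [Group G] [Finite G] {t d : G} {V T C₀ U : Subgroup G}

section pull

variable {X W' : Type u} [Group X] [AddCommGroup W'] [DistribMulAction X W']
  {φ : ↥(normalizer (U : Set G)) →* X} {ψ : ↥U → W'}

theorem psi_one (Tr : _root_.Cfsg.Agent.StdL2.EOneXG.Trans U φ ψ) : ψ 1 = 0 := by
  have h := Tr.add 1 1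
  rw [one_mul] at h
  exact (add_eq_left.1 h.symm)

theorem psi_inv (Tr : _root_.Cfsg.Agent.StdL2.EOneXG.Trans U φ ψ) (a : U) : ψ a⁻¹ = -ψ a := by
  have h := Tr.add a⁻¹ a
  rw [inv_mul_cancel, psi_one Tr] at h
  exact eq_neg_of_add_eq_zero_left h.symm

/-- the pull-back of an additive subgroup -/
def pull (Tr : _root_.Cfsg.Agent.StdL2.EOneXG.Trans U φ ψ) (L : AddSubgroup W') : Subgroup G where
  carrier := {g | ∃ h : g ∈ U, ψ ⟨g, h⟩ ∈ L}
  one_mem' := ⟨U.one_mem, by
    have : ψ ⟨1, U.one_mem⟩ = 0 := psi_one Tr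
    rw [this]; exact L.zero_mem⟩
  mul_mem' := by
    rintro a b ⟨ha, ha'⟩ ⟨hb, hb'⟩
    refine ⟨U.mul_mem ha hb, ?_⟩
    have : ψ ⟨a * b, U.mul_mem ha hb⟩ = ψ ⟨a, ha⟩ + ψ ⟨b, hb⟩ := Tr.add ⟨a, ha⟩ ⟨b, hb⟩
    rw [this]; exact L.add_mem ha' hb'
  inv_mem' := by
    rintro a ⟨ha, ha'⟩
    refine ⟨U.inv_mem ha, ?_⟩
    have : ψ ⟨a⁻¹, U.inv_mem ha⟩ = -ψ ⟨a, ha⟩ := psi_inv Tr ⟨a, ha⟩
    rw [this]; exact L.neg_mem ha'

theorem pull_le {Tr : _root_.Cfsg.Agent.StdL2.EOneXG.Trans U φ ψ} {L : AddSubgroup W'} : pull Tr L ≤ U := fun _ h => h.1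

/-- the bijection -/
noncomputable def pullEquiv (Tr : _root_.Cfsg.Agent.StdL2.EOneXG.Trans U φ ψ) (L : AddSubgroup W') : pull Tr L ≃ L :=
  Equiv.ofBijective (fun g : pull Tr L => (⟨ψ ⟨g, g.2.1⟩, g.2.2⟩ : L)) <| by
    constructor
    · intro a b h
      have h1 := Tr.bij.1 (congrArg Subtype.val h)
      exact Subtype.ext (congrArg (fun z : U => (z : G)) h1)
    · rintro ⟨v, hv⟩
      obtain ⟨a, ha⟩ := Tr.bij.2 v
      refine ⟨⟨a, a.2, ?_⟩, Subtype.ext ?_⟩
      · change ψ a ∈ L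
        rw [ha]; exact hv
      · exact ha

theorem act' (Tr : _root_.Cfsg.Agent.StdL2.EOneXG.Trans U φ ψ) (n : ↥(normalizer (U : Set G))) {u : G} (hu : u ∈ U) :
    ψ ⟨(n : G) * u * (n : G)⁻¹, norm_conj n.2 hu⟩ = φ n • ψ ⟨u, hu⟩ :=
  (Tr.act n ⟨u, hu⟩ _ rfl).symm

theorem pull_act (Tr : _root_.Cfsg.Agent.StdL2.EOneXG.Trans U φ ψ) {L L' : AddSubgroup W'} (n : ↥(normalizer (U : Set G))) :
    (∀ v ∈ L, φ n • v ∈ L') ↔ ∀ a ∈ pull Tr L, (n : G) * a * (n : G)⁻¹ ∈ pull Tr L' := by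
  constructor
  · rintro h a ⟨ha, ha'⟩
    refine ⟨norm_conj n.2 ha, ?_⟩
    rw [act' Tr n ha]
    exact h _ ha'
  · intro h v hv
    obtain ⟨a, rfl⟩ := Tr.bij.2 v
    obtain ⟨h1, h2⟩ := h a ⟨a.2, hv⟩
    have h3 := act' Tr n a.2
    rw [← h3]
    exact h2

end pull

/-- **the wreathed configuration** -/
theorem wreath (hX : XSide.{u}) (H : FTD t V T C₀) (T0 : Cfsg.Agent.StdL2.Tor t V d)
    (O : FOut t V T d U) :
    ∃ S V1 V2 : Subgroup G, FWr.Wr t U V1 V2 S ∧ T ≤ S ∧ IsSyl ⊤ S := by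
  classical
  have E := eone H O
  obtain ⟨S, hS, hTS, hUS, hSU, hcS⟩ := exists_sylow H O
  obtain ⟨s, hsT, hs, ht, d1, hd, X, W', F', i1, i2, i3, i4, i5, i6, κ, δ, σ, w₁, φ, ψ, -, -, -,
    hXC, Tr, hcard, -, hy⟩ := of_fout H T0 O
  obtain ⟨y, e, Y⟩ := hX X W' F' i1 i2 i3 i4 i5 i6 κ δ σ _ _ w₁ hXC hy
  have hSN : ∀ s ∈ S, s ∈ normalizer (U : Set G) := fun s hs => conj_mem_norm (hSU s hs)
  have htS : t ∈ S := hTS H.tT
  set P : Subgroup X := (S.subgroupOf (normalizer (U : Set G))).map φ with hP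
  have hP2 : IsPGroup 2 P := (hS.1.comap_subtype).map φ
  have hmem : ∀ s (hs : s ∈ S), φ ⟨s, hSN s hs⟩ ∈ P := fun s hs =>
    ⟨⟨s, hSN s hs⟩, hs, rfl⟩
  obtain ⟨L1, L2, X0⟩ := xwr hXC Y hP2 (hmem t htS)
  haveI : CharP F' 2 := CharTwo.of_one_ne_zero_of_two_eq_zero one_ne_zero hXC.two
  refine ⟨S, pull Tr L1, pull Tr L2, ?_, hTS, hS⟩
  refine
    { t2 := H.t2
      S2 := hS.1
      usq := O.usq
      US := hUS
      tS := htS
      SU := hSU
      cU := hcS
      V1U := pull_le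
      V2U := pull_le
      disj := ?_
      gen := ?_
      tsw := (pull_act Tr ⟨t, ht⟩).1 X0.tsw
      tsw' := (pull_act Tr ⟨t, ht⟩).1 X0.tsw'
      perm := ?_
      no := ?_
      card16 := ?_
      gal := ?_ }
  · rintro x ⟨hx, h1⟩ ⟨_, h2⟩
    have h3 := X0.disj _ h1 h2
    rw [← psi_one Tr] at h3
    exact congrArg (fun z : U => (z : G)) (Tr.bij.1 h3)
  · intro u hu
    obtain ⟨a, ha, b, hb, hab⟩ := X0.gen (ψ ⟨u, hu⟩)
    obtain ⟨a', rfl⟩ := Tr.bij.2 a
    obtain ⟨b', rfl⟩ := Tr.bij.2 b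
    rw [← Tr.add] at hab
    exact ⟨a', ⟨a'.2, ha⟩, b', ⟨b'.2, hb⟩, congrArg (fun z : U => (z : G)) (Tr.bij.1 hab)⟩
  · intro s hs
    rcases X0.perm _ (hmem s hs) with h | h
    · exact Or.inl ⟨(pull_act Tr _).1 h.1, (pull_act Tr _).1 h.2⟩
    · exact Or.inr ⟨(pull_act Tr _).1 h.1, (pull_act Tr _).1 h.2⟩
  · intro g hg hcon
    obtain ⟨n, hn, hnt⟩ := E.fusion H.card16 g (hSU _ hg)
    have h1 : φ ⟨n, hn⟩ * φ ⟨t, ht⟩ * (φ ⟨n, hn⟩)⁻¹ = φ ⟨g * t * g⁻¹, hSN _ hg⟩ := by
      rw [← map_mul, ← map_inv, ← map_mul]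
      congr 1
      exact Subtype.ext hnt
    refine X0.no (φ ⟨n, hn⟩) ?_ ?_
    · rw [h1]; exact hmem _ hg
    · rw [h1]
      exact (pull_act Tr ⟨g * t * g⁻¹, hSN _ hg⟩).2 hcon
  · rw [Nat.card_congr (pullEquiv Tr L1), X0.card, hcard]
    exact H.card16
  · obtain ⟨g, hg⟩ := X0.gal
    refine FGal.galAct hS.1 ((pullEquiv Tr L1).trans g) ?_
    intro s hs hsV
    obtain ⟨τ, hτ⟩ := hg _ (hmem s hs) ((pull_act Tr ⟨s, hSN s hs⟩).2 hsV)
    refine ⟨τ, fun a b hab => ?_⟩
    apply hτ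
    change ψ ⟨(b : G), b.2.1⟩ = φ ⟨s, hSN s hs⟩ • ψ ⟨(a : G), a.2.1⟩
    exact (Tr.act ⟨s, hSN s hs⟩ _ _ hab).symm

end Cfsg.Agent.StdL2.FWreath
end
end

-- part: StdL2/FTorus
section
prune_inst 0x1004005800100000000000100000000000000000000000000000000008044000000000000000001000000000010028121000004000000000000000000400000000100000000000020000000000000000000000000000000000000000000000000000000
set_option linter.all false
open scoped Cfsg.Agent.FastGrp

-- part: StdL2/FAlg
section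
/-!
# S1773, case (f): computations in a ring of characteristic 2
-/

set_option autoImplicit false
set_option linter.unusedSectionVars false

namespace Cfsg.Agent.StdL2.F.Alg

variable {R : Type*} [Ring R]

section A

variable (h2 : ∀ x : R, x + x = 0) {T P O O' c c' : R}
  (hTT : T * T = 1) (hPP : P * P = 1) (hTP : T * P = P * T)
  (hOT : O * T = T * O) (hOP : O * P = P * O + P)
  (hO'T : O' * T = T * O' + T) (hO'P : O' * P = P * O' + P)
  (hO : O * O = O + c) (hO' : O' * O' = O' + c')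
  (hc : c * O' = O' * c) (hc' : c' * O = O * c')

include h2 hTT hPP hTP hOT hOP hO'T hO'P

/-- the commutator `z = ω ω' + ω' ω` commutes with `t`. -/
theorem z_T : (O * O' + O' * O) * T = T * (O * O' + O' * O) := by
  have e1 : O * O' * T = T * (O * O') + T * O := by
    rw [mul_assoc, hO'T, mul_add, ← mul_assoc, hOT, mul_assoc]
  have e2 : O' * O * T = T * (O' * O) + T * O := by
    rw [mul_assoc, hOT, ← mul_assoc, hO'T, add_mul, mul_assoc]
  rw [add_mul, e1, e2, mul_add]
  have := h2 (T * O)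
  calc T * (O * O') + T * O + (T * (O' * O) + T * O) =
      T * (O * O') + T * (O' * O) + (T * O + T * O) := by abel
    _ = _ := by rw [this, add_zero]

/-- the commutator `z = ω ω' + ω' ω` commutes with `f`. -/
theorem z_P : (O * O' + O' * O) * P = P * (O * O' + O' * O) := by
  have e1 : O * O' * P = P * (O * O') + P * O' + (P * O + P) := by
    rw [mul_assoc, hO'P, mul_add, ← mul_assoc, hOP, add_mul, mul_assoc]
  have e2 : O' * O * P = P * (O' * O) + P * O + (P * O' + P) := by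
    rw [mul_assoc, hOP, mul_add, ← mul_assoc, hO'P, add_mul, mul_assoc]
  rw [add_mul, e1, e2, mul_add]
  have h3 := h2 (P * O)
  have h4 := h2 (P * O')
  have h5 := h2 P
  calc P * (O * O') + P * O' + (P * O + P) + (P * (O' * O) + P * O + (P * O' + P)) =
      P * (O * O') + P * (O' * O) + (P * O + P * O) + (P * O' + P * O') + (P + P) := by abel
    _ = _ := by rw [h3, h4, h5, add_zero, add_zero, add_zero]

omit hTT hPP hTP hOT hOP hO'T hO'P in
include hO hc in
theorem O_z : O * (O * O' + O' * O) + (O * O' + O' * O) * O = O * O' + O' * O := by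
  have e1 : O * (O * O') = O * O' + c * O' := by rw [← mul_assoc, hO, add_mul]
  have e2 : O' * O * O = O' * O + O' * c := by rw [mul_assoc, hO, mul_add]
  rw [mul_add, add_mul, e1, e2, hc, mul_assoc O O' O]
  have h3 := h2 (O * (O' * O))
  have h4 := h2 (O' * c)
  calc O * O' + O' * c + O * (O' * O) + (O * (O' * O) + (O' * O + O' * c)) =
      O * O' + O' * O + (O' * c + O' * c) + (O * (O' * O) + O * (O' * O)) := by abel
    _ = _ := by rw [h3, h4, add_zero, add_zero]

omit hTT hPP hTP hOT hOP hO'T hO'P in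
include hO' hc' in
theorem O'_z : O' * (O * O' + O' * O) + (O * O' + O' * O) * O' = O * O' + O' * O := by
  have := O_z h2 hO' hc'
  rw [add_comm (O' * O) (O * O')] at this
  exact this

include hO hO' hc hc' in
/-- `z = δ f`. -/
theorem z_eq {α β γ δ : R} (hα : ∀ x, (x = O ∨ x = O') → x * α = α * x)
    (hβ : ∀ x, (x = O ∨ x = O') → x * β = β * x)
    (hγ : ∀ x, (x = O ∨ x = O') → x * γ = γ * x) (hδ : ∀ x, (x = O ∨ x = O') → x * δ = δ * x)
    (hz : O * O' + O' * O = α + β * T + γ * P + δ * (T * P)) : O * O' + O' * O = γ * P := by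
  have h3 := O_z h2 hO hc
  have h4 := O'_z h2 hO' hc'
  have h5 : O * O' + O' * O = γ * P + δ * (T * P) := by
    rw [← h3, hz]
    have a1 : O * (α + β * T + γ * P + δ * (T * P)) =
        α * O + β * (T * O) + (γ * (P * O) + γ * P) + (δ * (T * (P * O)) + δ * (T * P)) := by
      have b1 : O * (β * T) = β * (T * O) := by
        rw [← mul_assoc, hβ O (Or.inl rfl), mul_assoc, hOT]
      have b2 : O * (γ * P) = γ * (P * O) + γ * P := by
        rw [← mul_assoc, hγ O (Or.inl rfl), mul_assoc, hOP, mul_add]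
      have b3 : O * (δ * (T * P)) = δ * (T * (P * O)) + δ * (T * P) := by
        rw [← mul_assoc, hδ O (Or.inl rfl), mul_assoc, ← mul_assoc O T P, hOT, mul_assoc T O P,
          hOP, mul_add, mul_add]
      rw [mul_add, mul_add, mul_add, hα O (Or.inl rfl), b1, b2, b3]
    have a2 : (α + β * T + γ * P + δ * (T * P)) * O =
        α * O + β * (T * O) + γ * (P * O) + δ * (T * (P * O)) := by
      simp only [add_mul, mul_assoc]
    rw [a1, a2]
    have b4 := h2 (α * O)
    have b5 := h2 (β * (T * O))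
    have b6 := h2 (γ * (P * O))
    have b7 := h2 (δ * (T * (P * O)))
    calc α * O + β * (T * O) + (γ * (P * O) + γ * P) + (δ * (T * (P * O)) + δ * (T * P)) +
        (α * O + β * (T * O) + γ * (P * O) + δ * (T * (P * O))) =
        γ * P + δ * (T * P) + (α * O + α * O) + (β * (T * O) + β * (T * O)) +
          (γ * (P * O) + γ * (P * O)) + (δ * (T * (P * O)) + δ * (T * (P * O))) := by abel
      _ = _ := by rw [b4, b5, b6, b7, add_zero, add_zero, add_zero, add_zero]
  rw [← h4, h5]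
  have a1 : O' * (γ * P + δ * (T * P)) = γ * (P * O') + γ * P + (δ * (T * (P * O'))) := by
    have b2 : O' * (γ * P) = γ * (P * O') + γ * P := by
      rw [← mul_assoc, hγ O' (Or.inr rfl), mul_assoc, hO'P, mul_add]
    have b3 : O' * (δ * (T * P)) = δ * (T * (P * O')) := by
      rw [← mul_assoc, hδ O' (Or.inr rfl), mul_assoc, ← mul_assoc O' T P, hO'T, add_mul,
        mul_assoc T O' P, hO'P, mul_add T, mul_add δ, mul_add δ, add_assoc, h2 (δ * (T * P)),
        add_zero]
    rw [mul_add, b2, b3]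
  have a2 : (γ * P + δ * (T * P)) * O' = γ * (P * O') + δ * (T * (P * O')) := by
    simp only [add_mul, mul_assoc]
  rw [a1, a2]
  have b6 := h2 (γ * (P * O'))
  have b7 := h2 (δ * (T * (P * O')))
  calc γ * (P * O') + γ * P + δ * (T * (P * O')) + (γ * (P * O') + δ * (T * (P * O'))) =
      γ * P + (γ * (P * O') + γ * (P * O')) + (δ * (T * (P * O')) + δ * (T * (P * O'))) := by abel
    _ = _ := by rw [b6, b7, add_zero, add_zero]

end A

section M

/-! `M = ω + ω' + δ (1 + f)` -/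

variable (h2 : ∀ x : R, x + x = 0) {T P O O' c c' δ : R}
  (hTT : T * T = 1) (hPP : P * P = 1) (hTP : T * P = P * T)
  (hOT : O * T = T * O) (hOP : O * P = P * O + P)
  (hO'T : O' * T = T * O' + T) (hO'P : O' * P = P * O' + P)
  (hO : O * O = O + c) (hO' : O' * O' = O' + c')
  (hz : O * O' + O' * O = δ * P)
  (hδO : O * δ = δ * O) (hδO' : O' * δ = δ * O') (hδP : P * δ = δ * P) (hδT : T * δ = δ * T)

include h2 hOP hz hδO in
theorem M_O : (O + O' + δ * (1 + P)) * O = O * (O + O' + δ * (1 + P)) := by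
  have e1 : O * (O + O' + δ * (1 + P)) =
      O * O + O * O' + (δ * O + (δ * (P * O) + δ * P)) := by
    have : O * (δ * (1 + P)) = δ * O + (δ * (P * O) + δ * P) := by
      rw [← mul_assoc, hδO, mul_assoc, mul_add, mul_one, hOP, mul_add, mul_add]
    rw [mul_add, mul_add, this]
  have e2 : (O + O' + δ * (1 + P)) * O = O * O + O' * O + (δ * O + δ * (P * O)) := by
    rw [add_mul, add_mul, mul_assoc, add_mul, one_mul, mul_add]
  rw [e1, e2, ← hz]
  have h3 := h2 (O * O')
  calc O * O + O' * O + (δ * O + δ * (P * O)) =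
      O * O + (δ * O + δ * (P * O)) + O' * O + (O * O' + O * O') := by rw [h3]; abel
    _ = _ := by abel

include h2 hO'P hz hδO' in
theorem M_O' : (O + O' + δ * (1 + P)) * O' = O' * (O + O' + δ * (1 + P)) := by
  have := M_O h2 (O := O') (O' := O) (P := P) (δ := δ) hO'P (by rw [add_comm]; exact hz) hδO'
  rw [add_comm O' O] at this
  exact this

include h2 hOP hO'P hδP in
theorem M_P : (O + O' + δ * (1 + P)) * P = P * (O + O' + δ * (1 + P)) := by
  have e1 : (O + O' + δ * (1 + P)) * P = (P * O + P) + (P * O' + P) + δ * (P + P * P) := by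
    rw [add_mul, add_mul, hOP, hO'P, mul_assoc, add_mul, one_mul]
  have e2 : P * (O + O' + δ * (1 + P)) = P * O + P * O' + δ * (P + P * P) := by
    rw [mul_add, mul_add, ← mul_assoc P δ, hδP, mul_assoc, mul_add, mul_one]
  rw [e1, e2]
  have h3 := h2 P
  calc P * O + P + (P * O' + P) + δ * (P + P * P) =
      P * O + P * O' + δ * (P + P * P) + (P + P) := by abel
    _ = _ := by rw [h3, add_zero]

include hTP hOT hO'T hδT in
theorem M_T : (O + O' + δ * (1 + P)) * T = T * (O + O' + δ * (1 + P)) + T := by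
  have e1 : (O + O' + δ * (1 + P)) * T = T * O + (T * O' + T) + δ * (T + T * P) := by
    rw [add_mul, add_mul, hOT, hO'T, mul_assoc, add_mul, one_mul, hTP]
  have e2 : T * (O + O' + δ * (1 + P)) = T * O + T * O' + δ * (T + T * P) := by
    rw [mul_add, mul_add, ← mul_assoc T δ, hδT, mul_assoc, mul_add, mul_one]
  rw [e1, e2]
  abel

include h2 hPP hOP hO'P hO hO' hz hδO hδO' hδP in
theorem M_M : (O + O' + δ * (1 + P)) * (O + O' + δ * (1 + P)) =
    (O + O' + δ * (1 + P)) + (c + c' + δ) := by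
  have e0 : (O + O') * (O + O') = O + c + (O' + c') + δ * P := by
    rw [add_mul, mul_add, mul_add, hO, hO', ← hz]
    abel
  have e1 : (O + O') * (δ * (1 + P)) = δ * (1 + P) * (O + O') := by
    have a1 : O * (δ * (1 + P)) = δ * (1 + P) * O + δ * P := by
      rw [← mul_assoc, hδO, mul_assoc, mul_add, mul_one, hOP]
      simp only [mul_add, add_mul, mul_one, mul_assoc]
      abel
    have a2 : O' * (δ * (1 + P)) = δ * (1 + P) * O' + δ * P := by
      rw [← mul_assoc, hδO', mul_assoc, mul_add, mul_one, hO'P]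
      simp only [mul_add, add_mul, mul_one, mul_assoc]
      abel
    rw [add_mul, a1, a2, mul_add (δ * (1 + P)) O O']
    have h3 := h2 (δ * P)
    calc δ * (1 + P) * O + δ * P + (δ * (1 + P) * O' + δ * P) =
        δ * (1 + P) * O + δ * (1 + P) * O' + (δ * P + δ * P) := by abel
      _ = _ := by rw [h3, add_zero]
  have e2 : δ * (1 + P) * (δ * (1 + P)) = 0 := by
    have a1 : (1 + P) * (1 + P) = 0 := by
      rw [add_mul, one_mul, mul_add, mul_one, hPP]
      have := h2 (1 + P)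
      rw [← this]
      abel
    have a2 : (1 + P) * δ = δ * (1 + P) := by
      rw [add_mul, one_mul, hδP, mul_add, mul_one]
    calc δ * (1 + P) * (δ * (1 + P)) = δ * ((1 + P) * δ) * (1 + P) := by simp only [mul_assoc]
      _ = δ * (δ * (1 + P)) * (1 + P) := by rw [a2]
      _ = δ * δ * ((1 + P) * (1 + P)) := by simp only [mul_assoc]
      _ = 0 := by rw [a1, mul_zero]
  have e3 : (O + O' + δ * (1 + P)) * (O + O' + δ * (1 + P)) =
      (O + O') * (O + O') + ((O + O') * (δ * (1 + P)) + δ * (1 + P) * (O + O')) +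
        δ * (1 + P) * (δ * (1 + P)) := by
    rw [add_mul (O + O'), mul_add (O + O'), mul_add (δ * (1 + P)) (O + O')]
    abel
  rw [e3, e1, h2, e2, e0, mul_add, mul_one]
  have h3 := h2 δ
  calc O + c + (O' + c') + δ * P + 0 + 0 = O + O' + δ * P + (c + c') := by abel
    _ = O + O' + δ * P + (c + c') + (δ + δ) := by rw [h3, add_zero]
    _ = _ := by abel

end M

end Cfsg.Agent.StdL2.F.Alg
end

-- part: StdL2/FKill
section
/-!
# S1773, case (f): no subgroup of odd order generated by two non commuting tori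
-/

set_option autoImplicit false
set_option linter.unusedSectionVars false

namespace Cfsg.Agent.StdL2.F

open Module

/-- abstract form, over the fixed field `k`: `O` and `M` commute, `M² = M + δ`, in the basis
`v, ω v, M v, ω M v`. -/
theorem kill_abs {k W : Type*} [Field k] [AddCommGroup W] [Module k W] (h2 : (2 : k) = 0)
    (O M : Module.End k W) (b : Basis (Fin 4) k W) (c δ : k)
    (hO0 : O (b 0) = b 1) (hO1 : O (b 1) = b 1 + c • b 0)
    (hO2 : O (b 2) = b 3) (hO3 : O (b 3) = b 3 + c • b 2)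
    (hM0 : M (b 0) = b 2) (hM1 : M (b 1) = b 3)
    (hM2 : M (b 2) = b 2 + δ • b 0) (hM3 : M (b 3) = b 3 + δ • b 1)
    {H : Type*} [Group H] [Fintype H] (hodd : Odd (Fintype.card H))
    (r : H →* Module.End k W) (hr : ∀ h, r h * M = M * r h)
    (hcent : ∀ z : Module.End k W, (∀ h, r h * z = z * r h) → ∃ x y : k, z = x • 1 + y • M) :
    False := by
  classical
  have trform : ∀ z : Module.End k W, LinearMap.trace k W z =
      b.repr (z (b 0)) 0 + b.repr (z (b 1)) 1 + b.repr (z (b 2)) 2 + b.repr (z (b 3)) 3 := by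
    intro z
    rw [LinearMap.trace_eq_matrix_trace k b, Matrix.trace, Fin.sum_univ_four]
    simp only [Matrix.diag_apply, LinearMap.toMatrix_apply]
  have htrM : LinearMap.trace k W M = 0 := by
    rw [trform, hM0, hM1, hM2, hM3]
    simp only [map_add, map_smul, Basis.repr_self, Finsupp.add_apply, Finsupp.smul_apply]
    simp only [_root_.Fin.isValue, _root_.ne_eq, _root_.Fin.reduceEq, _root_.not_false_eq_true, _root_.Finsupp.single_eq_of_ne, _root_.add_zero, _root_.Finsupp.single_eq_same, _root_.smul_eq_mul, _root_.MulZeroClass.mul_zero, _root_.zero_add]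
    rw [← h2]; norm_num
  have htrMM : LinearMap.trace k W (M * M) = 0 := by
    rw [trform]
    simp only [Module.End.mul_apply, hM0, hM1, hM2, hM3, map_add, map_smul, Basis.repr_self,
      Finsupp.add_apply, Finsupp.smul_apply]
    simp only [_root_.Fin.isValue, _root_.ne_eq, _root_.Fin.reduceEq, _root_.not_false_eq_true, _root_.Finsupp.single_eq_of_ne, _root_.Finsupp.single_eq_same, _root_.smul_eq_mul, _root_.mul_one, _root_.zero_add, _root_.MulZeroClass.mul_zero, _root_.add_zero]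
    linear_combination (2 * δ + 1) * h2
  have htrMO : LinearMap.trace k W (M * O) = 1 := by
    rw [trform]
    simp only [Module.End.mul_apply, hO0, hO1, hO2, hO3, hM0, hM1, hM2, hM3, map_add, map_smul,
      Basis.repr_self, Finsupp.add_apply, Finsupp.smul_apply]
    simp only [_root_.Fin.isValue, _root_.ne_eq, _root_.Fin.reduceEq, _root_.not_false_eq_true, _root_.Finsupp.single_eq_of_ne, _root_.smul_eq_mul, _root_.MulZeroClass.mul_zero, _root_.add_zero, _root_.Finsupp.single_eq_same, _root_.zero_add]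
  -- the average
  let P : Module.End k W := ∑ h : H, r h * O * r h⁻¹
  obtain ⟨x, y, hxy⟩ := hcent P (by
    intro g
    have h1 : r g * P * r g⁻¹ = P := by
      simp only [P]
      rw [Finset.mul_sum, Finset.sum_mul]
      apply Fintype.sum_equiv (Equiv.mulLeft g)
      intro h
      simp only [Equiv.coe_mulLeft, map_mul, mul_inv_rev, mul_assoc]
    have h3 : r g⁻¹ * r g = 1 := by rw [← map_mul, inv_mul_cancel, map_one]
    calc r g * P = r g * P * (r g⁻¹ * r g) := by rw [h3, mul_one]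
      _ = (r g * P * r g⁻¹) * r g := by simp only [mul_assoc]
      _ = P * r g := by rw [h1])
  have e1 : LinearMap.trace k W (M * P) = 0 := by
    rw [hxy, mul_add, mul_smul_comm, mul_smul_comm, mul_one, map_add, map_smul, map_smul, htrM,
      htrMM, smul_zero, smul_zero, add_zero]
  have e2 : LinearMap.trace k W (M * P) = (Fintype.card H : k) := by
    simp only [P]
    rw [Finset.mul_sum, map_sum]
    have : ∀ h : H, LinearMap.trace k W (M * (r h * O * r h⁻¹)) = 1 := by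
      intro h
      have h4 : M * (r h * O * r h⁻¹) = r h * ((M * O) * r h⁻¹) := by
        rw [← mul_assoc, ← mul_assoc, ← hr]; simp only [mul_assoc]
      have h3 : r h⁻¹ * r h = 1 := by rw [← map_mul, inv_mul_cancel, map_one]
      rw [h4, LinearMap.trace_mul_comm, mul_assoc, h3, mul_one, htrMO]
    rw [Finset.sum_congr rfl fun h _ => this h, Finset.sum_const, Finset.card_univ, nsmul_eq_mul,
      mul_one]
  have hcard : ((Fintype.card H : ℕ) : k) = 1 := by
    obtain ⟨n, hn⟩ := hodd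
    rw [hn]
    push_cast
    rw [h2]
    ring
  rw [e1, hcard] at e2
  exact zero_ne_one e2

section Mod

variable {X W F : Type*} [Group X] [AddCommGroup W] [DistribMulAction X W] [Field F]
  (κ : F →+* AddMonoid.End W) (σ : F ≃+* F)

/-- the fixed field of `σ` -/
def K0 : Subfield F where
  carrier := {a | σ a = a}
  mul_mem' := by
    intro a b ha hb
    change σ (a * b) = a * b
    rw [map_mul]; rw [show σ a = a from ha, show σ b = b from hb]
  one_mem' := map_one σ
  add_mem' := by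
    intro a b ha hb
    change σ (a + b) = a + b
    rw [map_add]; rw [show σ a = a from ha, show σ b = b from hb]
  zero_mem' := map_zero σ
  neg_mem' := by
    intro a ha
    change σ (-a) = -a
    rw [map_neg]; rw [show σ a = a from ha]
  inv_mem' := by
    intro a ha
    change σ (a⁻¹) = a⁻¹
    rw [map_inv₀]; rw [show σ a = a from ha]

theorem mem_K0 {a : F} : a ∈ K0 σ ↔ σ a = a := Iff.rfl

/-- `W` as a vector space over the fixed field -/
@[reducible] def modK0 : Module (K0 σ) W := Module.compHom W (κ.comp (K0 σ).subtype)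

/-- the operators commuting with the scalars of the fixed field -/
def Zc : Subring (AddMonoid.End W) := Subring.centralizer {z | ∃ a, σ a = a ∧ z = κ a}

theorem mem_Zc {z : AddMonoid.End W} : z ∈ Zc κ σ ↔ ∀ a, σ a = a → κ a * z = z * κ a := by
  rw [Zc, Subring.mem_centralizer_iff]
  constructor
  · intro h a ha
    exact h _ ⟨a, ha, rfl⟩
  · rintro h _ ⟨a, ha, rfl⟩
    exact h a ha

/-- operators commuting with the fixed field as linear maps -/
def toLin : Zc κ σ →+* @Module.End (K0 σ) W _ _ (modK0 κ σ) :=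
  letI := modK0 κ σ
  { toFun := fun z =>
      { toFun := fun w => (z : AddMonoid.End W) w
        map_add' := fun v w => map_add (z : AddMonoid.End W) v w
        map_smul' := fun a w => by
          have := DFunLike.congr_fun ((mem_Zc κ σ).mp z.2 (a : F) a.2) w
          exact this.symm }
    map_one' := rfl
    map_mul' := fun x y => rfl
    map_zero' := rfl
    map_add' := fun x y => rfl }

end Mod

namespace XC

variable {X W F : Type*} [Group X] [Finite X] [AddCommGroup W] [DistribMulAction X W] [Field F]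
  [Finite F] {κ : F →+* AddMonoid.End W} {d : Fˣ →* X} {σ : F ≃+* F} {t f : X} {w₁ : W}

/-- additivity of `κ` in the scalar -/
theorem k_add (a b : F) (w : W) : κ (a + b) w = κ a w + κ b w := by rw [map_add]; rfl

theorem k_mul (a b : F) (w : W) : κ (a * b) w = κ a (κ b w) := by rw [map_mul]; rfl

theorem k_vadd (a : F) (v w : W) : κ a (v + w) = κ a v + κ a w := map_add _ _ _

theorem k_one (w : W) : κ 1 w = w := by rw [map_one]; rfl

theorem k_zero (w : W) : κ 0 w = 0 := by rw [map_zero]; rfl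

/-- the fixed points of `f` -/
theorem fix_f (C : XC κ d σ t f w₁) {w : W} (hw : f • w = w) :
    ∃ a b : F, σ a = a ∧ σ b = b ∧ w = κ a w₁ + κ b (t • w₁ + w₁) := by
  obtain ⟨a, b, rfl⟩ := C.span w
  refine ⟨a, b, ?_, ?_, rfl⟩
  all_goals
    rw [smul_add, C.f_smul_kappa, C.f_smul_kappa, C.fw, C.f_v] at hw
    have h1 := C.indep (σ a - a) (σ b - b) (by
      rw [map_sub, map_sub]
      change (κ (σ a) w₁ - κ a w₁) + (κ (σ b) (t • w₁ + w₁) - κ b (t • w₁ + w₁)) = 0
      have : (κ (σ a) w₁ - κ a w₁) + (κ (σ b) (t • w₁ + w₁) - κ b (t • w₁ + w₁)) =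
        (κ (σ a) w₁ + κ (σ b) (t • w₁ + w₁)) - (κ a w₁ + κ b (t • w₁ + w₁)) := by abel
      rw [this, hw, sub_self])
  · exact sub_eq_zero.mp h1.1
  · exact sub_eq_zero.mp h1.2

/-- the fixed points of `t` -/
theorem fix_t (C : XC κ d σ t f w₁) {w : W} (hw : t • w = w) :
    ∃ b : F, w = κ b (t • w₁ + w₁) := by
  obtain ⟨a, b, rfl⟩ := C.span w
  rw [smul_add, C.t_smul_kappa, C.t_smul_kappa, C.t_v] at hw
  have h1 : κ a (t • w₁ + w₁) = 0 := by
    have h3 : κ a (t • w₁) = κ a w₁ := add_right_cancel hw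
    rw [map_add, h3]; exact C.add_self_W _
  have h2 := C.indep 0 a (by rw [h1, k_zero, add_zero])
  refine ⟨b, ?_⟩
  rw [h2.2, k_zero, zero_add]

theorem commute_omega (_C : XC κ d σ t f w₁) {ω : F} (hω : σ ω = ω + 1) : ω ≠ 0 := by
  rintro rfl
  rw [map_zero, zero_add] at hω
  exact zero_ne_one hω

theorem norm_a0 (C : XC κ d σ t f w₁) {ω : F} (hω : σ ω = ω + 1) :
    (1 + ω⁻¹) * σ (1 + ω⁻¹) = 1 := by
  have h0 := C.commute_omega hω
  have h1 : ω + 1 ≠ 0 := by
    rw [← hω]; exact fun h => h0 (by simpa using h)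
  rw [map_add, map_one, map_inv₀, hω]
  field_simp
  have := C.add_self_F (1 : F)
  have h2 := C.two
  linear_combination h2

theorem comm_of_a0 {ω : F} {z : AddMonoid.End W} (h : z * κ (1 + ω⁻¹) = κ (1 + ω⁻¹) * z) :
    z * κ ω = κ ω * z := by
  by_cases h0 : ω = 0
  · subst h0; rw [map_zero, mul_zero, zero_mul]
  have h1 : z * κ (ω⁻¹) = κ (ω⁻¹) * z := by
    rw [map_add, map_one, mul_add, add_mul, mul_one, one_mul] at h
    exact add_left_cancel h
  have h2 : κ ω * κ (ω⁻¹) = 1 := by rw [← map_mul, mul_inv_cancel₀ h0, map_one]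
  have h3 : κ (ω⁻¹) * κ ω = 1 := by rw [← map_mul, inv_mul_cancel₀ h0, map_one]
  calc z * κ ω = κ ω * κ (ω⁻¹) * z * κ ω := by rw [h2, one_mul]
    _ = κ ω * (z * κ (ω⁻¹)) * κ ω := by rw [h1]; simp only [mul_assoc]
    _ = κ ω * z * (κ (ω⁻¹) * κ ω) := by simp only [mul_assoc]
    _ = κ ω * z := by rw [h3, mul_one]

/-- no odd order subgroup with small commutant -/
theorem kill_odd (C : XC κ d σ t f w₁) {ω δ c' : F} (hω : σ ω = ω + 1) (hδ : σ δ = δ)
    (hδ0 : δ ≠ 0) (hc' : σ c' = c') (O' : AddMonoid.End W)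
    (hO'K : ∀ a, σ a = a → κ a * O' = O' * κ a)
    (hO'T : O' * rho X W t = rho X W t * O' + rho X W t)
    (hO'P : O' * rho X W f = rho X W f * O' + rho X W f)
    (hO' : O' * O' = O' + κ c')
    (hz : κ ω * O' + O' * κ ω = κ δ * rho X W f)
    (H : Subgroup X) (hodd : Odd (Nat.card H))
    (hHK : ∀ h ∈ H, ∀ a, σ a = a → κ a * rho X W h = rho X W h * κ a)
    (hHM : ∀ h ∈ H, rho X W h * (κ ω + O' + κ δ * (1 + rho X W f)) =
      (κ ω + O' + κ δ * (1 + rho X W f)) * rho X W h)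
    (hd : ∀ z ∈ Zc κ σ, (∀ h ∈ H, rho X W h * z = z * rho X W h) →
      z * κ ω = κ ω * z ∧ z * O' = O' * z) : False := by
  classical
  letI := modK0 (W := W) κ σ
  set T := rho X W t with hT
  set P := rho X W f with hP
  set M := κ ω + O' + κ δ * (1 + P) with hM
  have h2 : ∀ x : AddMonoid.End W, x + x = 0 := C.add_self_R
  have hOT : κ ω * T = T * κ ω := (C.t_kappa ω).symm
  have hOP : κ ω * P = P * κ ω + P := by
    have := C.f_kappa ω
    rw [hω, map_add, map_one, add_mul, one_mul] at this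
    rw [hP, this, add_assoc, h2, add_zero]
  have hδO : κ ω * κ δ = κ δ * κ ω := by rw [← map_mul, ← map_mul, mul_comm]
  have hδO' : O' * κ δ = κ δ * O' := (hO'K δ hδ).symm
  have hδP : P * κ δ = κ δ * P := by
    have := C.f_kappa δ
    rwa [hδ] at this
  have hδT : T * κ δ = κ δ * T := C.t_kappa δ
  have hO : κ ω * κ ω = κ ω + κ (ω * ω + ω) := by
    rw [map_add, map_mul]
    have := h2 (κ ω)
    rw [add_comm (κ ω * κ ω), ← add_assoc, this, zero_add]
  have hMO : M * κ ω = κ ω * M := Alg.M_O h2 hOP hz hδO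
  have hMP : M * P = P * M := Alg.M_P h2 hOP hO'P hδP
  have hMT : M * T = T * M + T := Alg.M_T C.rho_tf hOT hO'T hδT
  have hMM : M * M = M + κ (ω * ω + ω + c' + δ) := by
    have := Alg.M_M h2 C.rho_ff hOP hO'P hO hO' hz hδO hδO' hδP
    rw [map_add, map_add]; exact this
  -- scalars
  set δ₂ := ω * ω + ω + c' + δ with hδ₂
  have hδ₂0 : σ δ₂ = δ₂ := by
    rw [hδ₂, map_add, map_add, C.omega_sq hω, hc', hδ]
  -- the vectors
  set! v₁ := t • w₁ + w₁ with hv₁
  have hm1 : f • (M v₁) = M v₁ := by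
    have := DFunLike.congr_fun hMP v₁
    change M (f • v₁) = f • M v₁ at this
    rw [C.f_v] at this
    exact this.symm
  have htv : t • v₁ = v₁ := C.t_v
  have htw : t • w₁ = w₁ + v₁ := C.t_w
  have hm2 : t • (M v₁) = M v₁ + v₁ := by
    have h3 : M (t • v₁) = t • M v₁ + t • v₁ := DFunLike.congr_fun hMT v₁
    rw [htv] at h3
    calc t • (M v₁) = t • M v₁ + v₁ + v₁ := by rw [add_assoc, C.add_self_W, add_zero]
      _ = M v₁ + v₁ := by rw [← h3]
  obtain ⟨a, b, ha, hb, hab⟩ := C.fix_f hm1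
  have ha1 : a = 1 := by
    have h1 := hm2
    have hab' : M v₁ = κ a w₁ + κ b v₁ := hab
    rw [hab', smul_add, C.t_smul_kappa, C.t_smul_kappa, htv, htw, map_add] at h1
    have h3 : κ a v₁ = v₁ := by
      have h4 : κ a w₁ + κ b v₁ + κ a v₁ = κ a w₁ + κ b v₁ + v₁ := by
        rw [← h1]; abel
      exact add_left_cancel h4
    have h5 := C.indep 0 (a + 1) (by
      rw [k_zero, zero_add, k_add, k_one]
      change κ a v₁ + v₁ = 0
      rw [h3]; exact C.add_self_W _)
    have h6 := eq_neg_of_add_eq_zero_left h5.2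
    rwa [C.neg_F] at h6
  subst ha1
  have hab : M v₁ = w₁ + κ b v₁ := by rw [hab, k_one]
  have key : ∀ g0 g1 g2 g3 : F, κ g0 v₁ + κ g1 (κ ω v₁) + κ g2 (M v₁) + κ g3 (κ ω (M v₁)) =
      κ (g2 + g3 * ω) w₁ + κ (g0 + g1 * ω + (g2 + g3 * ω) * b) v₁ := by
    intro g0 g1 g2 g3
    rw [hab]
    simp only [add_mul]
    simp only [k_add, k_mul, k_vadd]
    abel
  let vb : Fin 4 → W := ![v₁, κ ω v₁, M v₁, κ ω (M v₁)]
  have hli : LinearIndependent (K0 σ) vb := by
    rw [Fintype.linearIndependent_iff]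
    intro g hg
    rw [Fin.sum_univ_four] at hg
    change κ (g 0 : F) v₁ + κ (g 1 : F) (κ ω v₁) + κ (g 2 : F) (M v₁) +
      κ (g 3 : F) (κ ω (M v₁)) = 0 at hg
    rw [key] at hg
    obtain ⟨h3, h4⟩ := C.indep _ _ hg
    obtain ⟨h5, h6⟩ := C.decomp_unique hω (g 2).2 (g 3).2 h3
    rw [h3, zero_mul, add_zero] at h4
    obtain ⟨h7, h8⟩ := C.decomp_unique hω (g 0).2 (g 1).2 h4
    intro i
    fin_cases i
    · exact Subtype.ext h7
    · exact Subtype.ext h8
    · exact Subtype.ext h5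
    · exact Subtype.ext h6
  have hsp : ⊤ ≤ Submodule.span (K0 σ) (Set.range vb) := by
    intro w _
    obtain ⟨a, b', hw⟩ := C.span w
    obtain ⟨g2, g3, hg2, hg3, ha⟩ := C.decomp hω a
    obtain ⟨g0, g1, hg0, hg1, hb'⟩ := C.decomp hω (b' + a * b)
    have h3 : w = (⟨g0, hg0⟩ : K0 σ) • vb 0 + (⟨g1, hg1⟩ : K0 σ) • vb 1 +
        (⟨g2, hg2⟩ : K0 σ) • vb 2 + (⟨g3, hg3⟩ : K0 σ) • vb 3 := by
      change w = κ g0 v₁ + κ g1 (κ ω v₁) + κ g2 (M v₁) + κ g3 (κ ω (M v₁))
      rw [key, ← ha, ← hb', add_assoc, C.add_self_F, add_zero, hw]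
    rw [h3]
    have h4 : ∀ i, vb i ∈ Submodule.span (K0 σ) (Set.range vb) := fun i =>
      Submodule.subset_span ⟨i, rfl⟩
    exact add_mem (add_mem (add_mem (Submodule.smul_mem _ _ (h4 0))
      (Submodule.smul_mem _ _ (h4 1))) (Submodule.smul_mem _ _ (h4 2)))
      (Submodule.smul_mem _ _ (h4 3))
  let B := Basis.mk hli hsp
  have hB : ∀ i, B i = vb i := fun i => Basis.mk_apply hli hsp i
  -- the operators
  have hOZ : κ ω ∈ Zc κ σ := by
    rw [mem_Zc]; intro a _; rw [← map_mul, ← map_mul, mul_comm]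
  have hMZ : M ∈ Zc κ σ := by
    rw [mem_Zc]
    intro a ha
    have h3 : P * κ a = κ a * P := by
      have := C.f_kappa a
      rwa [ha] at this
    have h4 : κ a * κ δ = κ δ * κ a := by rw [← map_mul, ← map_mul, mul_comm]
    have h5 : κ a * κ ω = κ ω * κ a := by rw [← map_mul, ← map_mul, mul_comm]
    rw [hM, mul_add, mul_add, add_mul, add_mul, h5, hO'K a ha, ← mul_assoc, h4, mul_assoc,
      mul_add, mul_one, ← h3, mul_assoc, add_mul, one_mul]
  haveI := Fintype.ofFinite H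
  have hodd' : Odd (Fintype.card H) := by rwa [← Nat.card_eq_fintype_card]
  let r : H →* Module.End (K0 σ) W :=
    { toFun := fun h => toLin κ σ ⟨rho X W h, (mem_Zc κ σ).mpr (hHK h h.2)⟩
      map_one' := by
        have h3 : (⟨rho X W ((1 : H) : X), (mem_Zc κ σ).mpr (hHK _ (1 : H).2)⟩ : Zc κ σ) = 1 :=
          Subtype.ext (map_one (rho X W))
        exact (congrArg (toLin κ σ) h3).trans ((map_one _ : _))
      map_mul' := fun x y => by
        have h3 : (⟨rho X W ((x * y : H) : X), (mem_Zc κ σ).mpr (hHK _ (x * y).2)⟩ : Zc κ σ) =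
            ⟨rho X W (x : X), (mem_Zc κ σ).mpr (hHK _ x.2)⟩ *
              ⟨rho X W (y : X), (mem_Zc κ σ).mpr (hHK _ y.2)⟩ :=
          Subtype.ext (map_mul (rho X W) (x : X) (y : X))
        exact (congrArg (toLin κ σ) h3).trans ((map_mul _ _ _ : _)) }
  refine kill_abs (k := K0 σ) (W := W) ?_ (toLin κ σ ⟨κ ω, hOZ⟩) (toLin κ σ ⟨M, hMZ⟩) B
    (⟨ω * ω + ω, C.omega_sq hω⟩ : K0 σ) (⟨δ₂, hδ₂0⟩ : K0 σ) ?_ ?_ ?_ ?_ ?_ ?_ ?_ ?_ hodd' r ?_ ?_
  · exact Subtype.ext C.two
  · rw [hB, hB]; rfl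
  · rw [hB, hB]
    change κ ω (κ ω v₁) = κ ω v₁ + κ (ω * ω + ω) v₁
    rw [k_add, k_mul, add_comm (κ ω (κ ω v₁)), ← add_assoc, C.add_self_W, zero_add]
  · rw [hB, hB]; rfl
  · rw [hB, hB]
    change κ ω (κ ω (M v₁)) = κ ω (M v₁) + κ (ω * ω + ω) (M v₁)
    rw [k_add, k_mul, add_comm (κ ω (κ ω (M v₁))), ← add_assoc, C.add_self_W, zero_add]
  · rw [hB, hB]; rfl
  · rw [hB, hB]
    exact DFunLike.congr_fun hMO v₁
  · rw [hB, hB]
    exact DFunLike.congr_fun hMM v₁
  · rw [hB, hB]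
    change M (κ ω (M v₁)) = κ ω (M v₁) + κ δ₂ (κ ω v₁)
    have h3 : M (κ ω (M v₁)) = κ ω (M (M v₁)) := DFunLike.congr_fun hMO (M v₁)
    have h4 : M (M v₁) = M v₁ + κ δ₂ v₁ := DFunLike.congr_fun hMM v₁
    rw [h3, h4, map_add, ← k_mul, ← k_mul, mul_comm]
  · intro h
    have h3 : (⟨rho X W (h : X), (mem_Zc κ σ).mpr (hHK _ h.2)⟩ : Zc κ σ) * ⟨M, hMZ⟩ =
        ⟨M, hMZ⟩ * ⟨rho X W (h : X), (mem_Zc κ σ).mpr (hHK _ h.2)⟩ :=
      Subtype.ext (hHM h h.2)
    have h4 := congrArg (toLin κ σ) h3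
    rw [map_mul, map_mul] at h4
    exact h4
  · intro z hz'
    let zE : AddMonoid.End W := z.toAddMonoidHom
    have hzE : zE ∈ Zc κ σ := by
      rw [mem_Zc]
      intro a ha
      ext w
      exact (map_smul z (⟨a, ha⟩ : K0 σ) w).symm
    obtain ⟨h3, h4⟩ := hd zE hzE (by
      intro h hh
      ext w
      exact LinearMap.congr_fun (hz' ⟨h, hh⟩) w)
    have h5 : zE * P = P * zE := by
      have e1 : zE * (κ δ * P) = κ δ * P * zE := by
        have a1 : zE * (κ ω * O') = κ ω * O' * zE := by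
          rw [← mul_assoc, h3, mul_assoc, h4, ← mul_assoc]
        have a2 : zE * (O' * κ ω) = O' * κ ω * zE := by
          rw [← mul_assoc, h4, mul_assoc, h3, ← mul_assoc]
        rw [← hz, mul_add, add_mul, a1, a2]
      have e2 : zE * κ δ = κ δ * zE := ((mem_Zc κ σ).mp hzE δ hδ).symm
      rw [← mul_assoc, e2] at e1
      have e3 : κ (δ⁻¹) * κ δ = 1 := by rw [← map_mul, inv_mul_cancel₀ hδ0, map_one]
      calc zE * P = κ (δ⁻¹) * κ δ * (zE * P) := by rw [e3, one_mul]
        _ = κ (δ⁻¹) * (κ δ * zE * P) := by simp only [mul_assoc]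
        _ = κ (δ⁻¹) * κ δ * (P * zE) := by rw [e1]; simp only [mul_assoc]
        _ = P * zE := by rw [e3, one_mul]
    have h6 : zE * M = M * zE := by
      have e2 : zE * κ δ = κ δ * zE := ((mem_Zc κ σ).mp hzE δ hδ).symm
      rw [hM, mul_add, mul_add, add_mul, add_mul, h3, h4, ← mul_assoc, e2, mul_assoc, mul_add,
        mul_one, h5, mul_assoc, add_mul, one_mul]
    have h7 : f • (z v₁) = z v₁ := by
      have := DFunLike.congr_fun h5 v₁
      change z (f • v₁) = f • z v₁ at this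
      rw [C.f_v] at this
      exact this.symm
    obtain ⟨x, y, hx, hy, hxy⟩ := C.fix_f h7
    have h8 : z v₁ = κ (y + x * b) v₁ + κ x (M v₁) := by
      have hxy' : z v₁ = κ x w₁ + κ y v₁ := hxy
      have h9 : κ x (M v₁) = κ x w₁ + κ (x * b) v₁ := by rw [hab, k_vadd, k_mul]
      rw [hxy', h9, k_add]
      have := C.add_self_W (κ (x * b) v₁)
      calc κ x w₁ + κ y v₁ = κ x w₁ + κ y v₁ + (κ (x * b) v₁ + κ (x * b) v₁) := by
            rw [this, add_zero]
        _ = _ := by abel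
    have hyx : σ (y + x * b) = y + x * b := by rw [map_add, map_mul, hy, hx, hb]
    refine ⟨⟨y + x * b, hyx⟩, ⟨x, hx⟩, ?_⟩
    have e1 : ∀ w, z (κ ω w) = κ ω (z w) := fun w => DFunLike.congr_fun h3 w
    have e2 : ∀ w, z (M w) = M (z w) := fun w => DFunLike.congr_fun h6 w
    have e3 : ∀ w, M (κ ω w) = κ ω (M w) := fun w => DFunLike.congr_fun hMO w
    have e4 : ∀ a w, σ a = a → M (κ a w) = κ a (M w) := fun a w ha =>
      (DFunLike.congr_fun ((mem_Zc κ σ).mp hMZ a ha) w).symm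
    have e5 : ∀ (a b : F) (w : W), κ a (κ b w) = κ b (κ a w) := fun a b w => by
      rw [← k_mul, ← k_mul, mul_comm]
    apply B.ext
    intro i
    rw [hB]
    change z (vb i) = κ (y + x * b) (vb i) + κ x (M (vb i))
    fin_cases i
    · exact h8
    · change z (κ ω v₁) = κ (y + x * b) (κ ω v₁) + κ x (M (κ ω v₁))
      rw [e1, h8, map_add, e3, e5 ω, e5 ω]
    · change z (M v₁) = κ (y + x * b) (M v₁) + κ x (M (M v₁))
      rw [e2, h8, map_add, e4 _ _ hyx, e4 _ _ hx]
    · change z (κ ω (M v₁)) = κ (y + x * b) (κ ω (M v₁)) + κ x (M (κ ω (M v₁)))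
      rw [e1, e2, h8, map_add, e4 _ _ hyx, e4 _ _ hx, map_add, e3, e5 ω, e5 ω]

end XC

end Cfsg.Agent.StdL2.F
end

-- part: StdL2/FNorm
section
/-!
# S1773, case (f): centralizers, and the torus of the fixed field is normalized
-/

set_option autoImplicit false
set_option linter.unusedSectionVars false

namespace Cfsg.Agent.StdL2.F

theorem card_fixed (K : Type*) [Field K] [Finite K] (τ : RingAut K) :
    Nat.card K = (Nat.card {a : K // τ a = a}) ^ (orderOf τ) := by
  classical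
  have : Finite (RingAut K) :=
    Finite.of_injective (fun τ : RingAut K => (τ : K → K))
      (fun a b h => RingEquiv.ext (fun x => congrFun h x))
  have : Fintype (Subgroup.zpowers τ) := Fintype.ofFinite _
  have h1 := FixedPoints.finrank_eq_card (Subgroup.zpowers τ) K
  have h2 := Module.natCard_eq_pow_finrank (K := FixedPoints.subfield (Subgroup.zpowers τ) K) (V := K)
  rw [h1] at h2
  rw [← Nat.card_zpowers, Nat.card_eq_fintype_card (α := Subgroup.zpowers τ), h2]
  congr 1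
  apply Nat.card_congr
  refine Equiv.subtypeEquivRight ?_
  intro a
  constructor
  · intro h
    exact h ⟨τ, Subgroup.mem_zpowers τ⟩
  · intro h g
    obtain ⟨g, n, rfl⟩ := g
    have h3 : τ ∈ MulAction.stabilizer (RingAut K) a := h
    exact (MulAction.stabilizer (RingAut K) a).zpow_mem h3 n

theorem pow_gt {r k : ℕ} (hr : 2 ≤ r) (hk : 2 ≤ k) : k * (r - 1) < r ^ k - 1 := by
  obtain ⟨s, rfl⟩ : ∃ s, r = s + 1 := ⟨r - 1, by omega⟩
  have h1 : 1 ≤ s := by omega
  rw [Nat.add_sub_cancel]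
  have key : ∀ k, 2 ≤ k → k * s + 1 < (s + 1) ^ k := by
    intro k hk
    induction k, hk using Nat.le_induction with
    | base => nlinarith
    | succ n hn ih =>
      rw [pow_succ]
      calc (n + 1) * s + 1 = n * s + 1 + s := by ring
        _ ≤ (n * s + 1) * (s + 1) := by nlinarith only [Nat.zero_le (n * s)]
        _ < (s + 1) ^ n * (s + 1) := by
          apply Nat.mul_lt_mul_of_pos_right ih; omega
  have := key k hk
  omega

namespace XC

variable {X W F : Type*} [Group X] [Finite X] [AddCommGroup W] [DistribMulAction X W] [Field F]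
  [Finite F] {κ : F →+* AddMonoid.End W} {d : Fˣ →* X} {σ : F ≃+* F} {t f : X} {w₁ : W}

theorem rho_mul_inv (x : X) : rho X W x * rho X W x⁻¹ = 1 := by
  rw [← map_mul, mul_inv_cancel, map_one]

theorem rho_inv_mul (x : X) : rho X W x⁻¹ * rho X W x = 1 := by
  rw [← map_mul, inv_mul_cancel, map_one]

/-- elements of `C(t)` act on `κ(F)` -/
theorem conj_kappa (C : XC κ d σ t f w₁) {x : X} (hx : x * t = t * x) (a : F) :
    ∃ b : F, rho X W x * κ a = κ b * rho X W x := by
  by_cases ha : a = 0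
  · subst ha; exact ⟨0, by rw [map_zero, mul_zero, zero_mul]⟩
  · obtain ⟨b, hb⟩ := C.normD x hx (Units.mk0 a ha)
    refine ⟨b, ?_⟩
    have h := congrArg (rho X W) hb
    rw [map_mul, map_mul, C.rho_d, C.rho_d] at h
    exact h

theorem commute_d (C : XC κ d σ t f w₁) {x : X} {a : Fˣ}
    (h : rho X W x * κ (a : F) = κ (a : F) * rho X W x) : x * d a = d a * x := by
  apply C.rho_inj
  rw [map_mul, map_mul, C.rho_d, h]

theorem kappa_eq {C : XC κ d σ t f w₁} {x : X} {a b : F}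
    (h : κ a * rho X W x = κ b * rho X W x) : a = b := by
  apply C.kappa_injective
  calc κ a = κ a * rho X W x * rho X W x⁻¹ := by rw [mul_assoc, rho_mul_inv, mul_one]
    _ = κ b := by rw [h, mul_assoc, rho_mul_inv, mul_one]

/-- the centralizer of `t` and of the fixed field. -/
theorem cent_tK (C : XC κ d σ t f w₁) {x : X} (hx : x * t = t * x)
    (hK : ∀ a, σ a = a → rho X W x * κ a = κ a * rho X W x) :
    ∃ a : Fˣ, x = d a ∨ x = t * d a ∨ x = d a * f ∨ x = t * d a * f := by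
  obtain ⟨ω, hω⟩ := C.exists_omega
  obtain ⟨b, hb⟩ := C.conj_kappa hx ω
  have h2 : ∀ x : AddMonoid.End W, x + x = 0 := C.add_self_R
  -- `b ^ 2 + b = ω ^ 2 + ω`
  have h1 : b * b + b = ω * ω + ω := by
    have e1 : rho X W x * κ (ω * ω + ω) = κ (b * b + b) * rho X W x := by
      rw [map_add, map_mul, mul_add, ← mul_assoc, hb, mul_assoc, hb, ← mul_assoc, map_add, map_mul,
        add_mul]
    rw [hK _ (C.omega_sq hω)] at e1
    exact (kappa_eq (C := C) e1).symm
  have h3 : (b - ω) * (b - ω - 1) = 0 := by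
    have h4 := C.add_self_F ω
    have h5 := C.add_self_F (b * ω)
    linear_combination h1 + (ω + 1) * h4 - h5 - b * C.two
  have hall : ∀ y : X, rho X W y * κ ω = κ ω * rho X W y →
      (∀ a, σ a = a → rho X W y * κ a = κ a * rho X W y) → ∀ a, y * d a = d a * y := by
    intro y hy hyK a
    apply C.commute_d
    obtain ⟨u, v, hu, hv, huv⟩ := C.decomp hω (a : F)
    rw [huv, map_add, map_mul, mul_add, add_mul, hyK u hu, ← mul_assoc, hyK v hv, mul_assoc, hy,
      mul_assoc]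
  rcases mul_eq_zero.mp h3 with h4 | h4
  · have hbω : b = ω := sub_eq_zero.mp h4
    rw [hbω] at hb
    obtain ⟨a, ha | ha⟩ := C.centD x hx (hall x hb hK)
    · exact ⟨a, Or.inl ha⟩
    · exact ⟨a, Or.inr (Or.inl ha)⟩
  · have hbω : b = ω + 1 := by linear_combination h4
    rw [hbω] at hb
    have hxf : (x * f) * t = t * (x * f) := by
      rw [mul_assoc, ← C.tf, ← mul_assoc, hx, mul_assoc]
    have h5 : rho X W (x * f) * κ ω = κ ω * rho X W (x * f) := by
      have e1 : rho X W x * κ (ω + 1) = κ ω * rho X W x := by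
        rw [map_add, map_one, mul_add, mul_one, hb, map_add, map_one, add_mul, one_mul, add_assoc,
          h2, add_zero]
      rw [map_mul, mul_assoc, C.f_kappa, hω, ← mul_assoc, e1, mul_assoc]
    have h6 : ∀ a, σ a = a → rho X W (x * f) * κ a = κ a * rho X W (x * f) := by
      intro a ha
      rw [map_mul, mul_assoc, C.f_kappa, ha, ← mul_assoc, hK a ha, mul_assoc]
    obtain ⟨a, ha | ha⟩ := C.centD _ hxf (hall _ h5 h6)
    · refine ⟨a, Or.inr (Or.inr (Or.inl ?_))⟩
      rw [← ha, mul_assoc, C.ff, mul_one]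
    · refine ⟨a, Or.inr (Or.inr (Or.inr ?_))⟩
      rw [← ha, mul_assoc, C.ff, mul_one]

/-- the centralizer of `t`, `f` and the fixed field -/
theorem cent_tfK (C : XC κ d σ t f w₁) {x : X} (hx : x * t = t * x) (hxf : x * f = f * x)
    (hK : ∀ a, σ a = a → rho X W x * κ a = κ a * rho X W x) :
    ∃ a : Fˣ, σ a = a ∧ (x = d a ∨ x = t * d a ∨ x = f * d a ∨ x = t * f * d a) := by
  have key : ∀ a : Fˣ, d a * f = f * d a → σ a = a := by
    intro a ha
    have h1 := C.fd a
    rw [← ha] at h1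
    have h2 := C.d_inj (mul_right_cancel h1)
    have h3 := congrArg (fun u : Fˣ => (u : F)) h2
    exact h3.symm
  obtain ⟨a, h | h | h | h⟩ := C.cent_tK hx hK
  · exact ⟨a, key a (by rw [← h, hxf]), Or.inl h⟩
  · have h1 : d a * f = f * d a := by
      have : t * (d a * f) = t * (f * d a) := by
        rw [← mul_assoc, ← h, hxf, h, ← mul_assoc, ← C.tf, mul_assoc]
      exact mul_left_cancel this
    exact ⟨a, key a h1, Or.inr (Or.inl h)⟩
  · have h1 : d a * f = f * d a := by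
      have : (d a * f) * f = (f * d a) * f := by
        rw [← h, hxf, h]; simp only [mul_assoc]
      exact mul_right_cancel this
    exact ⟨a, key a h1, Or.inr (Or.inr (Or.inl (by rw [h, h1])))⟩
  · have h1 : d a * f = f * d a := by
      have e1 : t * (d a * f * f) = t * (f * d a * f) := by
        have e2 : t * (d a * f * f) = x * f := by rw [h]; simp only [mul_assoc]
        have e3 : t * (f * d a * f) = f * x := by
          rw [h]; simp only [← mul_assoc]; rw [C.tf]
        rw [e2, e3, hxf]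
      exact mul_right_cancel (mul_left_cancel e1)
    exact ⟨a, key a h1, Or.inr (Or.inr (Or.inr (by rw [h, mul_assoc, h1, mul_assoc])))⟩

/-- none of `t`, `f`, `t f` is a scalar -/
theorem not_scalar (C : XC κ d σ t f w₁) (a : Fˣ) : t ≠ d a ∧ f ≠ d a ∧ t * f ≠ d a := by
  have key : ∀ b : F, t • w₁ ≠ κ b w₁ := by
    intro b hb
    have h1 := C.indep (1 - b) 1 (by
      rw [map_sub, map_one]
      change (w₁ - κ b w₁) + (t • w₁ + w₁) = 0
      rw [← hb]
      have := C.add_self_W w₁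
      calc w₁ - t • w₁ + (t • w₁ + w₁) = w₁ + w₁ := by abel
        _ = 0 := this)
    exact one_ne_zero h1.2
  refine ⟨?_, ?_, ?_⟩
  · intro h
    exact key a (by rw [← C.act, ← h])
  · intro h
    have h1 : κ (a : F) w₁ = w₁ := by rw [← C.act, ← h, C.fw]
    have h3 := C.indep ((a : F) - 1) 0 (by
      rw [map_sub, map_one, map_zero]
      change (κ (a : F) w₁ - w₁) + (0 : W) = 0
      rw [h1, sub_self, add_zero])
    have h4 : a = 1 := Units.ext (sub_eq_zero.mp h3.1)
    rw [h4, map_one] at h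
    exact C.f_ne_one h
  · intro h
    exact key a (by rw [← C.act, ← h, mul_smul, C.fw])

/-- elements of odd order in `⟨t, f⟩ d(K₀ˣ)` lie in `d(K₀ˣ)`. -/
theorem odd_mem (C : XC κ d σ t f w₁) {x : X} {n : ℕ} (hn : Odd n) (hxn : x ^ n = 1) {a : Fˣ}
    (ha : σ a = a) (h : x = d a ∨ x = t * d a ∨ x = f * d a ∨ x = t * f * d a) : x = d a := by
  have hfd : f * d a = d a * f := by
    rw [C.fd]
    congr 2
    exact Units.ext ha
  have key : ∀ e : X, e * e = 1 → Commute e (d a) → x = e * d a → ∃ b, e = d b := by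
    intro e he hc hx
    rw [hx, hc.mul_pow, ← map_pow] at hxn
    obtain ⟨k, hk⟩ := hn
    have h1 : e ^ n = e := by rw [hk, pow_succ, pow_mul, pow_two, he, one_pow, one_mul]
    rw [h1] at hxn
    refine ⟨(a ^ n)⁻¹, ?_⟩
    rw [map_inv]
    exact eq_inv_of_mul_eq_one_left hxn
  rcases h with h | h | h | h
  · exact h
  · obtain ⟨b, hb⟩ := key t C.tt (C.td a) h
    exact absurd hb (C.not_scalar b).1
  · obtain ⟨b, hb⟩ := key f C.ff hfd h
    exact absurd hb (C.not_scalar b).2.1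
  · obtain ⟨b, hb⟩ := key (t * f) (by
      rw [mul_assoc, ← mul_assoc f t f, ← C.tf, mul_assoc t f f, C.ff, mul_one, C.tt])
      (by
        change t * f * d a = d a * (t * f)
        rw [mul_assoc, hfd, ← mul_assoc, C.td, mul_assoc]) h
    exact absurd hb (C.not_scalar b).2.2

/-- an element normalizing `⟨t, f⟩` normalizes the torus `d(K₀ˣ)` of the fixed field. -/
theorem norm_K0 (C : XC κ d σ t f w₁) {y : X}
    (hyt : y * t * y⁻¹ = t ∨ y * t * y⁻¹ = f ∨ y * t * y⁻¹ = t * f)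
    (hyf : y * f * y⁻¹ = t ∨ y * f * y⁻¹ = f ∨ y * f * y⁻¹ = t * f) :
    ∀ a : Fˣ, σ a = a → ∃ b : Fˣ, σ b = b ∧ y * d a = d b * y := by
  classical
  obtain ⟨g, hg⟩ := IsCyclic.exists_generator (α := (K0 σ)ˣ)
  set! a₀ : Fˣ := Units.map ((K0 σ).subtype : K0 σ →* F) g with ha₀
  have ha₀σ : σ (a₀ : F) = a₀ := (g : K0 σ).2
  obtain ⟨h, hh⟩ : ∃ h, h = y * d a₀ * y⁻¹ := ⟨_, rfl⟩
  have hdf : d a₀ * f = f * d a₀ := by
    rw [C.fd]
    congr 2
    exact Units.ext ha₀σ.symm
  have hc : ∀ e : X, d a₀ * e = e * d a₀ → h * (y * e * y⁻¹) = (y * e * y⁻¹) * h := by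
    intro e he
    have e1 : h * (y * e * y⁻¹) = y * (d a₀ * e) * y⁻¹ := by rw [hh]; group
    have e2 : (y * e * y⁻¹) * h = y * (e * d a₀) * y⁻¹ := by rw [hh]; group
    rw [e1, e2, he]
  have h1 : Commute h (y * t * y⁻¹) := hc t (C.td a₀).symm
  have h2 : Commute h (y * f * y⁻¹) := hc f hdf
  have hne : y * t * y⁻¹ ≠ y * f * y⁻¹ := by
    intro h
    exact C.f_ne_t (mul_left_cancel (mul_right_cancel h)).symm
  have etf1 : t * (t * f) = f := by rw [← mul_assoc, C.tt, one_mul]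
  have etf2 : (t * f) * f = t := by rw [mul_assoc, C.ff, mul_one]
  have hcomm : Commute h t ∧ Commute h f := by
    rcases hyt with e1 | e1 | e1 <;> rcases hyf with e2 | e2 | e2 <;> rw [e1] at h1 hne <;>
      rw [e2] at h2 hne
    · exact absurd rfl hne
    · exact ⟨h1, h2⟩
    · exact ⟨h1, etf1 ▸ h1.mul_right h2⟩
    · exact ⟨h2, h1⟩
    · exact absurd rfl hne
    · exact ⟨etf2 ▸ h2.mul_right h1, h1⟩
    · exact ⟨h2, etf1 ▸ h2.mul_right h1⟩
    · exact ⟨etf2 ▸ h1.mul_right h2, h2⟩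
    · exact absurd rfl hne
  obtain ⟨hht, hhf⟩ := hcomm
  -- the automorphism of the fixed field
  have hτ : ∀ a : K0 σ, ∃ b : K0 σ, rho X W h * κ (a : F) = κ (b : F) * rho X W h := by
    intro a
    obtain ⟨b, hb⟩ := C.conj_kappa hht a
    have e1 : κ (σ b) * (rho X W f * rho X W h) = κ b * (rho X W f * rho X W h) := by
      have e2 : rho X W f * rho X W h = rho X W h * rho X W f := by
        rw [← map_mul, ← map_mul]; exact congrArg _ hhf.symm.eq
      have e3 : σ (a : F) = a := a.2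
      calc κ (σ b) * (rho X W f * rho X W h) = rho X W f * (κ b * rho X W h) := by
            rw [← mul_assoc, ← C.f_kappa, mul_assoc]
        _ = (rho X W f * rho X W h) * κ (a : F) := by rw [← hb, mul_assoc]
        _ = rho X W h * (rho X W f * κ (a : F)) := by rw [e2, mul_assoc]
        _ = (rho X W h * κ (a : F)) * rho X W f := by rw [C.f_kappa, e3, mul_assoc]
        _ = κ b * (rho X W f * rho X W h) := by rw [hb, mul_assoc, e2]
    have e4 : σ b = b := by
      rw [← map_mul] at e1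
      exact kappa_eq (C := C) e1
    exact ⟨⟨b, e4⟩, hb⟩
  choose τf hτf using hτ
  have huniq : ∀ {a b : K0 σ}, κ (a : F) * rho X W h = κ (b : F) * rho X W h → a = b :=
    fun hab => Subtype.ext (kappa_eq (C := C) hab)
  let τh : K0 σ →+* K0 σ :=
    { toFun := τf
      map_one' := huniq (by
        rw [← hτf]
        change rho X W h * κ 1 = κ 1 * rho X W h
        rw [map_one, mul_one, one_mul])
      map_zero' := huniq (by
        rw [← hτf]
        change rho X W h * κ 0 = κ 0 * rho X W h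
        rw [map_zero, mul_zero, zero_mul])
      map_mul' := fun a b => huniq (by
        rw [← hτf]
        change rho X W h * κ ((a : F) * b) = κ ((τf a : F) * τf b) * rho X W h
        rw [map_mul, map_mul, ← mul_assoc, hτf, mul_assoc, hτf, ← mul_assoc])
      map_add' := fun a b => huniq (by
        rw [← hτf]
        change rho X W h * κ ((a : F) + b) = κ ((τf a : F) + τf b) * rho X W h
        rw [map_add, map_add, mul_add, hτf, hτf, add_mul]) }
  have hbij : Function.Bijective τh := by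
    rw [← Finite.injective_iff_bijective]
    exact τh.injective
  let τ : RingAut (K0 σ) := RingEquiv.ofBijective τh hbij
  have hτ : ∀ a : K0 σ, rho X W h * κ (a : F) = κ (τ a : F) * rho X W h := hτf
  have hτpow : ∀ n : ℕ, ∀ a : K0 σ,
      rho X W (h ^ n) * κ (a : F) = κ ((τ ^ n) a : F) * rho X W (h ^ n) := by
    intro n
    induction n with
    | zero =>
      intro a
      rw [pow_zero, pow_zero, map_one, one_mul, mul_one]
      rfl
    | succ n ih =>
      intro a
      rw [pow_succ, pow_succ, map_mul, mul_assoc, hτ, ← mul_assoc, ih, mul_assoc]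
      rfl
  -- odd order
  have hcardK : Nat.card (K0 σ)ˣ = Nat.card (K0 σ) - 1 := by
    rw [Nat.card_units]
  have h2K : (2 : K0 σ) = 0 := Subtype.ext C.two
  have heven : Even (Nat.card (K0 σ)) := by
    haveI : CharP (K0 σ) 2 := CharTwo.of_one_ne_zero_of_two_eq_zero one_ne_zero h2K
    haveI := Fintype.ofFinite (K0 σ)
    rw [Nat.card_eq_fintype_card]
    obtain ⟨n, hn1, hn2⟩ := FiniteField.card (K0 σ) 2
    rw [hn2]
    exact (Nat.even_pow.mpr ⟨even_two, n.pos.ne'⟩)
  have hpos : 2 ≤ Nat.card (K0 σ) := by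
    have := Finite.one_lt_card (α := K0 σ)
    omega
  set N := Nat.card (K0 σ)ˣ with hN
  have hNodd : Odd N := by
    rw [hcardK]
    exact Nat.Even.sub_odd (by omega) heven odd_one
  have hhN : h ^ N = 1 := by
    have e1 : h ^ N = y * (d a₀) ^ N * y⁻¹ := by rw [hh]; exact conj_pow
    have e2 : g ^ N = 1 := pow_card_eq_one'
    rw [e1, ← map_pow, ha₀, ← map_pow, e2, map_one, map_one, mul_one, mul_inv_cancel]
  -- a power of `h` centralizing the fixed field
  have hcent : ∀ n : ℕ, (∀ a, (τ ^ n) a = a) → ∃ b : Fˣ, σ b = b ∧ h ^ n = d b := by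
    intro n hn
    obtain ⟨b, hb, hb'⟩ := C.cent_tfK (x := h ^ n) (hht.pow_left n) (hhf.pow_left n) (by
      intro a ha
      have := hτpow n ⟨a, ha⟩
      rw [hn] at this
      exact this)
    refine ⟨b, hb, C.odd_mem hNodd ?_ hb hb'⟩
    rw [← pow_mul, mul_comm, pow_mul, hhN, one_pow]
  set! k := orderOf τ with hk
  have hfinR : Finite (RingAut (K0 σ)) :=
    Finite.of_injective (fun τ : RingAut (K0 σ) => (τ : K0 σ → K0 σ))
      (fun a b h => RingEquiv.ext (fun x => congrFun h x))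
  have hkpos : 0 < k := orderOf_pos τ
  obtain ⟨b, hb, hbk⟩ := hcent k (fun a => by rw [hk, pow_orderOf_eq_one]; rfl)
  -- the fixed field of `τ`
  set! r := Nat.card (K0 (F := K0 σ) τ) with hr
  have hcard : Nat.card (K0 σ) = r ^ k := card_fixed (K0 σ) τ
  have hr2 : 2 ≤ r := by
    have := Finite.one_lt_card (α := K0 (F := K0 σ) τ)
    omega
  have hbτ : τ ⟨b, hb⟩ = ⟨b, hb⟩ := by
    apply huniq
    rw [← hτ]
    change rho X W h * κ (b : F) = κ (b : F) * rho X W h
    rw [← C.rho_d, ← map_mul, ← map_mul, ← hbk, ← pow_succ, ← pow_succ']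
  have hbr : b ^ (r - 1) = 1 := by
    haveI := Fintype.ofFinite (K0 (F := K0 σ) τ)
    have e1 := FiniteField.pow_card_sub_one_eq_one
      (⟨⟨b, hb⟩, hbτ⟩ : K0 (F := K0 σ) τ) (by
        intro h0
        exact b.ne_zero (congrArg (fun z : K0 (F := K0 σ) τ => ((z : K0 σ) : F)) h0))
    rw [← Nat.card_eq_fintype_card] at e1
    have e2 := congrArg (fun z : K0 (F := K0 σ) τ => ((z : K0 σ) : F)) e1
    exact Units.ext e2
  have hdvd : orderOf h ∣ k * (r - 1) := by
    apply orderOf_dvd_of_pow_eq_one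
    rw [pow_mul, hbk, ← map_pow, hbr, map_one]
  have hord : orderOf h = N := by
    have e1 : orderOf h = orderOf (d a₀) := by
      rw [hh]
      exact orderOf_injective (MulAut.conj y).toMonoidHom (MulAut.conj y).injective (d a₀)
    rw [e1, orderOf_injective d C.d_inj, ha₀]
    rw [orderOf_injective (Units.map ((K0 σ).subtype : K0 σ →* F))
      (Units.map_injective Subtype.val_injective)]
    exact orderOf_eq_card_of_forall_mem_zpowers hg
  have hk1 : k = 1 := by
    by_contra hne1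
    have h3 : 2 ≤ k := by omega
    have h4 := pow_gt hr2 h3
    have h5 := Nat.le_of_dvd (Nat.mul_pos hkpos (by omega)) hdvd
    rw [hord, hcardK, hcard] at h5
    omega
  obtain ⟨b', hb', hb1⟩ := hcent 1 (fun a => by
    have : τ ^ 1 = 1 := by rw [← hk1, hk, pow_orderOf_eq_one]
    rw [this]; rfl)
  rw [pow_one] at hb1
  intro a ha
  let a' : (K0 σ)ˣ := Units.mk0 ⟨a, ha⟩ (by
    intro h0
    exact a.ne_zero (congrArg (fun z : K0 σ => (z : F)) h0))
  obtain ⟨n, hn⟩ := hg a'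
  have haa : a = a₀ ^ n := by
    apply Units.ext
    have e1 : (a : F) = ((a' : K0 σ) : F) := rfl
    rw [e1, ← hn, ha₀, ← map_zpow]
    rfl
  refine ⟨b' ^ n, ?_, ?_⟩
  · have : Units.map (σ : F →* F) b' = b' := Units.ext hb'
    have e2 : Units.map (σ : F →* F) (b' ^ n) = b' ^ n := by rw [map_zpow, this]
    exact congrArg (fun u : Fˣ => (u : F)) e2
  · rw [map_zpow, ← hb1, haa, map_zpow, hh, conj_zpow, inv_mul_cancel_right]

end XC

end Cfsg.Agent.StdL2.F
end

-- part: StdL2/FSyl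
section
/-!
# S1773, case (f): 2-subgroups centralizing the fixed field
-/

set_option autoImplicit false
set_option linter.unusedSectionVars false

namespace Cfsg.Agent.StdL2.F

/-- the subgroup of elements commuting with the fixed field -/
def N1 {X W F : Type*} [Group X] [AddCommGroup W] [DistribMulAction X W] [Field F]
    (κ : F →+* AddMonoid.End W) (σ : F ≃+* F) : Subgroup X where
  carrier := {x | ∀ a, σ a = a → XC.rho X W x * κ a = κ a * XC.rho X W x}
  mul_mem' := by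
    intro x y hx hy a ha
    rw [map_mul, mul_assoc, hy a ha, ← mul_assoc, hx a ha, mul_assoc]
  one_mem' := by
    intro a _
    rw [map_one, one_mul, mul_one]
  inv_mem' := by
    intro x hx a ha
    have h1 : XC.rho X W x * XC.rho X W x⁻¹ = 1 := by rw [← map_mul, mul_inv_cancel, map_one]
    have h2 : XC.rho X W x⁻¹ * XC.rho X W x = 1 := by rw [← map_mul, inv_mul_cancel, map_one]
    calc XC.rho X W x⁻¹ * κ a = XC.rho X W x⁻¹ * (κ a * XC.rho X W x) * XC.rho X W x⁻¹ := by
          rw [mul_assoc, mul_assoc, h1, mul_one]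
      _ = XC.rho X W x⁻¹ * (XC.rho X W x * κ a) * XC.rho X W x⁻¹ := by rw [hx a ha]
      _ = κ a * XC.rho X W x⁻¹ := by rw [← mul_assoc, h2, one_mul]

namespace XC

variable {X W F : Type*} [Group X] [Finite X] [AddCommGroup W] [DistribMulAction X W] [Field F]
  [Finite F] {κ : F →+* AddMonoid.End W} {d : Fˣ →* X} {σ : F ≃+* F} {t f : X} {w₁ : W}

theorem mem_N1 {x : X} : x ∈ N1 κ σ ↔ ∀ a, σ a = a → rho X W x * κ a = κ a * rho X W x := Iff.rfl

theorem finite_W (C : XC κ d σ t f w₁) : Finite W := by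
  refine Finite.of_surjective (fun p : F × F => κ p.1 w₁ + κ p.2 (t • w₁ + w₁)) ?_
  intro w
  obtain ⟨a, b, h⟩ := C.span w
  exact ⟨(a, b), h.symm⟩

theorem t_mem (C : XC κ d σ t f w₁) : t ∈ N1 κ σ := fun a _ => C.t_kappa a

theorem f_mem (C : XC κ d σ t f w₁) : f ∈ N1 κ σ := fun a ha => by
  rw [C.f_kappa, ha]

theorem d_mem (C : XC κ d σ t f w₁) (a : Fˣ) : d a ∈ N1 κ σ := fun b _ => by
  rw [C.rho_d, ← map_mul, ← map_mul, mul_comm]

theorem smul_kappa {x : X} (hx : x ∈ N1 κ σ) {a : F} (ha : σ a = a) (w : W) :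
    x • κ a w = κ a (x • w) := DFunLike.congr_fun (hx a ha) w

theorem two_pow_one (C : XC κ d σ t f w₁) {a : F} {n : ℕ} (h : a ^ 2 ^ n = 1) : a = 1 := by
  haveI : CharP F 2 := CharTwo.of_one_ne_zero_of_two_eq_zero one_ne_zero C.two
  have h1 : (a - 1) ^ 2 ^ n = 0 := by
    rw [sub_pow_char_pow, h, one_pow, sub_self]
  exact sub_eq_zero.mp (pow_eq_zero_iff (by positivity) |>.mp h1)

theorem two_pow_one' (C : XC κ d σ t f w₁) {a : Fˣ} {n : ℕ} (h : a ^ 2 ^ n = 1) : a = 1 := by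
  apply Units.ext
  apply C.two_pow_one (n := n)
  have := congrArg (fun u : Fˣ => (u : F)) h
  simpa using this

theorem fd_comm (C : XC κ d σ t f w₁) {a : Fˣ} (ha : σ (a : F) = a) : f * d a = d a * f := by
  rw [C.fd]
  congr 2
  exact Units.ext ha

/-- 2-elements of `C(t, f)` centralizing the fixed field -/
theorem two_elt (C : XC κ d σ t f w₁) {s : X} (hs : s ∈ N1 κ σ) (hst : s * t = t * s)
    (hsf : s * f = f * s) {n : ℕ} (h2 : s ^ 2 ^ n = 1) :
    s = 1 ∨ s = t ∨ s = f ∨ s = t * f := by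
  obtain ⟨a, ha, h⟩ := C.cent_tfK hst hsf hs
  have key : ∀ e : X, e * e = 1 → Commute e (d a) → s = e * d a → s = e := by
    intro e he hc hx
    have h3 : s ^ 2 = d a ^ 2 := by
      rw [hx, hc.mul_pow, pow_two e, he, one_mul]
    have h4 : d (a ^ 2 ^ (n + 1)) = 1 := by
      rw [map_pow, pow_succ', pow_mul, ← h3, ← pow_mul, mul_comm, pow_mul, h2, one_pow]
    rw [← map_one d] at h4
    have h5 := C.two_pow_one' (C.d_inj h4)
    rw [hx, h5, map_one, mul_one]
  have hfd := C.fd_comm ha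
  rcases h with h | h | h | h
  · exact Or.inl (key 1 (one_mul 1) (Commute.one_left _) (by rw [h, one_mul]))
  · exact Or.inr (Or.inl (key t C.tt (C.td a) h))
  · exact Or.inr (Or.inr (Or.inl (key f C.ff hfd h)))
  · refine Or.inr (Or.inr (Or.inr (key (t * f) ?_ ?_ h)))
    · rw [mul_assoc, ← mul_assoc f t f, ← C.tf, mul_assoc t f f, C.ff, mul_one, C.tt]
    · change t * f * d a = d a * (t * f)
      rw [mul_assoc, hfd, ← mul_assoc, C.td, mul_assoc]

/-- an additive finite 2-group acted on by a 2-group has non-zero fixed points -/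
theorem exists_fixed {S V : Type*} [Group S] [AddCommGroup V] [Finite V] [DistribMulAction S V]
    (hS : IsPGroup 2 S) [Finite S] (hV : 2 ∣ Nat.card V) : ∃ v : V, v ≠ 0 ∧ ∀ s : S, s • v = v := by
  classical
  have h1 := hS.card_modEq_card_fixedPoints (α := V)
  have h2 : 2 ∣ Nat.card (MulAction.fixedPoints S V) :=
    (Nat.modEq_zero_iff_dvd.mp (h1.symm.trans (Nat.modEq_zero_iff_dvd.mpr hV)))
  have h3 : 0 < Nat.card (MulAction.fixedPoints S V) := by
    haveI : Nonempty (MulAction.fixedPoints S V) := ⟨⟨0, fun s => smul_zero s⟩⟩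
    exact Nat.card_pos
  have h4 : 1 < Nat.card (MulAction.fixedPoints S V) := by
    obtain ⟨k, hk⟩ := h2; omega
  haveI := Finite.one_lt_card_iff_nontrivial.mp h4
  obtain ⟨v, hv⟩ := exists_ne (⟨0, fun s => smul_zero s⟩ : MulAction.fixedPoints S V)
  exact ⟨v, fun h => hv (Subtype.ext h), v.2⟩

/-- the fixed points of `f`, as an additive subgroup -/
def W00 (f : X) : AddSubgroup W where
  carrier := {w | f • w = w}
  add_mem' := by
    intro a b ha hb
    change f • (a + b) = a + b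
    rw [smul_add, ha, hb]
  zero_mem' := smul_zero f
  neg_mem' := by
    intro a ha
    change f • (-a) = -a
    rw [smul_neg, ha]

section Two

variable (C : XC κ d σ t f w₁) {S : Subgroup X} (hS : IsPGroup 2 S) (hSN : S ≤ N1 κ σ)
  (htS : t ∈ S) (hSf : ∀ s ∈ S, s * f = f * s)

include C hS hSN htS hSf

theorem fix_v : ∀ s ∈ S, s • (t • w₁ + w₁) = t • w₁ + w₁ := by
  classical
  have := C.finite_W
  let W0 : AddSubgroup W := W00 f
  letI : DistribMulAction S W0 :=
    { smul := fun s w => ⟨(s : X) • (w : W), by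
        change f • ((s : X) • (w : W)) = (s : X) • (w : W)
        rw [smul_smul, ← hSf s s.2, ← smul_smul]
        exact congrArg _ w.2⟩
      one_smul := fun w => Subtype.ext (one_smul X (w : W))
      mul_smul := fun a b w => Subtype.ext (mul_smul (a : X) (b : X) (w : W))
      smul_zero := fun a => Subtype.ext (smul_zero (a : X))
      smul_add := fun a v w => Subtype.ext (smul_add (a : X) (v : W) (w : W)) }
  have h2 : 2 ∣ Nat.card W0 := by
    have h1 : addOrderOf (⟨t • w₁ + w₁, C.f_v⟩ : W0) = 2 := by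
      apply addOrderOf_eq_prime
      · rw [two_nsmul]
        exact Subtype.ext (C.add_self_W _)
      · intro h
        exact C.v_ne (congrArg Subtype.val h)
    rw [← h1]
    exact addOrderOf_dvd_natCard _
  obtain ⟨v, hv0, hv⟩ := exists_fixed (S := S) (V := W0) hS h2
  have hv' : ∀ s ∈ S, s • (v : W) = v := fun s hs => congrArg Subtype.val (hv ⟨s, hs⟩)
  obtain ⟨b, hb⟩ := C.fix_t (hv' t htS)
  have hbσ : σ b = b := by
    have h3 : f • (v : W) = v := v.2
    rw [hb, C.f_smul_kappa, C.f_v] at h3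
    have h4 := C.indep 0 (σ b - b) (by
      rw [map_sub, k_zero, zero_add]
      change κ (σ b) (t • w₁ + w₁) - κ b (t • w₁ + w₁) = 0
      rw [h3, sub_self])
    exact sub_eq_zero.mp h4.2
  have hb0 : b ≠ 0 := by
    rintro rfl
    rw [k_zero] at hb
    exact hv0 (Subtype.ext hb)
  intro s hs
  have h5 := hv' s hs
  rw [hb, smul_kappa (hSN hs) hbσ] at h5
  have h6 := congrArg (κ (b⁻¹)) h5
  rw [← k_mul, ← k_mul, inv_mul_cancel₀ hb0, k_one, k_one] at h6
  exact h6

theorem fix_w : ∀ s ∈ S, ∃ b : F, σ b = b ∧ s • w₁ = w₁ + κ b (t • w₁ + w₁) := by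
  have hfv := fix_v C hS hSN htS hSf
  intro s hs
  have h1 : f • (s • w₁) = s • w₁ := by
    rw [smul_smul, ← hSf s hs, ← smul_smul, C.fw]
  obtain ⟨a, b, ha, hb, hab⟩ := C.fix_f h1
  have hpow : ∀ k : ℕ, ∃ b', s ^ k • w₁ = κ (a ^ k) w₁ + κ b' (t • w₁ + w₁) := by
    intro k
    induction k with
    | zero => exact ⟨0, by rw [pow_zero, pow_zero, one_smul, k_one, k_zero, add_zero]⟩
    | succ k ih =>
      obtain ⟨b', hb'⟩ := ih
      refine ⟨a * b' + b, ?_⟩
      have hsk : s ^ k ∈ S := pow_mem hs k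
      rw [pow_succ s k, mul_smul, hab, smul_add, smul_kappa (hSN hsk) ha, smul_kappa (hSN hsk) hb,
        hfv _ hsk, hb', k_vadd, ← k_mul, ← k_mul, k_add, pow_succ', add_assoc]
  obtain ⟨n, hn⟩ := hS ⟨s, hs⟩
  have hn' : s ^ 2 ^ n = 1 := congrArg Subtype.val hn
  obtain ⟨b', hb'⟩ := hpow (2 ^ n)
  rw [hn', one_smul] at hb'
  have h2 := C.indep (a ^ 2 ^ n - 1) b' (by
    rw [map_sub, map_one]
    change (κ (a ^ 2 ^ n) w₁ - w₁) + κ b' (t • w₁ + w₁) = 0
    have : (κ (a ^ 2 ^ n) w₁ - w₁) + κ b' (t • w₁ + w₁) =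
      (κ (a ^ 2 ^ n) w₁ + κ b' (t • w₁ + w₁)) - w₁ := by abel
    rw [this, ← hb', sub_self])
  have h3 : a = 1 := C.two_pow_one (sub_eq_zero.mp h2.1)
  refine ⟨b, hb, ?_⟩
  rw [hab, h3, k_one]

/-- the conjugates of `t` -/
theorem conj_t : ∀ s ∈ S, s * t * s⁻¹ = t ∨ s * t * s⁻¹ = t * f := by
  have hfv := fix_v C hS hSN htS hSf
  intro s hs
  obtain ⟨b, hb, hsw⟩ := fix_w C hS hSN htS hSf s hs
  set v₁ := t • w₁ + w₁ with hv₁
  have hfv' : ∀ s ∈ S, s • v₁ = v₁ := hfv
  have htw : t • w₁ = w₁ + v₁ := C.t_w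
  have hs' : s⁻¹ ∈ S := inv_mem hs
  have hsw' : s⁻¹ • w₁ = w₁ + κ b v₁ := by
    have h1 : s⁻¹ • (s • w₁) = w₁ := inv_smul_smul s w₁
    rw [hsw, smul_add, smul_kappa (hSN hs') hb, hfv' _ hs'] at h1
    calc s⁻¹ • w₁ = s⁻¹ • w₁ + κ b v₁ + κ b v₁ := by rw [add_assoc, C.add_self_W, add_zero]
      _ = w₁ + κ b v₁ := by rw [h1]
  set! k := s * t * s⁻¹ * t with hk
  have hkS : k ∈ S := mul_mem (mul_mem (mul_mem hs htS) hs') htS
  have hkw : k • w₁ = w₁ := by
    have e1 : s⁻¹ • (t • w₁) = w₁ + κ b v₁ + v₁ := by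
      rw [htw, smul_add, hsw', hfv' _ hs']
    have e2 : t • (w₁ + κ b v₁ + v₁) = w₁ + κ b v₁ := by
      rw [smul_add, smul_add, htw, C.t_smul_kappa, hfv' _ htS]
      calc w₁ + v₁ + κ b v₁ + v₁ = w₁ + κ b v₁ + (v₁ + v₁) := by abel
        _ = w₁ + κ b v₁ := by rw [C.add_self_W, add_zero]
    have e3 : s • (w₁ + κ b v₁) = w₁ := by
      rw [smul_add, hsw, smul_kappa (hSN hs) hb, hfv' _ hs, add_assoc, C.add_self_W, add_zero]
    rw [hk, mul_smul, mul_smul, mul_smul, e1, e2, e3]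
  have hkv : k • v₁ = v₁ := hfv' _ hkS
  have hkf : k * f = f * k := hSf k hkS
  have hfix : ∀ w : W, f • w = w → k • w = w := by
    intro w hw
    obtain ⟨a, b', ha, hb', rfl⟩ := C.fix_f hw
    rw [smul_add, smul_kappa (hSN hkS) ha, smul_kappa (hSN hkS) hb', hkw, hkv]
  have hk2 : k * k = 1 := by
    apply C.faithful
    intro w
    have h1 : k • (f • w + w) = f • w + w := by
      apply hfix
      rw [smul_add, smul_smul, C.ff, one_smul, add_comm]
    have h2 : f • (k • w + w) = k • w + w := by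
      rw [smul_add, smul_smul, ← hkf, ← smul_smul]
      rw [smul_add] at h1
      have h3 := C.add_self_W (k • w)
      have h4 := C.add_self_W (f • w)
      calc k • (f • w) + f • w = (k • (f • w) + k • w) + (k • w + f • w) := by
            rw [show (k • (f • w) + k • w) + (k • w + f • w) = k • (f • w) + f • w + (k • w + k • w)
              by abel, h3, add_zero]
        _ = (f • w + w) + (k • w + f • w) := by rw [h1]
        _ = k • w + w + (f • w + f • w) := by abel
        _ = k • w + w := by rw [h4, add_zero]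
    have h5 := hfix _ h2
    rw [smul_add, smul_smul] at h5
    have h3 := C.add_self_W (k • w)
    calc (k * k) • w = (k * k) • w + k • w + k • w := by rw [add_assoc, h3, add_zero]
      _ = w + (k • w + k • w) := by rw [h5]; abel
      _ = w := by rw [h3, add_zero]
  have hki : k⁻¹ = k := inv_eq_of_mul_eq_one_left hk2
  have hkt : k * t = t * k := by
    have h1 : t * k * t⁻¹ = k⁻¹ := by
      rw [hk, C.t_inv]
      simp only [mul_inv_rev, inv_inv, C.t_inv]
      rw [mul_assoc t, mul_assoc (s * t * s⁻¹), C.tt, mul_one]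
      simp only [mul_assoc]
    rw [hki] at h1
    calc k * t = t * k * t⁻¹ * t := by rw [h1]
      _ = t * k := by rw [inv_mul_cancel_right]
  obtain ⟨n, hn⟩ := hS ⟨k, hkS⟩
  have hn' : k ^ 2 ^ n = 1 := congrArg Subtype.val hn
  have hst : s * t * s⁻¹ = k * t := by rw [hk, mul_assoc (s * t * s⁻¹), C.tt, mul_one]
  have hno : t • w₁ ≠ w₁ := by
    intro h
    apply C.v_ne
    rw [h]; exact C.add_self_W _
  rcases C.two_elt (hSN hkS) hkt hkf hn' with h | h | h | h
  · left; rw [hst, h, one_mul]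
  · exact absurd (h ▸ hkw) hno
  · right; rw [hst, h, C.tf]
  · rw [h, mul_smul, C.fw] at hkw
    exact absurd hkw hno

/-- the order -/
theorem card_le : Nat.card S ≤ 8 ∧ ((∀ s ∈ S, s * t = t * s) → Nat.card S ≤ 4) := by
  classical
  have hE : ∀ s ∈ S, s * t = t * s → s = 1 ∨ s = t ∨ s = f ∨ s = t * f := by
    intro s hs hst
    obtain ⟨n, hn⟩ := hS ⟨s, hs⟩
    exact C.two_elt (hSN hs) hst (hSf s hs) (congrArg Subtype.val hn)
  let A : Finset X := {1, t, f, t * f}
  have hA : A.card ≤ 4 := Finset.card_le_four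
  have h4 : (∀ s ∈ S, s * t = t * s) → Nat.card S ≤ 4 := by
    intro h
    have h1 : (S : Set X) ⊆ A := by
      intro s hs
      have := hE s hs (h s hs)
      simp only [A, Finset.coe_insert, Finset.coe_singleton, Set.mem_insert_iff,
        Set.mem_singleton_iff]
      exact this
    calc Nat.card S = (S : Set X).ncard := rfl
      _ ≤ (A : Set X).ncard := Set.ncard_le_ncard h1 (Set.toFinite _)
      _ = A.card := Set.ncard_coe_finset A
      _ ≤ 4 := hA
  refine ⟨?_, h4⟩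
  by_cases h : ∀ s ∈ S, s * t = t * s
  · exact (h4 h).trans (by norm_num)
  · push_neg at h
    obtain ⟨x, hx, hxt⟩ := h
    have hx' : x * t * x⁻¹ = t * f := by
      rcases conj_t C hS hSN htS hSf x hx with h1 | h1
      · exact absurd (mul_inv_eq_iff_eq_mul.mp h1) hxt
      · exact h1
    have h1 : (S : Set X) ⊆ (A ∪ A.image (fun a => x * a) : Finset X) := by
      intro s hs
      rw [Finset.coe_union, Set.mem_union]
      rcases conj_t C hS hSN htS hSf s hs with h2 | h2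
      · left
        have := hE s hs (mul_inv_eq_iff_eq_mul.mp h2)
        simp only [A, Finset.coe_insert, Finset.coe_singleton, Set.mem_insert_iff,
          Set.mem_singleton_iff]
        exact this
      · right
        have hsx : x⁻¹ * s ∈ S := mul_mem (inv_mem hx) hs
        have h3 : (x⁻¹ * s) * t = t * (x⁻¹ * s) := by
          have e1 : s * t = (t * f) * s := by rw [← h2]; group
          have e2 : x * t = (t * f) * x := by rw [← hx']; group
          calc (x⁻¹ * s) * t = x⁻¹ * (s * t) := by group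
            _ = x⁻¹ * ((t * f) * x) * x⁻¹ * s := by rw [e1]; group
            _ = x⁻¹ * (x * t) * x⁻¹ * s := by rw [e2]
            _ = t * (x⁻¹ * s) := by group
        have h4 := hE _ hsx h3
        rw [Finset.coe_image]
        refine ⟨x⁻¹ * s, ?_, by simp⟩
        simp only [A, Finset.coe_insert, Finset.coe_singleton, Set.mem_insert_iff,
          Set.mem_singleton_iff]
        exact h4
    calc Nat.card S = (S : Set X).ncard := rfl
      _ ≤ ((A ∪ A.image (fun a => x * a) : Finset X) : Set X).ncard :=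
        Set.ncard_le_ncard h1 (Set.toFinite _)
      _ = (A ∪ A.image (fun a => x * a)).card := Set.ncard_coe_finset _
      _ ≤ A.card + (A.image (fun a => x * a)).card := Finset.card_union_le _ _
      _ ≤ A.card + A.card := Nat.add_le_add_left Finset.card_image_le _
      _ ≤ 8 := by omega

end Two

end XC

end Cfsg.Agent.StdL2.F
end

-- part: StdL2/FCent
section
/-!
# S1773, case (f): the commutator of two tori is `δ f`
-/

set_option autoImplicit false
set_option linter.unusedSectionVars false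

namespace Cfsg.Agent.StdL2.F

namespace XC

variable {X W F : Type*} [Group X] [Finite X] [AddCommGroup W] [DistribMulAction X W] [Field F]
  [Finite F] {κ : F →+* AddMonoid.End W} {d : Fˣ →* X} {σ : F ≃+* F} {t f : X} {w₁ : W}

/-- the operators commuting with `t`, `f` and the fixed field -/
theorem cent_R (C : XC κ d σ t f w₁) {z : AddMonoid.End W}
    (hzK : ∀ a, σ a = a → z * κ a = κ a * z) (hzT : z * rho X W t = rho X W t * z)
    (hzP : z * rho X W f = rho X W f * z) :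
    ∃ α β γ δ : F, σ α = α ∧ σ β = β ∧ σ γ = γ ∧ σ δ = δ ∧
      z = κ α + κ β * rho X W t + κ γ * rho X W f + κ δ * (rho X W t * rho X W f) := by
  obtain ⟨ω, hω⟩ := C.exists_omega
  set! v₁ := t • w₁ + w₁ with hv₁
  have htv : t • v₁ = v₁ := C.t_v
  have hfv : f • v₁ = v₁ := C.f_v
  have htw : t • w₁ = w₁ + v₁ := C.t_w
  obtain ⟨a, b, hab⟩ := C.span (z (κ ω w₁))
  obtain ⟨a0, a1, ha0, ha1, ha⟩ := C.decomp hω a
  obtain ⟨b0, b1, hb0, hb1, hb⟩ := C.decomp hω b
  refine ⟨a0 + a1 + b0 + b1, b0 + b1, a0 + b0, b0, by simp only [map_add, ha0, ha1, hb0, hb1],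
    by simp only [map_add, hb0, hb1], by simp only [map_add, ha0, hb0], hb0, ?_⟩
  set y := κ (a0 + a1 + b0 + b1) + κ (b0 + b1) * rho X W t + κ (a0 + b0) * rho X W f +
    κ b0 * (rho X W t * rho X W f) with hy
  have hyw : ∀ w, y w = κ (a0 + a1 + b0 + b1) w + κ (b0 + b1) (t • w) + κ (a0 + b0) (f • w) +
      κ b0 (t • (f • w)) := fun w => rfl
  -- `y` commutes with `K₀`, `t`, `f`
  have hyK : ∀ a w, σ a = a → y (κ a w) = κ a (y w) := by
    intro a w ha
    rw [hyw, hyw, C.t_smul_kappa, C.f_smul_kappa, C.t_smul_kappa, ha]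
    simp only [k_vadd]
    simp only [← k_mul]
    simp only [mul_comm a]
  have hyt : ∀ w, y (t • w) = t • y w := by
    intro w
    rw [hyw, hyw]
    simp only [smul_add, C.t_smul_kappa]
    rw [smul_smul f t, ← C.tf, mul_smul]
  have hyf : ∀ w, y (f • w) = f • y w := by
    intro w
    rw [hyw, hyw]
    simp only [smul_add, C.f_smul_kappa]
    have e1 : σ (a0 + a1 + b0 + b1) = a0 + a1 + b0 + b1 := by
      simp only [map_add, ha0, ha1, hb0, hb1]
    have e2 : σ (b0 + b1) = b0 + b1 := by simp only [map_add, hb0, hb1]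
    have e3 : σ (a0 + b0) = a0 + b0 := by simp only [map_add, ha0, hb0]
    rw [e1, e2, e3, hb0, smul_smul f t (f • w), ← C.tf, mul_smul, smul_smul f t w, ← C.tf, mul_smul]
  have hzK' : ∀ a w, σ a = a → z (κ a w) = κ a (z w) := fun a w ha =>
    DFunLike.congr_fun (hzK a ha) w
  have hzt' : ∀ w, z (t • w) = t • z w := fun w => DFunLike.congr_fun hzT w
  have hzf' : ∀ w, z (f • w) = f • z w := fun w => DFunLike.congr_fun hzP w
  -- the value at `u = ω w₁`
  have hab' : z (κ ω w₁) = κ a w₁ + κ b v₁ := hab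
  have hu : z (κ ω w₁) = y (κ ω w₁) := by
    rw [hab', hyw, C.t_smul_kappa, C.f_smul_kappa, C.t_smul_kappa, C.fw, hω, htw, ha, hb]
    simp only [k_vadd, k_add, ← k_mul, mul_add, mul_one, add_mul]
    have h2 := C.add_self_W
    have e1 : ∀ x : F, κ (x * ω) w₁ + κ (x * ω) w₁ = 0 := fun x => h2 _
    have g1 := h2 (κ (a0 * ω) w₁)
    have g2 := h2 (κ (b0 * ω) w₁)
    have g3 := h2 (κ (b1 * ω) w₁)
    have g4 := h2 (κ (b0 * ω) v₁)
    have g5 := h2 (κ b0 w₁)
    have key : κ a0 w₁ + κ (a1 * ω) w₁ + (κ b0 v₁ + κ (b1 * ω) v₁) =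
        κ a0 w₁ + κ (a1 * ω) w₁ + (κ b0 v₁ + κ (b1 * ω) v₁) +
        (κ (a0 * ω) w₁ + κ (a0 * ω) w₁) + (κ (b0 * ω) w₁ + κ (b0 * ω) w₁) +
        (κ (b0 * ω) w₁ + κ (b0 * ω) w₁) + (κ (b1 * ω) w₁ + κ (b1 * ω) w₁) +
        (κ (b0 * ω) v₁ + κ (b0 * ω) v₁) + (κ b0 w₁ + κ b0 w₁) := by
      rw [g1, g2, g3, g4, g5]; simp only [add_zero]
    rw [key]
    abel
  -- propagate
  let Q : W → Prop := fun w => z w = y w
  have Qadd : ∀ v w, Q v → Q w → Q (v + w) := fun v w hv hw => by
    change z (v + w) = y (v + w)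
    rw [map_add, map_add, hv, hw]
  have QK : ∀ a w, σ a = a → Q w → Q (κ a w) := fun a w ha hw => by
    change z (κ a w) = y (κ a w)
    rw [hzK' a w ha, hyK a w ha, hw]
  have Qt : ∀ w, Q w → Q (t • w) := fun w hw => by
    change z (t • w) = y (t • w)
    rw [hzt', hyt, hw]
  have Qf : ∀ w, Q w → Q (f • w) := fun w hw => by
    change z (f • w) = y (f • w)
    rw [hzf', hyf, hw]
  have Qu : Q (κ ω w₁) := hu
  have Qw : Q w₁ := by
    have h1 := Qadd _ _ Qu (Qf _ Qu)
    rw [C.f_smul_kappa, C.fw, hω, k_add, k_one, ← add_assoc, C.add_self_W, zero_add] at h1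
    exact h1
  have Qv : Q v₁ := Qadd _ _ (Qt _ Qw) Qw
  have Quv : Q (κ ω v₁) := by
    have h1 := Qadd _ _ Qu (Qt _ Qu)
    rw [C.t_smul_kappa, htw, k_vadd, ← add_assoc, C.add_self_W, zero_add] at h1
    exact h1
  have hall : ∀ (a : F) (w : W), Q w → Q (κ ω w) → Q (κ a w) := by
    intro a w h1 h2
    obtain ⟨p, q, hp, hq, rfl⟩ := C.decomp hω a
    rw [k_add, k_mul]
    exact Qadd _ _ (QK _ _ hp h1) (QK _ _ hq h2)
  ext w
  obtain ⟨p, q, rfl⟩ := C.span w
  exact Qadd _ _ (hall p _ Qw Qu) (hall q _ Qv Quv)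

section Conj

variable (C : XC κ d σ t f w₁) {y : X} (hyt : y * t * y⁻¹ = t * f)
  (hyf : y * f * y⁻¹ = f ∨ y * f * y⁻¹ = t)

include C hyt hyf

theorem y_inv : (y⁻¹ * t * y⁻¹⁻¹ = t ∨ y⁻¹ * t * y⁻¹⁻¹ = f ∨ y⁻¹ * t * y⁻¹⁻¹ = t * f) ∧
    (y⁻¹ * f * y⁻¹⁻¹ = t ∨ y⁻¹ * f * y⁻¹⁻¹ = f ∨ y⁻¹ * f * y⁻¹⁻¹ = t * f) := by
  rw [inv_inv]
  have e1 : y * t = t * f * y := mul_inv_eq_iff_eq_mul.mp hyt
  have etf : t * f * f = t := by rw [mul_assoc, C.ff, mul_one]
  rcases hyf with h | h
  · have e2 : y * f = f * y := mul_inv_eq_iff_eq_mul.mp h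
    constructor
    · right; right
      have : y * (t * f) = t * y := by
        rw [← mul_assoc, e1, mul_assoc, e2, ← mul_assoc, etf]
      calc y⁻¹ * t * y = y⁻¹ * (t * y) := by group
        _ = t * f := by rw [← this]; group
    · right; left
      calc y⁻¹ * f * y = y⁻¹ * (f * y) := by group
        _ = f := by rw [← e2]; group
  · have e2 : y * f = t * y := mul_inv_eq_iff_eq_mul.mp h
    constructor
    · right; left
      calc y⁻¹ * t * y = y⁻¹ * (t * y) := by group
        _ = f := by rw [← e2]; group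
    · right; right
      have : y * (t * f) = f * y := by
        rw [← mul_assoc, e1, mul_assoc, e2, ← mul_assoc, mul_assoc t f t, ← C.tf, ← mul_assoc, C.tt,
          one_mul]
      calc y⁻¹ * f * y = y⁻¹ * (f * y) := by group
        _ = t * f := by rw [← this]; group

theorem norm_y : ∀ a : F, σ a = a → ∃ b : F, σ b = b ∧ rho X W y * κ a = κ b * rho X W y := by
  intro a ha
  by_cases h0 : a = 0
  · subst h0; exact ⟨0, map_zero σ, by rw [map_zero, mul_zero, zero_mul]⟩
  · obtain ⟨b, hb, hab⟩ := C.norm_K0 (Or.inr (Or.inr hyt))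
      (by rcases hyf with h | h; exact Or.inr (Or.inl h); exact Or.inl h) (Units.mk0 a h0) ha
    refine ⟨b, hb, ?_⟩
    have h := congrArg (rho X W) hab
    rw [map_mul, map_mul, C.rho_d, C.rho_d] at h
    exact h

theorem norm_y_inv : ∀ a : F, σ a = a → ∃ b : F, σ b = b ∧ rho X W y * κ b = κ a * rho X W y := by
  intro a ha
  by_cases h0 : a = 0
  · subst h0; exact ⟨0, map_zero σ, by rw [map_zero, mul_zero, zero_mul]⟩
  · obtain ⟨h1, h2⟩ := y_inv C hyt hyf
    obtain ⟨b, hb, hab⟩ := C.norm_K0 h1 h2 (Units.mk0 a h0) ha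
    refine ⟨b, hb, ?_⟩
    have h3 : y * d b = d (Units.mk0 a h0) * y := by
      have : y * (y⁻¹ * d (Units.mk0 a h0)) * y = y * (d b * y⁻¹) * y := by rw [hab]
      calc y * d b = y * (d b * y⁻¹) * y := by group
        _ = y * (y⁻¹ * d (Units.mk0 a h0)) * y := this.symm
        _ = d (Units.mk0 a h0) * y := by group
    have h := congrArg (rho X W) h3
    rw [map_mul, map_mul, C.rho_d, C.rho_d] at h
    exact h

/-- the conjugate of `κ a` commutes with the fixed field -/
theorem conj_comm_K0 (a c : F) (hc : σ c = c) :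
    κ c * (rho X W y * κ a * rho X W y⁻¹) = rho X W y * κ a * rho X W y⁻¹ * κ c := by
  obtain ⟨b, hb, h⟩ := norm_y_inv C hyt hyf c hc
  have h2 : rho X W y⁻¹ * κ c = κ b * rho X W y⁻¹ := by
    calc rho X W y⁻¹ * κ c = rho X W y⁻¹ * (κ c * rho X W y) * rho X W y⁻¹ := by
          rw [mul_assoc (rho X W y⁻¹), mul_assoc (κ c), rho_mul_inv, mul_one]
      _ = rho X W y⁻¹ * (rho X W y * κ b) * rho X W y⁻¹ := by rw [h]
      _ = κ b * rho X W y⁻¹ := by rw [← mul_assoc, rho_inv_mul, one_mul]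
  calc κ c * (rho X W y * κ a * rho X W y⁻¹) = (κ c * rho X W y) * (κ a * rho X W y⁻¹) := by
        simp only [mul_assoc]
    _ = rho X W y * (κ b * κ a) * rho X W y⁻¹ := by rw [← h]; simp only [mul_assoc]
    _ = rho X W y * (κ a * κ b) * rho X W y⁻¹ := by rw [← map_mul, ← map_mul, mul_comm]
    _ = rho X W y * κ a * (κ b * rho X W y⁻¹) := by simp only [mul_assoc]
    _ = rho X W y * κ a * rho X W y⁻¹ * κ c := by rw [← h2]; simp only [mul_assoc]

/-- the relations of `O' = ρ(y) κ(ω) ρ(y)⁻¹` -/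
theorem rel_y {ω : F} (hω : σ ω = ω + 1) :
    (rho X W y * κ ω * rho X W y⁻¹) * rho X W t =
      rho X W t * (rho X W y * κ ω * rho X W y⁻¹) + rho X W t ∧
    (rho X W y * κ ω * rho X W y⁻¹) * rho X W f =
      rho X W f * (rho X W y * κ ω * rho X W y⁻¹) + rho X W f ∧
    ∃ c', σ c' = c' ∧ (rho X W y * κ ω * rho X W y⁻¹) * (rho X W y * κ ω * rho X W y⁻¹) =
      (rho X W y * κ ω * rho X W y⁻¹) + κ c' := by
  have h2 : ∀ x : AddMonoid.End W, x + x = 0 := C.add_self_R
  obtain ⟨O', hO'⟩ : ∃ z, z = rho X W y * κ ω * rho X W y⁻¹ := ⟨_, rfl⟩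
  obtain ⟨T, hT⟩ : ∃ z, z = rho X W t := ⟨_, rfl⟩
  obtain ⟨P, hP⟩ : ∃ z, z = rho X W f := ⟨_, rfl⟩
  rw [← hO', ← hT, ← hP]
  have hTT : T * T = 1 := by rw [hT]; exact C.rho_tt
  have hPP : P * P = 1 := by rw [hP]; exact C.rho_ff
  have hTP : T * P = P * T := by rw [hT, hP]; exact C.rho_tf
  have hOT : κ ω * T = T * κ ω := by rw [hT]; exact (C.t_kappa ω).symm
  have hOP : κ ω * P = P * κ ω + P := by
    have := C.f_kappa ω
    rw [hω, map_add, map_one, add_mul, one_mul] at this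
    rw [hP, this, add_assoc, h2, add_zero]
  have c1 : rho X W y * T = T * P * rho X W y := by
    rw [hT, hP, ← map_mul, ← map_mul, ← map_mul, ← hyt]; congr 1; group
  have c1' : rho X W y⁻¹ * (T * P) = T * rho X W y⁻¹ := by
    rw [hT, hP, ← map_mul, ← map_mul, ← map_mul, ← hyt]; congr 1; group
  have e1 : O' * (T * P) = (T * P) * O' := by
    calc O' * (T * P) = rho X W y * κ ω * (rho X W y⁻¹ * (T * P)) := by
          rw [hO']; simp only [mul_assoc]
      _ = rho X W y * (κ ω * T) * rho X W y⁻¹ := by rw [c1']; simp only [mul_assoc]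
      _ = (rho X W y * T) * κ ω * rho X W y⁻¹ := by rw [hOT]; simp only [mul_assoc]
      _ = (T * P) * O' := by rw [c1, hO']; simp only [mul_assoc]
  have hTPP : T * P * P = T := by rw [mul_assoc, hPP, mul_one]
  have key : O' * T = T * O' + T ∧ O' * P = P * O' + P := by
    rcases hyf with h | h
    · have c2 : rho X W y * P = P * rho X W y := by
        rw [hP, ← map_mul, ← map_mul]; congr 1
        exact mul_inv_eq_iff_eq_mul.mp h
      have c2' : rho X W y⁻¹ * P = P * rho X W y⁻¹ := by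
        rw [hP, ← map_mul, ← map_mul]; congr 1
        rw [inv_mul_eq_iff_eq_mul, ← mul_assoc, mul_inv_eq_iff_eq_mul.mp h, mul_inv_cancel_right]
      have e2 : O' * P = P * O' + P := by
        calc O' * P = rho X W y * κ ω * (rho X W y⁻¹ * P) := by
              rw [hO']; simp only [mul_assoc]
          _ = rho X W y * (κ ω * P) * rho X W y⁻¹ := by rw [c2']; simp only [mul_assoc]
          _ = (rho X W y * P) * κ ω * rho X W y⁻¹ + (rho X W y * P) * rho X W y⁻¹ := by
            rw [hOP, mul_add, add_mul]; simp only [mul_assoc]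
          _ = P * O' + P := by
            rw [c2, hO', mul_assoc P (rho X W y) (rho X W y⁻¹), rho_mul_inv, mul_one]
            simp only [mul_assoc]
      refine ⟨?_, e2⟩
      calc O' * T = O' * (T * P) * P := by rw [mul_assoc O', hTPP]
        _ = T * P * (O' * P) := by rw [e1, mul_assoc]
        _ = T * P * P * O' + T * P * P := by rw [e2, mul_add]; simp only [mul_assoc]
        _ = T * O' + T := by rw [hTPP]
    · have c2 : rho X W y * P = T * rho X W y := by
        rw [hP, hT, ← map_mul, ← map_mul]; congr 1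
        rw [← h]; group
      have c2' : rho X W y⁻¹ * T = P * rho X W y⁻¹ := by
        rw [hP, hT, ← map_mul, ← map_mul]; congr 1
        rw [← h]; group
      have e2 : O' * T = T * O' + T := by
        calc O' * T = rho X W y * κ ω * (rho X W y⁻¹ * T) := by
              rw [hO']; simp only [mul_assoc]
          _ = rho X W y * (κ ω * P) * rho X W y⁻¹ := by rw [c2']; simp only [mul_assoc]
          _ = (rho X W y * P) * κ ω * rho X W y⁻¹ + (rho X W y * P) * rho X W y⁻¹ := by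
            rw [hOP, mul_add, add_mul]; simp only [mul_assoc]
          _ = T * O' + T := by
            rw [c2, hO', mul_assoc T (rho X W y) (rho X W y⁻¹), rho_mul_inv, mul_one]
            simp only [mul_assoc]
      refine ⟨e2, ?_⟩
      have hTTP : T * (T * P) = P := by rw [← mul_assoc, hTT, one_mul]
      calc O' * P = O' * T * (T * P) := by rw [mul_assoc, hTTP]
        _ = T * (O' * (T * P)) + T * (T * P) := by rw [e2, add_mul, mul_assoc]
        _ = T * (T * P) * O' + T * (T * P) := by rw [e1]; simp only [mul_assoc]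
        _ = P * O' + P := by rw [hTTP]
  refine ⟨key.1, key.2, ?_⟩
  obtain ⟨c', hc', hcc⟩ := norm_y C hyt hyf _ (C.omega_sq hω)
  refine ⟨c', hc', ?_⟩
  have hO : κ ω * κ ω = κ ω + κ (ω * ω + ω) := by
    rw [map_add, map_mul]
    have := h2 (κ ω)
    rw [add_comm (κ ω * κ ω), ← add_assoc, this, zero_add]
  calc O' * O' = rho X W y * κ ω * (rho X W y⁻¹ * rho X W y) * κ ω * rho X W y⁻¹ := by
        rw [hO']; simp only [mul_assoc]
    _ = rho X W y * (κ ω * κ ω) * rho X W y⁻¹ := by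
        rw [rho_inv_mul, mul_one]; simp only [mul_assoc]
    _ = O' + (rho X W y * κ (ω * ω + ω)) * rho X W y⁻¹ := by
        rw [hO, mul_add, add_mul, hO']
    _ = O' + κ c' := by rw [hcc, mul_assoc, rho_mul_inv, mul_one]

/-- the commutator is `δ f` -/
theorem z_form {ω : F} (hω : σ ω = ω + 1) : ∃ δ : F, σ δ = δ ∧
    κ ω * (rho X W y * κ ω * rho X W y⁻¹) + (rho X W y * κ ω * rho X W y⁻¹) * κ ω =
      κ δ * rho X W f := by
  have h2 : ∀ x : AddMonoid.End W, x + x = 0 := C.add_self_R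
  obtain ⟨h1, h3, c', hc', h4⟩ := rel_y C hyt hyf hω
  have hK := fun c hc => conj_comm_K0 C hyt hyf ω c hc
  obtain ⟨O', hO'⟩ : ∃ z, z = rho X W y * κ ω * rho X W y⁻¹ := ⟨_, rfl⟩
  rw [← hO'] at h1 h3 h4 ⊢
  rw [← hO'] at hK
  have hTT : rho X W t * rho X W t = 1 := C.rho_tt
  have hPP : rho X W f * rho X W f = 1 := C.rho_ff
  have hOT : κ ω * rho X W t = rho X W t * κ ω := (C.t_kappa ω).symm
  have hOP : κ ω * rho X W f = rho X W f * κ ω + rho X W f := by
    have := C.f_kappa ω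
    rw [hω, map_add, map_one, add_mul, one_mul] at this
    rw [this, add_assoc, h2, add_zero]
  have hO : κ ω * κ ω = κ ω + κ (ω * ω + ω) := by
    rw [map_add, map_mul]
    have := h2 (κ ω)
    rw [add_comm (κ ω * κ ω), ← add_assoc, this, zero_add]
  have hKω : ∀ a : F, κ ω * κ a = κ a * κ ω := fun a => by rw [← map_mul, ← map_mul, mul_comm]
  obtain ⟨α, β, γ, δ, hα, hβ, hγ, hδ, hz⟩ := C.cent_R
    (z := κ ω * O' + O' * κ ω) (by
      intro a ha
      have e1 := hK a ha
      rw [add_mul, mul_add, mul_assoc, ← e1, ← mul_assoc, hKω, mul_assoc, mul_assoc, hKω,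
        ← mul_assoc O', ← e1, mul_assoc])
    (Alg.z_T h2 hTT hPP C.rho_tf hOT hOP h1 h3) (Alg.z_P h2 hTT hPP C.rho_tf hOT hOP h1 h3)
  refine ⟨γ, hγ, ?_⟩
  have hcc : ∀ a, σ a = a → ∀ x, (x = κ ω ∨ x = O') → x * κ a = κ a * x := by
    intro a ha x hx
    rcases hx with rfl | rfl
    · exact hKω a
    · exact (hK a ha).symm
  exact Alg.z_eq h2 hTT hPP C.rho_tf hOT hOP h1 h3 hO h4 (hK _ (C.omega_sq hω))
    (hKω c').symm (hcc α hα) (hcc β hβ) (hcc γ hγ) (hcc δ hδ) hz

end Conj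

end XC

end Cfsg.Agent.StdL2.F
end

-- part: StdL2/FTori
section
/-!
# S1773, case (f): the two tori commute
-/

set_option autoImplicit false
set_option linter.unusedSectionVars false

namespace Cfsg.Agent.StdL2.F

open Subgroup

section General

variable {H : Type*} [Group H]

/-- A group of order `2 n`, `n` odd, has a normal subgroup of order `n`. -/
private theorem exists_odd_normal [Finite H] {n : ℕ} (hn : Odd n) (hc : Nat.card H = 2 * n) :
    ∃ K : Subgroup H, K.Normal ∧ K.index = 2 ∧ Nat.card K = n := by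
  have : Fact (Nat.Prime 2) := ⟨Nat.prime_two⟩
  obtain ⟨P⟩ : Nonempty (Sylow 2 H) := inferInstance
  have hP : Nat.card P = 2 := by
    rw [Sylow.card_eq_multiplicity, hc, Nat.factorization_mul (by norm_num) (by rintro rfl; simp at hn),
      Finsupp.add_apply, Nat.Prime.factorization_self Nat.prime_two,
      Nat.factorization_eq_zero_of_not_dvd (by rw [← even_iff_two_dvd, Nat.not_even_iff_odd]; exact hn)]
    norm_num
  have hNC : normalizer (((P : Subgroup H)) : Set H) ≤ centralizer (P : Set H) := by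
    intro x hx
    rw [mem_centralizer_iff]
    intro a ha
    by_cases ha1 : a = 1
    · rw [ha1]; group
    have hxa : x * a * x⁻¹ ∈ (P : Subgroup H) := (mem_normalizer_iff.1 hx a).1 ha
    have hxa1 : x * a * x⁻¹ ≠ 1 := fun h => ha1 (conj_eq_one_iff.1 h)
    have key : x * a * x⁻¹ = a := by
      have h2 : Nat.card (P : Subgroup H) = 2 := hP
      rw [Nat.card_eq_two_iff' (1 : (P : Subgroup H))] at h2
      obtain ⟨b, -, hb⟩ := h2
      have h3 := hb ⟨a, ha⟩ (fun h => ha1 (congrArg Subtype.val h))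
      have h4 := hb ⟨x * a * x⁻¹, hxa⟩ (fun h => hxa1 (congrArg Subtype.val h))
      exact congrArg Subtype.val (h4.trans h3.symm)
    rw [mul_inv_eq_iff_eq_mul] at key
    exact key.symm
  have h1 := MonoidHom.ker_transferSylow_isComplement' P hNC
  have h2 : (MonoidHom.transferSylow P hNC).ker.index = 2 := by
    rw [h1.symm.index_eq_card]; exact hP
  refine ⟨(MonoidHom.transferSylow P hNC).ker, inferInstance, h2, ?_⟩
  have h3 := (MonoidHom.transferSylow P hNC).ker.card_mul_index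
  rw [h2, hc, mul_comm] at h3
  exact Nat.eq_of_mul_eq_mul_left (by norm_num) h3

/-- elements of odd order lie in a normal subgroup of index two -/
private theorem mem_of_odd {K : Subgroup H} (hK : K.index = 2) {x : H} {n : ℕ} (hn : Odd n)
    (hx : x ^ n = 1) : x ∈ K := by
  obtain ⟨k, hk⟩ := hn
  have h1 : x = (x ^ 2) ^ (k + 1) := by
    rw [← pow_mul, show 2 * (k + 1) = (2 * k + 1) + 1 by ring, pow_succ, ← hk, hx, one_mul]
  rw [h1]
  exact K.pow_mem (Subgroup.sq_mem_of_index_two hK x) _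

/-- a group whose order is not divisible by 4 has a subgroup of odd order containing all the elements
of odd order -/
theorem exists_odd_of_not_four [Finite H] (h4 : ¬ 4 ∣ Nat.card H) :
    ∃ K : Subgroup H, Odd (Nat.card K) ∧ ∀ (x : H) (n : ℕ), Odd n → x ^ n = 1 → x ∈ K := by
  by_cases h2 : 2 ∣ Nat.card H
  · obtain ⟨n, hn⟩ := h2
    have hodd : Odd n := by
      rw [← Nat.not_even_iff_odd]
      rintro ⟨k, hk⟩
      exact h4 ⟨k, by omega⟩
    obtain ⟨K, _, hK2, hK3⟩ := exists_odd_normal hodd hn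
    exact ⟨K, hK3 ▸ hodd, fun x n hn hx => mem_of_odd hK2 hn hx⟩
  · refine ⟨⊤, ?_, fun _ _ _ _ => mem_top _⟩
    rw [Subgroup.card_top, ← Nat.not_even_iff_odd, even_iff_two_dvd]
    exact h2

/-- a 2-subgroup of order divisible by `2 ^ n` -/
theorem exists_two_sub [Finite H] {K : Subgroup H} {n : ℕ} (h : 2 ^ n ∣ Nat.card K) :
    ∃ S : Subgroup H, S ≤ K ∧ IsPGroup 2 S ∧ Nat.card S = 2 ^ n := by
  haveI : Fact (Nat.Prime 2) := ⟨Nat.prime_two⟩
  obtain ⟨S, hS⟩ := Sylow.exists_subgroup_card_pow_prime 2 h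
  refine ⟨S.map K.subtype, map_subtype_le S, ?_, ?_⟩
  · exact (IsPGroup.of_card hS).map K.subtype
  · rw [← hS]
    exact Nat.card_congr (S.equivMapOfInjective K.subtype K.subtype_injective).toEquiv.symm

end General

namespace XC

variable {X W F : Type*} [Group X] [Finite X] [AddCommGroup W] [DistribMulAction X W] [Field F]
  [Finite F] {κ : F →+* AddMonoid.End W} {d : Fˣ →* X} {σ : F ≃+* F} {t f : X} {w₁ : W}

/-- units have odd order -/
theorem odd_pow (C : XC κ d σ t f w₁) : ∃ n : ℕ, Odd n ∧ ∀ a : Fˣ, a ^ n = 1 := by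
  refine ⟨Nat.card Fˣ, ?_, fun a => pow_card_eq_one'⟩
  rw [Nat.card_units]
  haveI : CharP F 2 := CharTwo.of_one_ne_zero_of_two_eq_zero one_ne_zero C.two
  haveI := Fintype.ofFinite F
  rw [Nat.card_eq_fintype_card]
  obtain ⟨n, hn1, hn2⟩ := FiniteField.card F 2
  rw [hn2]
  have h1 : Even (2 ^ (n : ℕ)) := Nat.even_pow.mpr ⟨even_two, n.pos.ne'⟩
  have h2 : 0 < 2 ^ (n : ℕ) := by positivity
  exact Nat.Even.sub_odd h2 h1 odd_one

/-- the subgroup of elements commuting with an operator -/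
def centOp (X : Type*) {W : Type*} [Group X] [AddCommGroup W] [DistribMulAction X W]
    (z : AddMonoid.End W) : Subgroup X where
  carrier := {x | rho X W x * z = z * rho X W x}
  mul_mem' := by
    intro x y hx hy
    change rho X W (x * y) * z = z * rho X W (x * y)
    rw [map_mul, mul_assoc, hy, ← mul_assoc, hx, mul_assoc]
  one_mem' := by
    change rho X W 1 * z = z * rho X W 1
    rw [map_one, one_mul, mul_one]
  inv_mem' := by
    intro x hx
    change rho X W x⁻¹ * z = z * rho X W x⁻¹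
    have h1 : rho X W x * rho X W x⁻¹ = 1 := by rw [← map_mul, mul_inv_cancel, map_one]
    have h2 : rho X W x⁻¹ * rho X W x = 1 := by rw [← map_mul, inv_mul_cancel, map_one]
    calc rho X W x⁻¹ * z = rho X W x⁻¹ * (z * rho X W x) * rho X W x⁻¹ := by
          rw [mul_assoc, mul_assoc, h1, mul_one]
      _ = rho X W x⁻¹ * (rho X W x * z) * rho X W x⁻¹ := by rw [hx]
      _ = z * rho X W x⁻¹ := by rw [← mul_assoc, h2, one_mul]

/-- `H ∪ H t` -/
theorem exists_double {t : X} (H : Subgroup X) (htt : t * t = 1) (ht : t ∉ H)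
    (hn : ∀ h ∈ H, t * h * t⁻¹ ∈ H) :
    ∃ K : Subgroup X, H ≤ K ∧ t ∈ K ∧ (∀ x ∈ K, x ∈ H ∨ x * t ∈ H) ∧
      Nat.card K = 2 * Nat.card H := by
  have hti : t⁻¹ = t := inv_eq_of_mul_eq_one_left htt
  have hn' : ∀ h ∈ H, t * h * t ∈ H := fun h hh => by
    have := hn h hh; rwa [hti] at this
  let K : Subgroup X :=
    { carrier := {x | x ∈ H ∨ x * t ∈ H}
      mul_mem' := by
        rintro x y (hx | hx) (hy | hy)
        · exact Or.inl (mul_mem hx hy)
        · exact Or.inr (by rw [mul_assoc]; exact mul_mem hx hy)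
        · right
          have : x * y * t = x * t * (t * y * t) := by
            have : x * t * (t * y * t) = x * (t * t) * (y * t) := by simp only [mul_assoc]
            rw [this, htt, mul_one, mul_assoc]
          rw [this]
          exact mul_mem hx (hn' y hy)
        · left
          have : x * y = x * t * (t * (y * t) * t) := by
            have : x * t * (t * (y * t) * t) = x * (t * t) * y * (t * t) := by
              simp only [mul_assoc]
            rw [this, htt, mul_one, mul_one]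
          rw [this]
          exact mul_mem hx (hn' _ hy)
      one_mem' := Or.inl H.one_mem
      inv_mem' := by
        rintro x (hx | hx)
        · exact Or.inl (inv_mem hx)
        · right
          have : x⁻¹ * t = t * (x * t)⁻¹ * t := by
            rw [mul_inv_rev, hti, ← mul_assoc, htt, one_mul]
          rw [this]
          exact hn' _ (inv_mem hx) }
  have hHK : H ≤ K := fun x hx => Or.inl hx
  have htK : t ∈ K := Or.inr (by rw [htt]; exact H.one_mem)
  refine ⟨K, hHK, htK, fun x hx => hx, ?_⟩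
  have hidx : (H.subgroupOf K).index = 2 := by
    rw [Subgroup.index_eq_two_iff]
    refine ⟨⟨t, htK⟩, ?_⟩
    rintro ⟨b, hb⟩
    rw [mem_subgroupOf, mem_subgroupOf]
    change Xor' (b * t ∈ H) (b ∈ H)
    rcases hb with hb | hb
    · right
      refine ⟨hb, fun h => ht ?_⟩
      have := mul_mem (inv_mem hb) h
      rwa [← mul_assoc, inv_mul_cancel, one_mul] at this
    · left
      refine ⟨hb, fun h => ht ?_⟩
      have := mul_mem (inv_mem h) hb
      rwa [← mul_assoc, inv_mul_cancel, one_mul] at this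
  have h1 := (H.subgroupOf K).card_mul_index
  rw [hidx] at h1
  have h2 : Nat.card (H.subgroupOf K) = Nat.card H :=
    Nat.card_congr (subgroupOfEquivOfLe hHK).toEquiv
  rw [h2] at h1
  omega

section Kill

variable (C : XC κ d σ t f w₁) {y : X} (hyt : y * t * y⁻¹ = t * f)
  (hyf : y * f * y⁻¹ = f ∨ y * f * y⁻¹ = t)

/-- the subgroup generated by the two tori and `f` -/
def H1 (d : Fˣ →* X) (σ : F ≃+* F) (f y : X) : Subgroup X :=
  _root_.Subgroup.closure ({x | ∃ a : Fˣ, (a : F) * σ a = 1 ∧ (x = d a ∨ x = y * d a * y⁻¹)} ∪ {f})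

include C hyt hyf

/-- the Sylow 2-subgroups of `N₁` of order 4 -/
theorem kill_four {ω δ : F} (hω : σ ω = ω + 1) (hδ : σ δ = δ) (hδ0 : δ ≠ 0)
    (hz : κ ω * (rho X W y * κ ω * rho X W y⁻¹) + (rho X W y * κ ω * rho X W y⁻¹) * κ ω =
      κ δ * rho X W f)
    (hS : ∀ S : Subgroup X, IsPGroup 2 S → S ≤ N1 κ σ → Nat.card S ≤ 4) : False := by
  classical
  have h2 : ∀ x : AddMonoid.End W, x + x = 0 := C.add_self_R
  obtain ⟨h1, h3, c', hc', h4⟩ := rel_y C hyt hyf hω
  have hKy := conj_comm_K0 C hyt hyf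
  have hK := fun c hc => hKy ω c hc
  obtain ⟨O', hO'⟩ : ∃ z, z = rho X W y * κ ω * rho X W y⁻¹ := ⟨_, rfl⟩
  rw [← hO'] at h1 h3 h4 hz hK
  have hTT : rho X W t * rho X W t = 1 := C.rho_tt
  have hPP : rho X W f * rho X W f = 1 := C.rho_ff
  have hOT : κ ω * rho X W t = rho X W t * κ ω := (C.t_kappa ω).symm
  have hOP : κ ω * rho X W f = rho X W f * κ ω + rho X W f := by
    have := C.f_kappa ω
    rw [hω, map_add, map_one, add_mul, one_mul] at this
    rw [this, add_assoc, h2, add_zero]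
  have hKω : ∀ a : F, κ ω * κ a = κ a * κ ω := fun a => by rw [← map_mul, ← map_mul, mul_comm]
  have hδP : rho X W f * κ δ = κ δ * rho X W f := by
    have := C.f_kappa δ
    rwa [hδ] at this
  have hδT : rho X W t * κ δ = κ δ * rho X W t := C.t_kappa δ
  obtain ⟨M, hM⟩ : ∃ M, M = κ ω + O' + κ δ * (1 + rho X W f) := ⟨_, rfl⟩
  have hMO : M * κ ω = κ ω * M := by
    rw [hM]; exact Alg.M_O h2 hOP hz (hKω δ)
  have hMO' : M * O' = O' * M := by
    rw [hM]; exact Alg.M_O' h2 h3 hz (hK δ hδ).symm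
  have hMP : M * rho X W f = rho X W f * M := by
    rw [hM]; exact Alg.M_P h2 hOP h3 hδP
  have hMT : M * rho X W t = rho X W t * M + rho X W t := by
    rw [hM]; exact Alg.M_T C.rho_tf hOT h1 hδT
  have hMK : ∀ a, σ a = a → M * κ a = κ a * M := by
    intro a ha
    have h5 : rho X W f * κ a = κ a * rho X W f := by
      have := C.f_kappa a
      rwa [ha] at this
    have h6 : κ δ * κ a = κ a * κ δ := by rw [← map_mul, ← map_mul, mul_comm]
    have h7 : κ δ * (1 + rho X W f) * κ a = κ a * (κ δ * (1 + rho X W f)) := by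
      calc κ δ * (1 + rho X W f) * κ a = κ δ * κ a + κ δ * (rho X W f * κ a) := by
            rw [mul_assoc, add_mul, one_mul, mul_add]
        _ = κ a * κ δ + κ a * κ δ * rho X W f := by rw [h5, ← mul_assoc, h6]
        _ = κ a * (κ δ * (1 + rho X W f)) := by
            rw [mul_assoc (κ a), ← mul_add, mul_add (κ δ), mul_one]
    rw [hM, add_mul, add_mul, h7, hKω, ← hK a ha, mul_add (κ a) (κ ω + O'),
      mul_add (κ a) (κ ω)]
  have hMF : ∀ a : F, M * κ a = κ a * M := by
    intro a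
    obtain ⟨u, v, hu, hv, rfl⟩ := C.decomp hω a
    rw [map_add, map_mul, mul_add, add_mul, hMK u hu, ← mul_assoc, hMK v hv, mul_assoc, hMO,
      mul_assoc]
  have hMF' : ∀ a : F, M * (rho X W y * κ a * rho X W y⁻¹) =
      (rho X W y * κ a * rho X W y⁻¹) * M := by
    intro a
    obtain ⟨u, v, hu, hv, rfl⟩ := C.decomp hω a
    obtain ⟨u', hu', e1⟩ := norm_y C hyt hyf u hu
    obtain ⟨v', hv', e2⟩ := norm_y C hyt hyf v hv
    have e3 : rho X W y * κ (u + v * ω) * rho X W y⁻¹ = κ u' + κ v' * O' := by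
      rw [map_add, map_mul, mul_add, add_mul, e1, ← mul_assoc, e2, mul_assoc (κ u'), rho_mul_inv,
        mul_one, hO']
      simp only [mul_assoc]
    rw [e3, mul_add, add_mul, hMK u' hu', ← mul_assoc, hMK v' hv', mul_assoc, hMO', mul_assoc]
  -- the subgroup
  set! H := H1 d σ f y with hH
  have hHN : H ≤ N1 κ σ := by
    rw [hH, H1, closure_le]
    rintro x (⟨a, -, rfl | rfl⟩ | rfl)
    · exact C.d_mem a
    · intro c hc
      rw [map_mul, map_mul, C.rho_d]
      exact (hKy (a : F) c hc).symm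
    · exact C.f_mem
  have hHM : ∀ h ∈ H, rho X W h * M = M * rho X W h := by
    have hle : H ≤ centOp X M := by
      rw [hH, H1, closure_le]
      rintro x (⟨a, -, rfl | rfl⟩ | rfl)
      · change rho X W (d a) * M = M * rho X W (d a)
        rw [C.rho_d, hMF]
      · change rho X W (y * d a * y⁻¹) * M = M * rho X W (y * d a * y⁻¹)
        rw [map_mul, map_mul, C.rho_d, hMF']
      · exact hMP.symm
    exact fun h hh => hle hh
  have htH : t ∉ H := by
    intro h
    have h5 := hHM t h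
    rw [hMT] at h5
    have h6 : rho X W t = 0 := by
      have := h5.symm
      rwa [add_eq_left] at this
    have h7 := DFunLike.congr_fun h6 (t • w₁ + w₁)
    change t • (t • w₁ + w₁) = 0 at h7
    rw [C.t_v] at h7
    exact C.v_ne h7
  have hyt' : y * t = t * f * y := mul_inv_eq_iff_eq_mul.mp hyt
  have hgen : ∀ a : Fˣ, t * (y * d a * y⁻¹) * t⁻¹ = y * d (Units.map (σ : F →* F) a) * y⁻¹ := by
    intro a
    have e1 : ∃ e, (e = f ∨ e = t * f) ∧ t * y = y * e := by
      obtain ⟨h5, -⟩ := y_inv C hyt hyf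
      rw [inv_inv] at h5
      refine ⟨y⁻¹ * t * y, ?_, by group⟩
      rcases h5 with h5 | h5 | h5
      · exfalso
        have h6 : y * t = t * y := by
          calc y * t = y * (y⁻¹ * t * y) := by rw [h5]
            _ = t * y := by group
        rw [h6] at hyt'
        have h7 := mul_right_cancel hyt'
        have h8 : f = 1 := by
          have := h7.symm
          rwa [mul_eq_left] at this
        exact C.f_ne_one h8
      · exact Or.inl h5
      · exact Or.inr h5
    obtain ⟨e, he, hty⟩ := e1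
    have hed : e * d a = d (Units.map (σ : F →* F) a) * e := by
      rcases he with rfl | rfl
      · exact C.fd a
      · rw [mul_assoc, C.fd, ← mul_assoc, C.td, mul_assoc]
    calc t * (y * d a * y⁻¹) * t⁻¹ = (t * y) * d a * (t * y)⁻¹ := by group
      _ = y * (e * d a) * e⁻¹ * y⁻¹ := by rw [hty]; group
      _ = y * d (Units.map (σ : F →* F) a) * y⁻¹ := by rw [hed]; group
  have hnorm : ∀ h ∈ H, t * h * t⁻¹ ∈ H := by
    have hle : H ≤ H.comap (MulAut.conj t).toMonoidHom := by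
      conv_lhs => rw [hH, H1]
      rw [closure_le]
      rintro x (⟨a, ha, rfl | rfl⟩ | hxf)
      · change t * d a * t⁻¹ ∈ H
        rw [C.td, mul_inv_cancel_right]
        exact _root_.Subgroup.subset_closure (Or.inl ⟨a, ha, Or.inl rfl⟩)
      · change t * (y * d a * y⁻¹) * t⁻¹ ∈ H
        rw [hgen]
        refine _root_.Subgroup.subset_closure (Or.inl ⟨_, ?_, Or.inr rfl⟩)
        change σ (a : F) * σ (σ (a : F)) = 1
        rw [C.sig, mul_comm]; exact ha
      · rw [Set.mem_singleton_iff.mp hxf]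
        change t * f * t⁻¹ ∈ H
        rw [C.tf, mul_inv_cancel_right]
        exact _root_.Subgroup.subset_closure (Or.inr rfl)
    exact fun h hh => hle hh
  have h4' : ¬ 4 ∣ Nat.card H := by
    intro hdvd
    obtain ⟨K, hHK, htK, hK1, hK2⟩ := exists_double H C.tt htH hnorm
    have h8 : 2 ^ 3 ∣ Nat.card K := by
      rw [hK2]
      obtain ⟨k, hk⟩ := hdvd
      exact ⟨k, by omega⟩
    obtain ⟨S, hSK, hS2, hS8⟩ := exists_two_sub h8
    have hKN : K ≤ N1 κ σ := by
      intro x hx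
      rcases hK1 x hx with h | h
      · exact hHN h
      · have := mul_mem (hHN h) (inv_mem C.t_mem)
        rwa [mul_inv_cancel_right] at this
    have := hS S hS2 (hSK.trans hKN)
    omega
  obtain ⟨K, hKodd, hKmem⟩ := exists_odd_of_not_four h4'
  set! H0 : Subgroup X := K.map H.subtype with hH0
  have hH0H : H0 ≤ H := map_subtype_le K
  have hH0odd : Odd (Nat.card H0) := by
    rw [hH0, ← Nat.card_congr (K.equivMapOfInjective H.subtype H.subtype_injective).toEquiv]
    exact hKodd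
  obtain ⟨n, hn, hn1⟩ := C.odd_pow
  have hmem : ∀ x ∈ H, x ^ n = 1 → x ∈ H0 := by
    intro x hx hxn
    exact ⟨⟨x, hx⟩, hKmem ⟨x, hx⟩ n hn (Subtype.ext hxn), rfl⟩
  -- the element a₀
  have ha0 : (1 + ω⁻¹ : F) ≠ 0 := by
    intro h
    have := C.norm_a0 hω
    rw [h, zero_mul] at this
    exact zero_ne_one this
  have hd1 : d (Units.mk0 _ ha0) ∈ H0 := by
    apply hmem
    · exact _root_.Subgroup.subset_closure (Or.inl ⟨_, C.norm_a0 hω, Or.inl rfl⟩)
    · rw [← map_pow, hn1, map_one]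
  have hd2 : y * d (Units.mk0 _ ha0) * y⁻¹ ∈ H0 := by
    apply hmem
    · exact _root_.Subgroup.subset_closure (Or.inl ⟨_, C.norm_a0 hω, Or.inr rfl⟩)
    · rw [conj_pow, ← map_pow, hn1, map_one, mul_one, mul_inv_cancel]
  have key := C.kill_odd (δ := δ) (c' := c') hω hδ hδ0 hc' O' hK h1 h3 h4 hz H0 hH0odd
    (fun h hh a ha => (hHN (hH0H hh) a ha).symm) (by
      intro h hh
      rw [← hM]
      exact hHM h (hH0H hh))
  apply key
  intro z hz hzh
  constructor
  · apply comm_of_a0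
    have h5 := hzh _ hd1
    rw [C.rho_d] at h5
    exact h5.symm
  · have h5 := hzh _ hd2
    rw [map_mul, map_mul, C.rho_d] at h5
    have h6 : (rho X W y⁻¹ * z * rho X W y) * κ ω = κ ω * (rho X W y⁻¹ * z * rho X W y) := by
      apply comm_of_a0
      have e1 : (rho X W y⁻¹ * z * rho X W y) * κ (1 + ω⁻¹) =
          rho X W y⁻¹ * (z * (rho X W y * κ (1 + ω⁻¹) * rho X W y⁻¹)) * rho X W y := by
        simp only [mul_assoc, rho_inv_mul, mul_one]
      have e2 : κ (1 + ω⁻¹) * (rho X W y⁻¹ * z * rho X W y) =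
          rho X W y⁻¹ * ((rho X W y * κ (1 + ω⁻¹) * rho X W y⁻¹) * z) * rho X W y := by
        have : rho X W y⁻¹ * ((rho X W y * κ (1 + ω⁻¹) * rho X W y⁻¹) * z) * rho X W y =
            (rho X W y⁻¹ * rho X W y) * κ (1 + ω⁻¹) * (rho X W y⁻¹ * z * rho X W y) := by
          simp only [mul_assoc]
        rw [this, rho_inv_mul, one_mul]
      rw [e1, e2]
      congr 2
      exact h5.symm
    calc z * O' = (rho X W y * rho X W y⁻¹) * z * (rho X W y * κ ω * rho X W y⁻¹) := by
          rw [rho_mul_inv, one_mul, hO']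
      _ = rho X W y * ((rho X W y⁻¹ * z * rho X W y) * κ ω) * rho X W y⁻¹ := by
          simp only [mul_assoc]
      _ = rho X W y * (κ ω * (rho X W y⁻¹ * z * rho X W y)) * rho X W y⁻¹ := by rw [h6]
      _ = (rho X W y * κ ω * rho X W y⁻¹) * z * (rho X W y * rho X W y⁻¹) := by
          simp only [mul_assoc]
      _ = O' * z := by rw [rho_mul_inv, mul_one, hO']

end Kill

end XC

end Cfsg.Agent.StdL2.F
end

-- part: StdL2/FCase
section
/-!
# S1773, case (f): Sylow 2-subgroups of the centralizer of the fixed field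
-/

set_option autoImplicit false
set_option linter.unusedSectionVars false

namespace Cfsg.Agent.StdL2.F

open Subgroup

theorem grow {X : Type*} [Group X] [Finite X] {S P : Subgroup X} (hP : IsPGroup 2 P) (h : S < P) :
    ∃ n ∈ P, n ∉ S ∧ ∀ s ∈ S, n * s * n⁻¹ ∈ S := by
  haveI : Fact (Nat.Prime 2) := ⟨Nat.prime_two⟩
  have hnil := hP.isNilpotent
  have h1 : NormalizerCondition P := Group.normalizerCondition_of_isNilpotent
  have h2 : S.subgroupOf P < ⊤ := by
    rw [lt_top_iff_ne_top]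
    intro h3
    rw [subgroupOf_eq_top] at h3
    exact absurd h3 (not_le_of_gt h)
  obtain ⟨n, hn1, hn2⟩ := SetLike.exists_of_lt (h1 _ h2)
  refine ⟨n, n.2, fun h3 => hn2 (mem_subgroupOf.mpr h3), ?_⟩
  intro s hs
  have h4 := (mem_normalizer_iff.mp hn1 ⟨s, h.le hs⟩).mp (mem_subgroupOf.mpr hs)
  exact mem_subgroupOf.mp h4

theorem sylow_ext {X : Type*} [Group X] [Finite X] {N S₀ : Subgroup X} (hS : IsPGroup 2 S₀)
    (h : S₀ ≤ N) : ∃ P : Subgroup X, S₀ ≤ P ∧ P ≤ N ∧ IsPGroup 2 P ∧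
      ∀ S : Subgroup X, IsPGroup 2 S → S ≤ N → Nat.card S ≤ Nat.card P := by
  haveI : Fact (Nat.Prime 2) := ⟨Nat.prime_two⟩
  have h1 : IsPGroup 2 (S₀.subgroupOf N) := hS.comap_subtype
  obtain ⟨Q, hQ⟩ := h1.exists_le_sylow
  have hcard : Nat.card ((Q : Subgroup N).map N.subtype) = Nat.card Q :=
    Nat.card_congr ((Q : Subgroup N).equivMapOfInjective N.subtype N.subtype_injective).toEquiv.symm
  refine ⟨(Q : Subgroup N).map N.subtype, ?_, map_subtype_le _, Q.2.map _, ?_⟩
  · intro x hx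
    exact ⟨⟨x, h hx⟩, hQ (mem_subgroupOf.mpr hx), rfl⟩
  · intro S hS' hSN
    obtain ⟨R, hR⟩ := (hS'.comap_subtype (K := N)).exists_le_sylow
    rw [hcard]
    have e1 : Nat.card S = Nat.card (S.subgroupOf N) :=
      Nat.card_congr (subgroupOfEquivOfLe hSN).toEquiv.symm
    rw [e1, Sylow.card_eq_multiplicity Q, ← Sylow.card_eq_multiplicity R]
    exact Nat.le_of_dvd Nat.card_pos (card_dvd_of_le hR)

namespace XC

variable {X W F : Type*} [Group X] [Finite X] [AddCommGroup W] [DistribMulAction X W] [Field F]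
  [Finite F] {κ : F →+* AddMonoid.End W} {d : Fˣ →* X} {σ : F ≃+* F} {t f : X} {w₁ : W}

/-- the four-group `{1, t, f, t f}` -/
def E4 (C : XC κ d σ t f w₁) : Subgroup X where
  carrier := {x | x = 1 ∨ x = t ∨ x = f ∨ x = t * f}
  one_mem' := Or.inl rfl
  mul_mem' := by
    have h1 : t * (t * f) = f := by rw [← mul_assoc, C.tt, one_mul]
    have h2 : f * t = t * f := C.tf.symm
    have h3 : f * (t * f) = t := by rw [← mul_assoc, ← C.tf, mul_assoc, C.ff, mul_one]
    have h4 : (t * f) * t = f := by rw [mul_assoc, ← C.tf, h1]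
    have h5 : (t * f) * f = t := by rw [mul_assoc, C.ff, mul_one]
    have h6 : (t * f) * (t * f) = 1 := by rw [← mul_assoc, h4, C.ff]
    rintro x y (rfl | rfl | rfl | rfl) (rfl | rfl | rfl | rfl)
    all_goals
      change _ ∨ _ ∨ _ ∨ _
      simp only [one_mul, mul_one, C.tt, C.ff, h1, h2, h3, h4, h5, h6, true_or, or_true]
  inv_mem' := by
    rintro x (rfl | rfl | rfl | rfl)
    · exact Or.inl inv_one
    · exact Or.inr (Or.inl C.t_inv)
    · exact Or.inr (Or.inr (Or.inl C.f_inv))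
    · right; right; right
      rw [mul_inv_rev, C.t_inv, C.f_inv, C.tf]

theorem mem_E4 {C : XC κ d σ t f w₁} {x : X} :
    x ∈ C.E4 ↔ x = 1 ∨ x = t ∨ x = f ∨ x = t * f := Iff.rfl

theorem t_E4 (C : XC κ d σ t f w₁) : t ∈ C.E4 := Or.inr (Or.inl rfl)

theorem f_E4 (C : XC κ d σ t f w₁) : f ∈ C.E4 := Or.inr (Or.inr (Or.inl rfl))

theorem sq_E4 (C : XC κ d σ t f w₁) {x : X} (hx : x ∈ C.E4) : x * x = 1 := by
  rcases hx with rfl | rfl | rfl | rfl
  · exact one_mul 1
  · exact C.tt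
  · exact C.ff
  · rw [← mul_assoc, mul_assoc t f t, ← C.tf, ← mul_assoc, C.tt, one_mul, C.ff]

theorem E4_two (C : XC κ d σ t f w₁) : IsPGroup 2 C.E4 := by
  intro x
  refine ⟨1, ?_⟩
  apply Subtype.ext
  rw [pow_one, pow_two]
  exact C.sq_E4 x.2

theorem E4_le (C : XC κ d σ t f w₁) : C.E4 ≤ N1 κ σ := by
  rintro x (rfl | rfl | rfl | rfl)
  · exact one_mem _
  · exact C.t_mem
  · exact C.f_mem
  · exact mul_mem C.t_mem C.f_mem

theorem E4_card (C : XC κ d σ t f w₁) : Nat.card C.E4 ≤ 4 := by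
  classical
  have h1 : (C.E4 : Set X) ⊆ (({1, t, f, t * f} : Finset X) : Set X) := by
    intro x hx
    simp only [Finset.coe_insert, Finset.coe_singleton, Set.mem_insert_iff,
      Set.mem_singleton_iff]
    exact hx
  calc Nat.card C.E4 = (C.E4 : Set X).ncard := rfl
    _ ≤ (({1, t, f, t * f} : Finset X) : Set X).ncard := Set.ncard_le_ncard h1 (Set.toFinite _)
    _ = ({1, t, f, t * f} : Finset X).card := Set.ncard_coe_finset _
    _ ≤ 4 := Finset.card_le_four

/-- elements of `N₁ ∩ C(t)` normalizing `⟨t, f⟩` commute with `f` -/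
theorem comm_of_norm (C : XC κ d σ t f w₁) {n : X} (hn : n ∈ N1 κ σ) (hnt : n * t = t * n)
    (hnf : n * f * n⁻¹ ∈ C.E4) : n * f = f * n := by
  obtain ⟨b, hb⟩ : ∃ b : Fˣ, n * f * n⁻¹ = d b * f := by
    have key : ∀ a : Fˣ, d a * f * (d a)⁻¹ = d (a * (Units.map (σ : F →* F) a)⁻¹) * f := by
      intro a
      have h1 := C.fd a⁻¹
      rw [map_inv] at h1
      rw [mul_assoc, h1, ← mul_assoc, map_mul, map_inv]
    obtain ⟨a, h | h | h | h⟩ := C.cent_tK hnt hn
    · exact ⟨_, by rw [h]; exact key a⟩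
    · refine ⟨a * (Units.map (σ : F →* F) a)⁻¹, ?_⟩
      rw [← key a, h]
      have e1 : t * d a * f * (t * d a)⁻¹ = t * (d a * f * (d a)⁻¹) * t⁻¹ := by group
      rw [e1, key a, ← mul_assoc t, C.td, mul_assoc _ t f, C.tf, ← mul_assoc, mul_inv_cancel_right]
    · refine ⟨a * (Units.map (σ : F →* F) a)⁻¹, ?_⟩
      rw [← key a, h]
      group
    · refine ⟨a * (Units.map (σ : F →* F) a)⁻¹, ?_⟩
      rw [← key a, h]
      have e1 : t * d a * f * f * (t * d a * f)⁻¹ = t * (d a * f * (d a)⁻¹) * t⁻¹ := by group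
      rw [e1, key a, ← mul_assoc t, C.td, mul_assoc _ t f, C.tf, ← mul_assoc, mul_inv_cancel_right]
  rw [hb] at hnf
  obtain ⟨h1, h2, h3⟩ := C.not_scalar b
  have hmul : d b = n * f * n⁻¹ * f := by rw [hb, mul_assoc, C.ff, mul_one]
  have h4 : d b = 1 := by
    rcases hnf with h | h | h | h
    · exfalso; apply h2
      have := mul_eq_one_iff_eq_inv.mp h
      rw [this, C.f_inv]
    · exfalso; apply h3
      rw [← h, mul_assoc, C.ff, mul_one]
    · exact mul_eq_right.mp h
    · exfalso; apply h1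
      exact (mul_right_cancel h).symm
  rw [h4, one_mul] at hb
  exact mul_inv_eq_iff_eq_mul.mp hb

/-- a 2-subgroup of `N₁` containing `E₄` and centralizing `f` has order at most 8, and at most 4
if it centralizes `t`. -/
theorem le_E4 (C : XC κ d σ t f w₁) {S : Subgroup X} (hS : IsPGroup 2 S) (hSN : S ≤ N1 κ σ)
    {x : X} (hx : x ∈ S) (hxt : x * t = t * x) (hxf : x * f = f * x) : x ∈ C.E4 := by
  obtain ⟨n, hn⟩ := hS ⟨x, hx⟩
  exact C.two_elt (hSN hx) hxt hxf (congrArg Subtype.val hn)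

section Cases

variable (C : XC κ d σ t f w₁) {y : X} (hyt : y * t * y⁻¹ = t * f)
  (hyf : y * f * y⁻¹ = f ∨ y * f * y⁻¹ = t)

include C hyt hyf

theorem conj_N1 {n : X} (hn : n ∈ N1 κ σ) : y⁻¹ * n * y ∈ N1 κ σ := by
  intro a ha
  obtain ⟨b, hb, h⟩ := norm_y C hyt hyf a ha
  have h2 : rho X W y⁻¹ * κ b = κ a * rho X W y⁻¹ := by
    calc rho X W y⁻¹ * κ b = rho X W y⁻¹ * (κ b * rho X W y) * rho X W y⁻¹ := by
          rw [mul_assoc (rho X W y⁻¹), mul_assoc (κ b), rho_mul_inv, mul_one]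
      _ = rho X W y⁻¹ * (rho X W y * κ a) * rho X W y⁻¹ := by rw [h]
      _ = κ a * rho X W y⁻¹ := by rw [← mul_assoc, rho_inv_mul, one_mul]
  rw [map_mul, map_mul]
  calc rho X W y⁻¹ * rho X W n * rho X W y * κ a =
        rho X W y⁻¹ * rho X W n * (rho X W y * κ a) := by simp only [mul_assoc]
    _ = rho X W y⁻¹ * (rho X W n * κ b) * rho X W y := by rw [h]; simp only [mul_assoc]
    _ = (rho X W y⁻¹ * κ b) * rho X W n * rho X W y := by rw [hn b hb]; simp only [mul_assoc]
    _ = κ a * (rho X W y⁻¹ * rho X W n * rho X W y) := by rw [h2]; simp only [mul_assoc]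

/-- 2-elements of `N₁` normalizing `⟨t, f⟩` commute with `f`. -/
theorem norm_comm_f {n : X} (hn : n ∈ N1 κ σ) (hne : ∀ e ∈ C.E4, n * e * n⁻¹ ∈ C.E4) {k : ℕ}
    (h2 : n ^ 2 ^ k = 1) : n * f = f * n := by
  have ht1 : t ≠ 1 := C.t_ne_one
  have hf1 : f ≠ 1 := C.f_ne_one
  have hinj : ∀ a b : X, n * a * n⁻¹ = n * b * n⁻¹ → a = b := fun a b h =>
    mul_left_cancel (mul_right_cancel h)
  have hn1 : ∀ a : X, a ≠ 1 → n * a * n⁻¹ ≠ 1 := fun a ha h => ha (conj_eq_one_iff.mp h)
  have hconj : n * (t * f) * n⁻¹ = (n * t * n⁻¹) * (n * f * n⁻¹) := by group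
  have htcase := mem_E4.mp (hne t C.t_E4)
  have hfcase := mem_E4.mp (hne f C.f_E4)
  have etf : t * f * f = t := by rw [mul_assoc, C.ff, mul_one]
  have e1 : t * (t * f) = f := by rw [← mul_assoc, C.tt, one_mul]
  have e2 : f * t = t * f := C.tf.symm
  have e3 : f * (t * f) = t := by rw [← mul_assoc, ← C.tf, mul_assoc, C.ff, mul_one]
  have e4 : (t * f) * t = f := by rw [mul_assoc, ← C.tf, e1]
  have hn3 : n ^ 3 = n * n * n := by rw [pow_succ, pow_two]
  -- odd permutations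
  have hodd : (n ^ 3) * t = t * (n ^ 3) → (n ^ 3) * f = f * (n ^ 3) → n * f = f * n := by
    intro h3 h4
    have hcop : Nat.Coprime 3 (2 ^ k) := Nat.Coprime.pow_right k (by norm_num)
    have h5 : n ∈ zpowers (n ^ 3) := by
      have hord : Nat.Coprime 3 (orderOf n) :=
        Nat.Coprime.coprime_dvd_right (orderOf_dvd_of_pow_eq_one h2) hcop
      obtain ⟨m, hm⟩ := exists_pow_eq_self_of_coprime hord
      exact ⟨m, by simpa using hm⟩
    obtain ⟨m, hm⟩ := h5
    have h6 : Commute (n ^ 3) f := h4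
    have h7 : Commute ((n ^ 3) ^ m) f := h6.zpow_left m
    simp only at hm
    rw [hm] at h7
    exact h7
  rcases htcase with ht | ht | ht | ht
  · exact absurd ht (hn1 t ht1)
  · exact C.comm_of_norm hn (mul_inv_eq_iff_eq_mul.mp ht) (hne f C.f_E4)
  · rcases hfcase with hf | hf | hf | hf
    · exact absurd hf (hn1 f hf1)
    · -- `t ↦ f ↦ t`
      exfalso
      set! n' := y⁻¹ * n * y with hn'
      have hyt' : y * t = t * f * y := mul_inv_eq_iff_eq_mul.mp hyt
      have htf : n * (t * f) = (t * f) * n := by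
        rw [← mul_inv_eq_iff_eq_mul, hconj, ht, hf, e2]
      have h3 : n' * t = t * n' := by
        have a1 : y * (n' * t) = y * (t * n') := by
          calc y * (n' * t) = n * (y * t) := by rw [hn']; group
            _ = (n * (t * f)) * y := by rw [hyt', ← mul_assoc n]
            _ = (t * f * y) * y⁻¹ * n * y := by rw [htf]; group
            _ = y * (t * n') := by rw [← hyt', hn']; group
        exact mul_left_cancel a1
      have hEy : ∀ e ∈ C.E4, y⁻¹ * e * y ∈ C.E4 := by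
        obtain ⟨a1, a2⟩ := y_inv C hyt hyf
        rw [inv_inv] at a1 a2
        have b1 : y⁻¹ * t * y ∈ C.E4 := by
          rcases a1 with h | h | h <;> rw [h]
          · exact C.t_E4
          · exact C.f_E4
          · exact mul_mem C.t_E4 C.f_E4
        have b2 : y⁻¹ * f * y ∈ C.E4 := by
          rcases a2 with h | h | h <;> rw [h]
          · exact C.t_E4
          · exact C.f_E4
          · exact mul_mem C.t_E4 C.f_E4
        rintro e (rfl | rfl | rfl | rfl)
        · rw [mul_one, inv_mul_cancel]; exact one_mem _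
        · exact b1
        · exact b2
        · have : y⁻¹ * (t * f) * y = (y⁻¹ * t * y) * (y⁻¹ * f * y) := by group
          rw [this]; exact mul_mem b1 b2
      have hyE : ∀ e ∈ C.E4, y * e * y⁻¹ ∈ C.E4 := by
        have b1 : y * t * y⁻¹ ∈ C.E4 := by rw [hyt]; exact mul_mem C.t_E4 C.f_E4
        have b2 : y * f * y⁻¹ ∈ C.E4 := by
          rcases hyf with h | h <;> rw [h]
          · exact C.f_E4
          · exact C.t_E4
        rintro e (rfl | rfl | rfl | rfl)
        · rw [mul_one, mul_inv_cancel]; exact one_mem _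
        · exact b1
        · exact b2
        · have : y * (t * f) * y⁻¹ = (y * t * y⁻¹) * (y * f * y⁻¹) := by group
          rw [this]; exact mul_mem b1 b2
      have h4 : n' * f * n'⁻¹ ∈ C.E4 := by
        have a1 : n' * f * n'⁻¹ = y⁻¹ * (n * (y * f * y⁻¹) * n⁻¹) * y := by rw [hn']; group
        rw [a1]
        exact hEy _ (hne _ (hyE _ C.f_E4))
      have h5 := C.comm_of_norm (conj_N1 C hyt hyf hn) h3 h4
      -- `n'` centralizes `E₄`, hence so does `n`
      have h6 : ∀ e ∈ C.E4, n' * e = e * n' := by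
        rintro e (rfl | rfl | rfl | rfl)
        · rw [mul_one, one_mul]
        · exact h3
        · exact h5
        · exact (Commute.mul_right (show Commute n' t from h3) (show Commute n' f from h5)).eq
      have h7 := h6 _ (hEy t C.t_E4)
      have h8 : n * t = t * n := by
        have a1 : y * (n' * (y⁻¹ * t * y)) * y⁻¹ = n * t := by rw [hn']; group
        have a2 : y * ((y⁻¹ * t * y) * n') * y⁻¹ = t * n := by rw [hn']; group
        rw [← a1, h7, a2]
      rw [mul_inv_eq_iff_eq_mul, h8] at ht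
      exact C.f_ne_t (mul_right_cancel ht).symm
    · exact absurd (hinj t f (ht.trans hf.symm)) (fun h => C.f_ne_t h.symm)
    · -- `t ↦ f ↦ t f ↦ t`
      have htf : n * (t * f) * n⁻¹ = t := by rw [hconj, ht, hf, e3]
      apply hodd
      · rw [← mul_inv_eq_iff_eq_mul]
        have : n ^ 3 * t * (n ^ 3)⁻¹ = n * (n * (n * t * n⁻¹) * n⁻¹) * n⁻¹ := by rw [hn3]; group
        rw [this, ht, hf, htf]
      · rw [← mul_inv_eq_iff_eq_mul]
        have : n ^ 3 * f * (n ^ 3)⁻¹ = n * (n * (n * f * n⁻¹) * n⁻¹) * n⁻¹ := by rw [hn3]; group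
        rw [this, hf, htf, ht]
  · rcases hfcase with hf | hf | hf | hf
    · exact absurd hf (hn1 f hf1)
    · -- `t ↦ t f ↦ f ↦ t`
      have htf : n * (t * f) * n⁻¹ = f := by rw [hconj, ht, hf, e4]
      apply hodd
      · rw [← mul_inv_eq_iff_eq_mul]
        have : n ^ 3 * t * (n ^ 3)⁻¹ = n * (n * (n * t * n⁻¹) * n⁻¹) * n⁻¹ := by rw [hn3]; group
        rw [this, ht, htf, hf]
      · rw [← mul_inv_eq_iff_eq_mul]
        have : n ^ 3 * f * (n ^ 3)⁻¹ = n * (n * (n * f * n⁻¹) * n⁻¹) * n⁻¹ := by rw [hn3]; group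
        rw [this, hf, ht, htf]
    · exact mul_inv_eq_iff_eq_mul.mp hf
    · exact absurd (hinj t f (ht.trans hf.symm)) (fun h => C.f_ne_t h.symm)

theorem syl_cases : (∀ S : Subgroup X, IsPGroup 2 S → S ≤ N1 κ σ → Nat.card S ≤ 4) ∨
    (∃ x ∈ N1 κ σ, x * x = 1 ∧ x * t * x⁻¹ = t * f ∧ x * f = f * x ∧
      ∀ S : Subgroup X, IsPGroup 2 S → S ≤ N1 κ σ → Nat.card S ≤ 8) := by
  obtain ⟨P, hEP, hPN, hP2, hmax⟩ := sylow_ext C.E4_two C.E4_le
  rcases eq_or_lt_of_le hEP with h | h
  · left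
    intro S hS hSN
    exact (hmax S hS hSN).trans (h ▸ C.E4_card)
  right
  obtain ⟨n, hnP, hnE, hnn⟩ := grow hP2 h
  obtain ⟨k, hk⟩ := hP2 ⟨n, hnP⟩
  have hnf : n * f = f * n := norm_comm_f C hyt hyf (hPN hnP) hnn (congrArg Subtype.val hk)
  -- the centralizer of `f` in `P`
  set! S := P ⊓ centralizer {f} with hS
  have hS2 : IsPGroup 2 S := hP2.to_le inf_le_left
  have hSN : S ≤ N1 κ σ := inf_le_left.trans hPN
  have htP : t ∈ P := hEP C.t_E4
  have hfP : f ∈ P := hEP C.f_E4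
  have htS : t ∈ S := ⟨htP, mem_centralizer_singleton_iff.mpr C.tf⟩
  have hfS : f ∈ S := ⟨hfP, mem_centralizer_singleton_iff.mpr rfl⟩
  have hSf : ∀ s ∈ S, s * f = f * s := fun s hs => mem_centralizer_singleton_iff.mp hs.2
  have hnS : n ∈ S := ⟨hnP, mem_centralizer_singleton_iff.mpr hnf⟩
  have hnt : n * t ≠ t * n := fun h => hnE (C.le_E4 hP2 hPN hnP h hnf)
  have hntf : n * t * n⁻¹ = t * f := by
    rcases conj_t C hS2 hSN htS hSf n hnS with h | h
    · exact absurd (mul_inv_eq_iff_eq_mul.mp h) hnt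
    · exact h
  have etf : t * f * f = t := by rw [mul_assoc, C.ff, mul_one]
  -- `P = S`
  have hPS : P = S := by
    by_contra hne
    have hlt : S < P := lt_of_le_of_ne inf_le_left (fun h => hne h.symm)
    obtain ⟨m, hmP, hmS, hmm⟩ := grow hP2 hlt
    apply hmS
    have hm' : m⁻¹ ∈ P := inv_mem hmP
    -- `m f m⁻¹` is central in `S`
    have hmm' : ∀ s ∈ S, m⁻¹ * s * m ∈ S := by
      intro s hs
      have hcard : S.map (MulAut.conj m).toMonoidHom = S := by
        apply eq_of_le_of_card_ge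
        · rintro _ ⟨s, hs, rfl⟩
          exact hmm s hs
        · rw [Nat.card_congr (S.equivMapOfInjective (MulAut.conj m).toMonoidHom
            (MulAut.conj m).injective).toEquiv]
      rw [← hcard] at hs
      obtain ⟨s', hs', rfl⟩ := hs
      have : m⁻¹ * ((MulAut.conj m).toMonoidHom s') * m = s' := by
        change m⁻¹ * (m * s' * m⁻¹) * m = s'
        group
      rw [this]; exact hs'
    have hz : ∀ s ∈ S, (m * f * m⁻¹) * s = s * (m * f * m⁻¹) := by
      intro s hs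
      have h1 := hSf _ (hmm' s hs)
      calc (m * f * m⁻¹) * s = m * (f * (m⁻¹ * s * m)) * m⁻¹ := by group
        _ = m * ((m⁻¹ * s * m) * f) * m⁻¹ := by rw [h1]
        _ = s * (m * f * m⁻¹) := by group
    have hzE := mem_E4.mp (C.le_E4 hP2 hPN (mul_mem (mul_mem hmP hfP) hm') (hz t htS)
      (hz f hfS))
    have hzn := hz n hnS
    have hmf : m * f * m⁻¹ = f := by
      rcases hzE with h | h | h | h
      · exact absurd (conj_eq_one_iff.mp h) C.f_ne_one
      · rw [h] at hzn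
        exact absurd hzn.symm hnt
      · exact h
      · exfalso
        rw [h] at hzn
        have h3 : n * (t * f) * n⁻¹ = t := by
          have : n * (t * f) * n⁻¹ = (n * t * n⁻¹) * (n * f * n⁻¹) := by group
          rw [this, hntf, mul_inv_eq_iff_eq_mul.mpr hnf, etf]
        rw [← hzn, mul_inv_cancel_right] at h3
        have := mul_eq_left.mp h3
        exact C.f_ne_one this
    exact ⟨hmP, mem_centralizer_singleton_iff.mpr (mul_inv_eq_iff_eq_mul.mp hmf)⟩
  have hcard : Nat.card P ≤ 8 := by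
    rw [hPS]; exact (card_le C hS2 hSN htS hSf).1
  have hbound : ∀ S : Subgroup X, IsPGroup 2 S → S ≤ N1 κ σ → Nat.card S ≤ 8 :=
    fun S h1 h2 => (hmax S h1 h2).trans hcard
  -- an involution
  have hnn1 : n * n ∈ P := mul_mem hnP hnP
  have hnnt : (n * n) * t = t * (n * n) := by
    rw [← mul_inv_eq_iff_eq_mul]
    have : n * n * t * (n * n)⁻¹ = n * (n * t * n⁻¹) * n⁻¹ := by group
    rw [this, hntf]
    have : n * (t * f) * n⁻¹ = (n * t * n⁻¹) * (n * f * n⁻¹) := by group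
    rw [this, hntf, mul_inv_eq_iff_eq_mul.mpr hnf, etf]
  have hnnf : (n * n) * f = f * (n * n) := by
    rw [mul_assoc, hnf, ← mul_assoc, hnf, mul_assoc]
  have hnnc : n * (n * n) = (n * n) * n := by rw [mul_assoc]
  rcases mem_E4.mp (C.le_E4 hP2 hPN hnn1 hnnt hnnf) with h1 | h1 | h1 | h1
  · exact ⟨n, hPN hnP, h1, hntf, hnf, hbound⟩
  · rw [h1] at hnnc
    exact absurd hnnc hnt
  · refine ⟨n * t, hPN (mul_mem hnP htP), ?_, ?_, ?_, hbound⟩
    · have : n * t * (n * t) = (n * t * n⁻¹) * (n * n) * t := by group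
      rw [this, hntf, h1, etf, C.tt]
    · have : n * t * t * (n * t)⁻¹ = n * t * n⁻¹ := by group
      rw [this, hntf]
    · rw [mul_assoc, C.tf, ← mul_assoc, hnf, mul_assoc]
  · exfalso
    rw [h1] at hnnc
    have h3 : n * (t * f) * n⁻¹ = t := by
      have : n * (t * f) * n⁻¹ = (n * t * n⁻¹) * (n * f * n⁻¹) := by group
      rw [this, hntf, mul_inv_eq_iff_eq_mul.mpr hnf, etf]
    rw [hnnc, mul_inv_cancel_right] at h3
    exact C.f_ne_one (mul_eq_left.mp h3)

end Cases

end XC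

end Cfsg.Agent.StdL2.F
end

-- part: StdL2/FMain
section
/-!
# S1773, case (f): the two tori commute
-/

set_option autoImplicit false
set_option linter.unusedSectionVars false

namespace Cfsg.Agent.StdL2.F

open Subgroup

namespace XC

variable {X W F : Type*} [Group X] [Finite X] [AddCommGroup W] [DistribMulAction X W] [Field F]
  [Finite F] {κ : F →+* AddMonoid.End W} {d : Fˣ →* X} {σ : F ≃+* F} {t f : X} {w₁ : W}

/-- if `ω` and `ω'` commute then the two fields commute -/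
theorem comm_of_omega (C : XC κ d σ t f w₁) {y : X} (hyt : y * t * y⁻¹ = t * f)
    (hyf : y * f * y⁻¹ = f ∨ y * f * y⁻¹ = t) {ω : F} (hω : σ ω = ω + 1)
    (h : κ ω * (rho X W y * κ ω * rho X W y⁻¹) = (rho X W y * κ ω * rho X W y⁻¹) * κ ω) :
    ∀ a b, κ a * (rho X W y * κ b * rho X W y⁻¹) = rho X W y * κ b * rho X W y⁻¹ * κ a := by
  have h1 : ∀ b, κ ω * (rho X W y * κ b * rho X W y⁻¹) =
      (rho X W y * κ b * rho X W y⁻¹) * κ ω := by
    intro b
    obtain ⟨u, v, hu, hv, rfl⟩ := C.decomp hω b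
    obtain ⟨u', hu', e1⟩ := norm_y C hyt hyf u hu
    obtain ⟨v', hv', e2⟩ := norm_y C hyt hyf v hv
    have e3 : rho X W y * κ (u + v * ω) * rho X W y⁻¹ =
        κ u' + κ v' * (rho X W y * κ ω * rho X W y⁻¹) := by
      rw [map_add, map_mul, mul_add, add_mul, e1, ← mul_assoc, e2, mul_assoc (κ u'), rho_mul_inv,
        mul_one]
      simp only [mul_assoc]
    have hKω : ∀ a : F, κ ω * κ a = κ a * κ ω := fun a => by rw [← map_mul, ← map_mul, mul_comm]
    rw [e3]
    generalize rho X W y * κ ω * rho X W y⁻¹ = O' at h ⊢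
    rw [mul_add, add_mul, hKω, ← mul_assoc, hKω, mul_assoc, h, mul_assoc]
  intro a b
  obtain ⟨u, v, hu, hv, rfl⟩ := C.decomp hω a
  have h2 := conj_comm_K0 C hyt hyf b
  have h3 := h1 b
  generalize rho X W y * κ b * rho X W y⁻¹ = O' at h2 h3 ⊢
  rw [map_add, map_mul, add_mul, mul_add, h2 u hu, mul_assoc, h3, ← mul_assoc, h2 v hv, mul_assoc]

theorem add_zero_comm (C : XC κ d σ t f w₁) {a b : AddMonoid.End W} (h : a + b = 0) : a = b := by
  have h1 := eq_neg_of_add_eq_zero_left h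
  have h2 : -b = b := neg_eq_of_add_eq_zero_left (C.add_self_R b)
  rwa [h2] at h1

/-- the case `D₈`, as a hypothesis -/
theorem commute_tori_of (C : XC κ d σ t f w₁)
    (k8 : ∀ (ω δ : F), σ ω = ω + 1 → σ δ = δ → δ ≠ 0 → ∀ x ∈ N1 κ σ, x * x = 1 →
      x * t * x⁻¹ = t * f → x * f = f * x →
      κ ω * (rho X W x * κ ω * rho X W x⁻¹) + (rho X W x * κ ω * rho X W x⁻¹) * κ ω =
        κ δ * rho X W f →
      (∀ S : Subgroup X, IsPGroup 2 S → S ≤ N1 κ σ → Nat.card S ≤ 8) → False)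
    {y : X} (hyt : y * t * y⁻¹ = t * f) (hyf : y * f * y⁻¹ = f ∨ y * f * y⁻¹ = t) :
    ∀ a b, κ a * (rho X W y * κ b * rho X W y⁻¹) = rho X W y * κ b * rho X W y⁻¹ * κ a := by
  obtain ⟨ω, hω⟩ := C.exists_omega
  rcases syl_cases C hyt hyf with hS | ⟨x, hxN, hxx, hxt, hxf, hS⟩
  · obtain ⟨δ, hδ, hz⟩ := z_form C hyt hyf hω
    by_cases hδ0 : δ = 0
    · rw [hδ0, map_zero, zero_mul] at hz
      exact C.comm_of_omega hyt hyf hω (C.add_zero_comm hz)
    · exact (kill_four C hyt hyf hω hδ hδ0 hz hS).elim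
  · have hxf' : x * f * x⁻¹ = f ∨ x * f * x⁻¹ = t := Or.inl (mul_inv_eq_iff_eq_mul.mpr hxf)
    obtain ⟨δ, hδ, hz⟩ := z_form C hxt hxf' hω
    have hcomm : ∀ a b, κ a * (rho X W x * κ b * rho X W x⁻¹) =
        rho X W x * κ b * rho X W x⁻¹ * κ a := by
      by_cases hδ0 : δ = 0
      · rw [hδ0, map_zero, zero_mul] at hz
        exact C.comm_of_omega hxt hxf' hω (C.add_zero_comm hz)
      · exact (k8 ω δ hω hδ hδ0 x hxN hxx hxt hxf hz hS).elim
    -- `y = x c` with `c ∈ C(t)`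
    obtain ⟨c, hc⟩ : ∃ c, c = x⁻¹ * y := ⟨_, rfl⟩
    have hct : c * t = t * c := by
      have e1 : y * t = t * f * y := mul_inv_eq_iff_eq_mul.mp hyt
      have e2 : x * t = t * f * x := mul_inv_eq_iff_eq_mul.mp hxt
      have e3 : x * (c * t) = x * (t * c) := by
        calc x * (c * t) = y * t := by rw [hc]; group
          _ = (t * f * x) * c := by rw [e1, hc]; group
          _ = x * (t * c) := by rw [← e2, mul_assoc]
      exact mul_left_cancel e3
    have hyc : y = x * c := by rw [hc]; group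
    intro a b
    obtain ⟨b', hb'⟩ := C.conj_kappa hct b
    have e4 : rho X W y * κ b * rho X W y⁻¹ = rho X W x * κ b' * rho X W x⁻¹ := by
      rw [hyc, mul_inv_rev, map_mul, map_mul]
      calc rho X W x * rho X W c * κ b * (rho X W c⁻¹ * rho X W x⁻¹) =
            rho X W x * (rho X W c * κ b) * rho X W c⁻¹ * rho X W x⁻¹ := by simp only [mul_assoc]
        _ = rho X W x * κ b' * (rho X W c * rho X W c⁻¹) * rho X W x⁻¹ := by
            rw [hb']; simp only [mul_assoc]
        _ = rho X W x * κ b' * rho X W x⁻¹ := by rw [rho_mul_inv, mul_one]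
    rw [e4]
    exact hcomm a b'

end XC

end Cfsg.Agent.StdL2.F
end

-- part: StdL2/FEightMat
section
/-!
# S1773, case (f): the matrices over `K₀[M]`, `M² = M + δ`
-/

set_option autoImplicit false
set_option linter.unusedSectionVars false

namespace Cfsg.Agent.StdL2.F.Eight

open Matrix

/-- `M` commutes with `F` and `f`, `t M t = M + 1` and `M² = M + δ` -/
structure MC {X W F : Type*} [Group X] [AddCommGroup W] [DistribMulAction X W] [Field F]
    (κ : F →+* AddMonoid.End W) (t f : X) (M : AddMonoid.End W) (δ : F) : Prop where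
  kap : ∀ a : F, κ a * M = M * κ a
  cf : XC.rho X W f * M = M * XC.rho X W f
  ct : XC.rho X W t * M = M * XC.rho X W t + XC.rho X W t
  sq : M * M = M + κ δ

section

variable {F : Type*} [Field F]

/-- the fixed field -/
abbrev K0 (σ : F ≃+* F) : Subfield F := RingHom.eqLocusField (σ : F →+* F) (RingHom.id F)

/-- the ring `K₀[M]`, `M² = M + δ` -/
abbrev S2 (σ : F ≃+* F) (δ : K0 σ) : Type _ := QuadraticAlgebra (K0 σ) δ 1

theorem mem_K0 {σ : F ≃+* F} {a : F} : a ∈ K0 σ ↔ σ a = a := Iff.rfl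

theorem fix_K0 {σ : F ≃+* F} (a : K0 σ) : σ (a : F) = a := mem_K0.mp a.2

end

variable {X W F : Type*} [Group X] [Finite X] [AddCommGroup W] [DistribMulAction X W] [Field F]
  [Finite F] {κ : F →+* AddMonoid.End W} {d : Fˣ →* X} {σ : F ≃+* F} {t f : X} {w₁ : W}
  {M : AddMonoid.End W} {δ : K0 σ}

/-- the action of `S2` on `W` -/
def jj (hM : MC κ t f M (δ : F)) : S2 σ δ →+* AddMonoid.End W where
  toFun s := κ (s.re : F) + κ (s.im : F) * M
  map_one' := by
    change κ ((1 : K0 σ) : F) + κ ((0 : K0 σ) : F) * M = 1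
    simp only [_root_.OneMemClass.coe_one, _root_.map_one, _root_.ZeroMemClass.coe_zero, _root_.map_zero, _root_.MulZeroClass.zero_mul, _root_.add_zero]
  map_zero' := by
    change κ ((0 : K0 σ) : F) + κ ((0 : K0 σ) : F) * M = 0
    simp only [_root_.ZeroMemClass.coe_zero, _root_.map_zero, _root_.MulZeroClass.zero_mul, _root_.add_zero]
  map_add' x y := by
    change κ ((x.re + y.re : K0 σ) : F) + κ ((x.im + y.im : K0 σ) : F) * M = _
    simp only [Subfield.coe_add, map_add, add_mul]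
    abel
  map_mul' x y := by
    rw [QuadraticAlgebra.re_mul, QuadraticAlgebra.im_mul]
    simp only [Subfield.coe_add, Subfield.coe_mul, one_mul, map_add, map_mul]
    have h1 : κ (x.im : F) * M * (κ (y.im : F) * M) = κ (x.im : F) * κ (y.im : F) * M +
        κ (δ : F) * κ (x.im : F) * κ (y.im : F) := by
      have h0 : κ (δ : F) * κ (x.im : F) * κ (y.im : F) = κ (x.im : F) * κ (y.im : F) * κ (δ : F) := by
        rw [← map_mul, ← map_mul, ← map_mul, ← map_mul]
        congr 1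
        ring
      calc κ (x.im : F) * M * (κ (y.im : F) * M) = κ (x.im : F) * (M * κ (y.im : F)) * M := by
            simp only [mul_assoc]
        _ = κ (x.im : F) * κ (y.im : F) * (M * M) := by rw [← hM.kap]; simp only [mul_assoc]
        _ = _ := by rw [hM.sq, mul_add, h0]
    have h2 : κ (x.im : F) * M * κ (y.re : F) = κ (x.im : F) * κ (y.re : F) * M := by
      rw [mul_assoc, ← hM.kap, mul_assoc]
    rw [add_mul (κ (x.re : F)), mul_add, mul_add, h1, h2, add_mul, add_mul]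
    simp only [mul_assoc]
    abel

theorem kadd (a b : F) (w : W) : κ (a + b) w = κ a w + κ b w := by rw [map_add]; rfl

theorem kmul (a b : F) (w : W) : κ (a * b) w = κ a (κ b w) := by rw [map_mul]; rfl

theorem jj_apply (hM : MC κ t f M (δ : F)) (s : S2 σ δ) : jj hM s = κ (s.re : F) + κ (s.im : F) * M := rfl

section

variable (C : XC κ d σ t f w₁) (hM : MC κ t f M (δ : F))

include C hM

/-- `M v₁ = w₁ + β v₁` -/
theorem M_v : ∃ β : F, σ β = β ∧ M (t • w₁ + w₁) = w₁ + κ β (t • w₁ + w₁) := by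
  obtain ⟨a, b, hab⟩ := C.span (M (t • w₁ + w₁))
  have tw := C.t_w
  have tv := C.t_v
  have fv := C.f_v
  have indep := C.indep
  generalize t • w₁ + w₁ = v at *
  have hf : κ a w₁ + κ b v = κ (σ a) w₁ + κ (σ b) v := by
    have h1 := DFunLike.congr_fun hM.cf v
    change f • M v = M (f • v) at h1
    rw [fv, hab, smul_add, C.f_smul_kappa, C.f_smul_kappa, C.fw, fv] at h1
    exact h1.symm
  have ht := DFunLike.congr_fun hM.ct v
  change t • M v = M (t • v) + t • v at ht
  rw [tv, hab, smul_add, C.t_smul_kappa, C.t_smul_kappa, tv, tw, map_add] at ht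
  have h2 : κ (a + 1) v = 0 := by
    rw [kadd, map_one]
    change κ a v + v = 0
    have h3 : κ a w₁ + κ a v + κ b v = κ a w₁ + κ b v + κ a v := by abel
    rw [h3] at ht
    rw [add_left_cancel ht]
    exact C.add_self_W _
  have h3 := indep 0 (a + 1) (by rw [h2]; simp)
  have ha : a = 1 := by
    have := eq_neg_of_add_eq_zero_left h3.2
    rwa [C.neg_F] at this
  subst ha
  simp only [map_one] at hf
  have h5 : κ b v = κ (σ b) v := add_left_cancel hf
  refine ⟨b, ?_, ?_⟩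
  · have h4 := indep 0 (b + σ b) (by
      rw [kadd, h5, C.add_self_W]
      simp)
    have := eq_neg_of_add_eq_zero_left h4.2
    rw [C.neg_F] at this
    exact this.symm
  · rw [hab, map_one]
    rfl

variable {ω : F} (hω : σ ω = ω + 1)

include hω

theorem spanS (w : W) : ∃ r s : S2 σ δ, w = jj hM r (t • w₁ + w₁) + jj hM s (κ ω (t • w₁ + w₁)) := by
  obtain ⟨β, hβ, hMv⟩ := M_v C hM
  obtain ⟨a, b, rfl⟩ := C.span w
  obtain ⟨a₀, a₁, ha₀, ha₁, ha⟩ := C.decomp hω a
  obtain ⟨b₀, b₁, hb₀, hb₁, hb⟩ := C.decomp hω (a * β + b)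
  refine ⟨⟨⟨b₀, hb₀⟩, ⟨a₀, ha₀⟩⟩, ⟨⟨b₁, hb₁⟩, ⟨a₁, ha₁⟩⟩, ?_⟩
  generalize t • w₁ + w₁ = v at *
  rw [jj_apply, jj_apply]
  change _ = κ b₀ v + κ a₀ (M v) + (κ b₁ (κ ω v) + κ a₁ (M (κ ω v)))
  have h1 : M (κ ω v) = κ ω (M v) := (DFunLike.congr_fun (hM.kap ω) v).symm
  rw [h1, ← kmul, ← kmul]
  have h4 : κ b₀ v + κ a₀ (M v) + (κ (b₁ * ω) v + κ (a₁ * ω) (M v)) =
      κ (b₀ + b₁ * ω) v + κ (a₀ + a₁ * ω) (M v) := by
    rw [kadd, kadd]
    abel
  rw [h4, ← ha, ← hb, hMv, map_add (κ a), kadd, kmul]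
  have h6 := C.add_self_W (κ a (κ β v))
  calc κ a w₁ + κ b v = κ a w₁ + κ b v + (κ a (κ β v) + κ a (κ β v)) := by rw [h6, add_zero]
    _ = _ := by abel

theorem indepS {r s : S2 σ δ} (h : jj hM r (t • w₁ + w₁) + jj hM s (κ ω (t • w₁ + w₁)) = 0) :
    r = 0 ∧ s = 0 := by
  obtain ⟨β, hβ, hMv⟩ := M_v C hM
  have indep := C.indep
  generalize t • w₁ + w₁ = v at *
  rw [jj_apply, jj_apply] at h
  change κ (r.re : F) v + κ (r.im : F) (M v) + (κ (s.re : F) (κ ω v) +
    κ (s.im : F) (M (κ ω v))) = 0 at h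
  have h1 : M (κ ω v) = κ ω (M v) := (DFunLike.congr_fun (hM.kap ω) v).symm
  rw [h1, ← kmul, ← kmul] at h
  have h4 : κ (r.re : F) v + κ (r.im : F) (M v) + (κ (s.re * ω) v +
      κ (s.im * ω) (M v)) = κ (r.re + s.re * ω) v + κ (r.im + s.im * ω) (M v) := by
    rw [kadd (r.re : F), kadd (r.im : F)]
    abel
  rw [h4, hMv, map_add (κ (r.im + s.im * ω))] at h
  have h5 : κ (r.im + s.im * ω) w₁ + κ ((r.re + s.re * ω) + (r.im + s.im * ω) * β) v = 0 := by
    rw [kadd (r.re + s.re * ω : F), kmul (r.im + s.im * ω : F), ← h]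
    abel
  obtain ⟨h6, h7⟩ := indep _ _ h5
  rw [h6, zero_mul, add_zero] at h7
  obtain ⟨h8, h9⟩ := C.decomp_unique hω (fix_K0 r.im) (fix_K0 s.im) h6
  obtain ⟨h10, h11⟩ := C.decomp_unique hω (fix_K0 r.re) (fix_K0 s.re) h7
  constructor
  · ext
    · exact h10
    · exact h8
  · ext
    · exact h11
    · exact h9

theorem uniqS {r s r' s' : S2 σ δ} (h : jj hM r (t • w₁ + w₁) + jj hM s (κ ω (t • w₁ + w₁)) =
    jj hM r' (t • w₁ + w₁) + jj hM s' (κ ω (t • w₁ + w₁))) : r = r' ∧ s = s' := by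
  have h1 : jj hM (r - r') (t • w₁ + w₁) + jj hM (s - s') (κ ω (t • w₁ + w₁)) = 0 := by
    rw [map_sub, map_sub]
    change (jj hM r (t • w₁ + w₁) - jj hM r' (t • w₁ + w₁)) + (jj hM s (κ ω (t • w₁ + w₁)) -
      jj hM s' (κ ω (t • w₁ + w₁))) = 0
    rw [← sub_eq_zero] at h
    rw [← h]
    abel
  obtain ⟨h2, h3⟩ := indepS C hM hω h1
  exact ⟨sub_eq_zero.mp h2, sub_eq_zero.mp h3⟩

theorem exists_coord (w : W) : ∃ p : S2 σ δ × S2 σ δ,
    w = jj hM p.1 (t • w₁ + w₁) + jj hM p.2 (κ ω (t • w₁ + w₁)) := by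
  obtain ⟨r, s, h⟩ := spanS C hM hω w
  exact ⟨(r, s), h⟩

end

/-- the elements commuting with `K₀` and `M` -/
def HM (X : Type*) {W F : Type*} [Group X] [AddCommGroup W] [DistribMulAction X W] [Field F]
    (κ : F →+* AddMonoid.End W) (σ : F ≃+* F) (M : AddMonoid.End W) : Subgroup X where
  carrier := {y | (∀ a, σ a = a → XC.rho X W y * κ a = κ a * XC.rho X W y) ∧
    XC.rho X W y * M = M * XC.rho X W y}
  one_mem' := by
    refine ⟨fun a _ => ?_, ?_⟩
    · rw [map_one, one_mul, mul_one]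
    · rw [map_one, one_mul, mul_one]
  mul_mem' := by
    rintro x y ⟨h1, h2⟩ ⟨h3, h4⟩
    refine ⟨fun a ha => ?_, ?_⟩
    · rw [map_mul, mul_assoc, h3 a ha, ← mul_assoc, h1 a ha, mul_assoc]
    · rw [map_mul, mul_assoc, h4, ← mul_assoc, h2, mul_assoc]
  inv_mem' := by
    rintro x ⟨h1, h2⟩
    have h0 : XC.rho X W x⁻¹ * XC.rho X W x = 1 := by rw [← map_mul, inv_mul_cancel, map_one]
    have h0' : XC.rho X W x * XC.rho X W x⁻¹ = 1 := by rw [← map_mul, mul_inv_cancel, map_one]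
    refine ⟨fun a ha => ?_, ?_⟩
    · calc XC.rho X W x⁻¹ * κ a = XC.rho X W x⁻¹ * (κ a * XC.rho X W x) * XC.rho X W x⁻¹ := by
            rw [mul_assoc, mul_assoc, h0', mul_one]
        _ = (XC.rho X W x⁻¹ * XC.rho X W x) * (κ a * XC.rho X W x⁻¹) := by
            rw [← h1 a ha]; simp only [mul_assoc]
        _ = _ := by rw [h0, one_mul]
    · calc XC.rho X W x⁻¹ * M = XC.rho X W x⁻¹ * (M * XC.rho X W x) * XC.rho X W x⁻¹ := by
            rw [mul_assoc, mul_assoc, h0', mul_one]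
        _ = (XC.rho X W x⁻¹ * XC.rho X W x) * (M * XC.rho X W x⁻¹) := by
            rw [← h2]; simp only [mul_assoc]
        _ = _ := by rw [h0, one_mul]

theorem mem_HM {y : X} : y ∈ HM X κ σ M ↔ (∀ a, σ a = a → XC.rho X W y * κ a = κ a * XC.rho X W y) ∧
    XC.rho X W y * M = M * XC.rho X W y := Iff.rfl

theorem smul_jj (hM : MC κ t f M (δ : F)) {y : X} (hy : y ∈ HM X κ σ M) (s : S2 σ δ) (w : W) :
    y • jj hM s w = jj hM s (y • w) := by
  obtain ⟨h1, h2⟩ := mem_HM.mp hy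
  have h3 : XC.rho X W y * jj hM s = jj hM s * XC.rho X W y := by
    rw [jj_apply, mul_add, add_mul, h1 _ (fix_K0 s.re), ← mul_assoc, h1 _ (fix_K0 s.im), mul_assoc, h2,
      mul_assoc]
  exact DFunLike.congr_fun h3 w

section

variable (C : XC κ d σ t f w₁) (hM : MC κ t f M (δ : F)) {ω : F} (hω : σ ω = ω + 1)

include C hω

/-- **the matrices over `K₀[M]`** -/
theorem exists_rep : ∃ φ : HM X κ σ M →* Matrix (Fin 2) (Fin 2) (S2 σ δ), ∀ y : HM X κ σ M,
    (y : X) • (t • w₁ + w₁) = jj hM (φ y 0 0) (t • w₁ + w₁) + jj hM (φ y 1 0) (κ ω (t • w₁ + w₁)) ∧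
    (y : X) • (κ ω (t • w₁ + w₁)) = jj hM (φ y 0 1) (t • w₁ + w₁) +
      jj hM (φ y 1 1) (κ ω (t • w₁ + w₁)) := by
  choose g hg using exists_coord C hM hω
  have uniq := @uniqS X W F _ _ _ _ _ _ κ d σ t f w₁ M δ C hM ω hω
  generalize t • w₁ + w₁ = v at *
  refine ⟨⟨⟨fun y => !![(g ((y : X) • v)).1, (g ((y : X) • κ ω v)).1;
    (g ((y : X) • v)).2, (g ((y : X) • κ ω v)).2], ?_⟩, ?_⟩, ?_⟩
  · have h1 := hg ((1 : X) • v)
    have h2 := hg ((1 : X) • κ ω v)
    rw [one_smul] at h1 h2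
    have h3 := uniq (r := 1) (s := 0) (r' := (g v).1) (s' := (g v).2) (by
      rw [← h1, map_one, map_zero]
      change v + 0 = v
      rw [add_zero])
    have h4 := uniq (r := 0) (s := 1) (r' := (g (κ ω v)).1) (s' := (g (κ ω v)).2) (by
      rw [← h2, map_one, map_zero]
      change 0 + κ ω v = κ ω v
      rw [zero_add])
    rw [OneMemClass.coe_one, one_smul, one_smul, ← h3.1, ← h3.2, ← h4.1, ← h4.2]
    exact Matrix.one_fin_two.symm
  · intro y z
    have key : ∀ w, (g (((y * z : HM X κ σ M) : X) • w)).1 =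
        (g ((y : X) • v)).1 * (g ((z : X) • w)).1 + (g ((y : X) • κ ω v)).1 * (g ((z : X) • w)).2 ∧
        (g (((y * z : HM X κ σ M) : X) • w)).2 =
        (g ((y : X) • v)).2 * (g ((z : X) • w)).1 + (g ((y : X) • κ ω v)).2 * (g ((z : X) • w)).2 := by
      intro w
      apply uniq
      rw [← hg, Subgroup.coe_mul, mul_smul]
      conv_lhs => rw [hg ((z : X) • w), smul_add, smul_jj hM y.2, smul_jj hM y.2, hg ((y : X) • v),
        hg ((y : X) • κ ω v)]
      generalize g ((z : X) • w) = p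
      generalize g ((y : X) • v) = q
      generalize g ((y : X) • κ ω v) = r
      rw [map_add, map_add, map_add, map_add, mul_comm q.1, mul_comm q.2, mul_comm r.1, mul_comm r.2,
        map_mul, map_mul, map_mul, map_mul]
      change jj hM p.1 (jj hM q.1 v) + jj hM p.1 (jj hM q.2 (κ ω v)) + (jj hM p.2 (jj hM r.1 v) +
        jj hM p.2 (jj hM r.2 (κ ω v))) = jj hM p.1 (jj hM q.1 v) + jj hM p.2 (jj hM r.1 v) +
          (jj hM p.1 (jj hM q.2 (κ ω v)) + jj hM p.2 (jj hM r.2 (κ ω v)))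
      abel
    simp only
    rw [(key v).1, (key v).2, (key (κ ω v)).1, (key (κ ω v)).2]
    rw [Matrix.mul_fin_two]
  · intro y
    exact ⟨hg _, hg _⟩

end

end Cfsg.Agent.StdL2.F.Eight
end

-- part: StdL2/FEightGrp
section
/-!
# S1773, case (f): the subgroup of determinant one of the commutant of `K₀[M]`
-/

set_option autoImplicit false
set_option linter.unusedSectionVars false

namespace Cfsg.Agent.StdL2.F.Eight

open Matrix

variable {X W F : Type*} [Group X] [Finite X] [AddCommGroup W] [DistribMulAction X W] [Field F]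
  [Finite F] {κ : F →+* AddMonoid.End W} {d : Fˣ →* X} {σ : F ≃+* F} {t f : X} {w₁ : W}
  {M : AddMonoid.End W} {δ : K0 σ}

section S2

theorem S2_add_self (h2 : (2 : F) = 0) (s : S2 σ δ) : s + s = 0 := by
  have h : ∀ a : K0 σ, a + a = 0 := by
    intro a
    apply Subtype.ext
    change (a : F) + (a : F) = 0
    rw [← two_mul, h2, zero_mul]
  ext
  · exact congrArg Subtype.val (h s.re)
  · exact congrArg Subtype.val (h s.im)

/-- `S2` is reduced -/
theorem S2_sq (h2 : (2 : F) = 0) {s : S2 σ δ} (h : s * s = 0) : s = 0 := by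
  have h3 : ∀ a : K0 σ, a + a = 0 := by
    intro a
    apply Subtype.ext
    change (a : F) + (a : F) = 0
    rw [← two_mul, h2, zero_mul]
  have h4 := congrArg QuadraticAlgebra.im h
  rw [QuadraticAlgebra.im_mul, QuadraticAlgebra.im_zero, mul_comm s.im s.re, h3, zero_add, one_mul] at h4
  have h5 : s.im = 0 := mul_self_eq_zero.mp h4
  have h6 := congrArg QuadraticAlgebra.re h
  rw [QuadraticAlgebra.re_mul, QuadraticAlgebra.re_zero, h5, mul_zero, add_zero] at h6
  have h7 : s.re = 0 := mul_self_eq_zero.mp h6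
  rw [QuadraticAlgebra.ext_iff]
  exact ⟨h7, h5⟩

theorem S2_sq_one (h2 : (2 : F) = 0) {s : S2 σ δ} (h : s * s = 1) : s = 1 := by
  have h1 : (s + 1) * (s + 1) = 0 := by
    have h3 := S2_add_self h2 s
    have h4 := S2_add_self h2 (1 : S2 σ δ)
    calc (s + 1) * (s + 1) = s * s + (s + s) + 1 := by ring
      _ = 0 := by rw [h, h3, add_zero, h4]
  have h5 := S2_sq h2 h1
  have h6 := S2_add_self h2 (1 : S2 σ δ)
  calc s = s + (1 + 1) := by rw [h6, add_zero]
    _ = (s + 1) + 1 := by ring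
    _ = 1 := by rw [h5, zero_add]

/-- the automorphism `m ↦ m + 1` -/
def tau (h2 : (2 : F) = 0) : S2 σ δ →+* S2 σ δ where
  toFun s := ⟨s.re + s.im, s.im⟩
  map_one' := by
    rw [QuadraticAlgebra.ext_iff]
    change (1 : K0 σ) + 0 = 1 ∧ (0 : K0 σ) = 0
    simp
  map_zero' := by
    rw [QuadraticAlgebra.ext_iff]
    change (0 : K0 σ) + 0 = 0 ∧ (0 : K0 σ) = 0
    simp
  map_add' x y := by
    rw [QuadraticAlgebra.ext_iff]
    change x.re + y.re + (x.im + y.im) = x.re + x.im + (y.re + y.im) ∧ x.im + y.im = x.im + y.im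
    exact ⟨by ring, rfl⟩
  map_mul' x y := by
    have h3 : ∀ a : K0 σ, a + a = 0 := by
      intro a
      apply Subtype.ext
      change (a : F) + (a : F) = 0
      rw [← two_mul, h2, zero_mul]
    rw [QuadraticAlgebra.ext_iff]
    simp only [QuadraticAlgebra.re_mul, QuadraticAlgebra.im_mul, one_mul]
    constructor
    · ring
    · have h4 := h3 (x.im * y.im)
      linear_combination -h4

end S2

section Mat

variable {S : Type*} [CommRing S]

theorem mat_conj {A : Matrix (Fin 2) (Fin 2) S} {a m : S}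
    (h : A * !![1, a; 0, 1] = !![1, m; 0, 1] * A) :
    m * A 1 0 = 0 ∧ A 0 0 * a = m * A 1 1 ∧ A 1 0 * a = 0 := by
  rw [Matrix.eta_fin_two A, Matrix.mul_fin_two, Matrix.mul_fin_two] at h
  have h00 := congrFun (congrFun h 0) 0
  have h01 := congrFun (congrFun h 0) 1
  have h11 := congrFun (congrFun h 1) 1
  simp only [Matrix.of_apply, Matrix.cons_val_zero, Matrix.cons_val_one, Matrix.cons_val', Matrix.empty_val',
    Matrix.cons_val_fin_one] at h00 h01 h11
  refine ⟨?_, ?_, ?_⟩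
  · linear_combination -h00
  · linear_combination h01
  · linear_combination h11

end Mat

section

variable (C : XC κ d σ t f w₁) (hM : MC κ t f M (δ : F))

include C hM

theorem f_mem : f ∈ HM X κ σ M := by
  refine ⟨fun a ha => ?_, hM.cf⟩
  rw [C.f_kappa, ha]

theorem d_mem (a : Fˣ) : d a ∈ HM X κ σ M := by
  refine ⟨fun b _ => ?_, ?_⟩
  · rw [C.rho_d, ← map_mul, mul_comm, map_mul]
  · rw [C.rho_d, hM.kap]

theorem t_not_mem : t ∉ HM X κ σ M := by
  intro h
  have h1 := (mem_HM.mp h).2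
  rw [hM.ct] at h1
  have h2 : XC.rho X W t = 0 := left_eq_add.mp h1.symm
  have h3 := C.rho_tt
  rw [h2, mul_zero] at h3
  have h4 := DFunLike.congr_fun h3 w₁
  change (0 : W) = w₁ at h4
  have h5 := C.indep 1 0 (by rw [← h4]; simp)
  exact one_ne_zero h5.1

theorem t_jj (s : S2 σ δ) (w : W) : t • jj hM s w = jj hM (tau C.two s) (t • w) := by
  have h3 : XC.rho X W t * jj hM s = jj hM (tau C.two s) * XC.rho X W t := by
    rw [jj_apply, jj_apply]
    change XC.rho X W t * (κ (s.re : F) + κ (s.im : F) * M) =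
      (κ ((s.re + s.im : K0 σ) : F) + κ (s.im : F) * M) * XC.rho X W t
    rw [Subfield.coe_add, map_add, mul_add, C.t_kappa, ← mul_assoc, C.t_kappa, mul_assoc, hM.ct,
      add_mul, add_mul, mul_add, mul_assoc]
    abel
  exact DFunLike.congr_fun h3 w

theorem tconj_mem {y : X} (hy : y ∈ HM X κ σ M) : t * y * t ∈ HM X κ σ M := by
  obtain ⟨h1, h2⟩ := mem_HM.mp hy
  refine ⟨fun a ha => ?_, ?_⟩
  · rw [map_mul, map_mul, mul_assoc, C.t_kappa, ← mul_assoc, mul_assoc (XC.rho X W t), h1 a ha,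
      ← mul_assoc, C.t_kappa]
    simp only [mul_assoc]
  · rw [map_mul, map_mul]
    have h3 : XC.rho X W t * M = (M + 1) * XC.rho X W t := by rw [hM.ct, add_mul, one_mul]
    have h4 : XC.rho X W t * (M + 1) = M * XC.rho X W t := by
      rw [mul_add, mul_one, hM.ct, add_assoc, C.add_self_R, add_zero]
    calc XC.rho X W t * XC.rho X W y * XC.rho X W t * M =
        XC.rho X W t * (XC.rho X W y * (XC.rho X W t * M)) := by simp only [mul_assoc]
      _ = XC.rho X W t * (XC.rho X W y * (M + 1)) * XC.rho X W t := by rw [h3]; simp only [mul_assoc]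
      _ = XC.rho X W t * ((M + 1) * XC.rho X W y) * XC.rho X W t := by
          rw [mul_add, h2, add_mul, mul_one, one_mul]
      _ = XC.rho X W t * (M + 1) * XC.rho X W y * XC.rho X W t := by simp only [mul_assoc]
      _ = _ := by rw [h4]; simp only [mul_assoc]

variable {ω : F} (hω : σ ω = ω + 1) {φ : HM X κ σ M →* Matrix (Fin 2) (Fin 2) (S2 σ δ)}
  (hφ : ∀ y : HM X κ σ M,
    (y : X) • (t • w₁ + w₁) = jj hM (φ y 0 0) (t • w₁ + w₁) + jj hM (φ y 1 0) (κ ω (t • w₁ + w₁)) ∧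
    (y : X) • (κ ω (t • w₁ + w₁)) = jj hM (φ y 0 1) (t • w₁ + w₁) +
      jj hM (φ y 1 1) (κ ω (t • w₁ + w₁)))

include hω hφ

theorem phi_inj : Function.Injective φ := by
  intro y z h
  have h1 : (y : X) • (t • w₁ + w₁) = (z : X) • (t • w₁ + w₁) := by rw [(hφ y).1, (hφ z).1, h]
  have h2 : (y : X) • (κ ω (t • w₁ + w₁)) = (z : X) • (κ ω (t • w₁ + w₁)) := by
    rw [(hφ y).2, (hφ z).2, h]
  apply Subtype.ext
  apply C.rho_inj
  ext w
  obtain ⟨r, s, hw⟩ := spanS C hM hω w
  change (y : X) • w = (z : X) • w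
  rw [hw, smul_add, smul_add, smul_jj hM y.2, smul_jj hM y.2, smul_jj hM z.2, smul_jj hM z.2, h1, h2]

/-- a matrix is determined by the action -/
theorem phi_eq {y : X} (hy : y ∈ HM X κ σ M) {a b c e : S2 σ δ}
    (h1 : y • (t • w₁ + w₁) = jj hM a (t • w₁ + w₁) + jj hM c (κ ω (t • w₁ + w₁)))
    (h2 : y • (κ ω (t • w₁ + w₁)) = jj hM b (t • w₁ + w₁) + jj hM e (κ ω (t • w₁ + w₁))) :
    φ ⟨y, hy⟩ = !![a, b; c, e] := by
  have h3 := (hφ ⟨y, hy⟩).1
  have h4 := (hφ ⟨y, hy⟩).2
  simp only at h3 h4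
  rw [h1] at h3
  rw [h2] at h4
  obtain ⟨h5, h6⟩ := uniqS C hM hω h3
  obtain ⟨h7, h8⟩ := uniqS C hM hω h4
  rw [Matrix.eta_fin_two (φ ⟨y, hy⟩), ← h5, ← h6, ← h7, ← h8]

theorem f_omega : f • κ ω (t • w₁ + w₁) = (t • w₁ + w₁) + κ ω (t • w₁ + w₁) := by
  rw [C.f_smul_kappa, hω, kadd, C.f_v, map_one, add_comm]
  rfl

theorem phi_f : φ ⟨f, f_mem C hM⟩ = !![1, 1; 0, 1] := by
  apply phi_eq C hM hω hφ
  · rw [C.f_v, map_one, map_zero]
    change t • w₁ + w₁ = (t • w₁ + w₁) + 0
    rw [add_zero]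
  · rw [f_omega C hM hω hφ, map_one]
    rfl

theorem det_d (a : Fˣ) : ((φ ⟨d a, d_mem C hM a⟩).det = 1 ↔ (a : F) * σ a = 1) := by
  obtain ⟨u, v, hu, hv, ha⟩ := C.decomp hω a
  have hc := C.omega_sq hω
  have h1 : φ ⟨d a, d_mem C hM a⟩ = !![⟨⟨u, hu⟩, 0⟩, ⟨⟨v * (ω * ω + ω), by
      rw [mem_K0, map_mul, hv, hc]⟩, 0⟩; ⟨⟨v, hv⟩, 0⟩, ⟨⟨u + v, by rw [mem_K0, map_add, hu, hv]⟩, 0⟩] := by
    apply phi_eq C hM hω hφ
    · rw [C.act, ha, kadd, kmul, jj_apply, jj_apply]
      simp only [_root_.map_add, _root_.ZeroMemClass.coe_zero, _root_.map_zero, _root_.MulZeroClass.zero_mul, _root_.add_zero]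
    · rw [C.act, ← kmul, jj_apply, jj_apply]
      simp only [ZeroMemClass.coe_zero, map_zero, zero_mul, add_zero]
      rw [← kmul, ← kadd]
      congr 2
      rw [ha]
      have := C.add_self_F (v * ω)
      linear_combination (-1 : F) * this
  have h3 : ((φ ⟨d a, d_mem C hM a⟩).det.re : F) = a * σ a := by
    rw [h1, Matrix.det_fin_two_of, QuadraticAlgebra.re_sub, QuadraticAlgebra.re_mul, QuadraticAlgebra.re_mul]
    simp only [Subfield.coe_sub, Subfield.coe_mul, mul_zero, add_zero]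
    rw [ha, map_add, map_mul, hu, hv, hω]
    have := C.add_self_F (v * v * (ω * ω + ω))
    have h5 := C.add_self_F (u * v * ω)
    linear_combination -this - h5
  have h4 : (φ ⟨d a, d_mem C hM a⟩).det.im = 0 := by
    rw [h1, Matrix.det_fin_two_of, QuadraticAlgebra.im_sub, QuadraticAlgebra.im_mul, QuadraticAlgebra.im_mul]
    simp
  rw [QuadraticAlgebra.ext_iff, h4]
  constructor
  · rintro ⟨h5, -⟩
    rw [← h3, h5]; rfl
  · intro h5
    refine ⟨?_, rfl⟩
    apply Subtype.ext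
    rw [h3, h5]; rfl

theorem phi_tconj (y : HM X κ σ M) : φ ⟨t * y * t, tconj_mem C hM y.2⟩ = (φ y).map (tau C.two) := by
  have h0 : (φ y).map (tau C.two) = !![tau C.two (φ y 0 0), tau C.two (φ y 0 1);
      tau C.two (φ y 1 0), tau C.two (φ y 1 1)] := by
    rw [Matrix.eta_fin_two ((φ y).map (tau C.two))]
    rfl
  rw [h0]
  apply phi_eq C hM hω hφ
  · rw [mul_smul, mul_smul, C.t_v, (hφ y).1, smul_add, t_jj C hM, t_jj C hM, C.t_smul_kappa, C.t_v]
  · rw [mul_smul, mul_smul, C.t_smul_kappa, C.t_v, (hφ y).2, smul_add, t_jj C hM, t_jj C hM,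
      C.t_smul_kappa, C.t_v]

omit hω hφ C in
/-- the subgroup of determinant one -/
theorem exists_H1 (φ : HM X κ σ M →* Matrix (Fin 2) (Fin 2) (S2 σ δ)) :
    ∃ H1 : Subgroup X, ∀ y, y ∈ H1 ↔ ∃ h : y ∈ HM X κ σ M, (φ ⟨y, h⟩).det = 1 := by
  refine ⟨(((Matrix.detMonoidHom).comp φ).ker).map (HM X κ σ M).subtype, fun y => ?_⟩
  rw [Subgroup.mem_map]
  constructor
  · rintro ⟨⟨z, hz⟩, h1, rfl⟩
    exact ⟨hz, h1⟩
  · rintro ⟨h1, h2⟩
    exact ⟨⟨y, h1⟩, h2, rfl⟩

/-- elements commuting with `f` -/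
theorem comm_f {y : X} (hy : y ∈ HM X κ σ M) (h : y * f = f * y) :
    ∃ a b : S2 σ δ, φ ⟨y, hy⟩ = !![a, b; 0, a] := by
  have h1 : φ ⟨y, hy⟩ * φ ⟨f, f_mem C hM⟩ = φ ⟨f, f_mem C hM⟩ * φ ⟨y, hy⟩ := by
    rw [← map_mul, ← map_mul]
    congr 1
    apply Subtype.ext
    exact h
  rw [phi_f C hM hω hφ] at h1
  obtain ⟨h2, h3, -⟩ := mat_conj h1
  refine ⟨φ ⟨y, hy⟩ 0 0, φ ⟨y, hy⟩ 0 1, ?_⟩
  rw [mul_one, one_mul] at h3
  rw [one_mul] at h2
  conv_lhs => rw [Matrix.eta_fin_two (φ ⟨y, hy⟩), h2, ← h3]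

/-- elements of determinant one commuting with `f` have square one -/
theorem sq_of_comm_f {y : X} (hy : y ∈ HM X κ σ M) (h : y * f = f * y) (hd : (φ ⟨y, hy⟩).det = 1) :
    y * y = 1 := by
  obtain ⟨a, b, hab⟩ := comm_f C hM hω hφ hy h
  rw [hab, Matrix.det_fin_two_of, mul_zero, sub_zero] at hd
  have h1 : φ ⟨y, hy⟩ * φ ⟨y, hy⟩ = 1 := by
    have h3 : a * b + b * a = 0 := by
      rw [mul_comm a b]; exact S2_add_self C.two _
    rw [hab, Matrix.mul_fin_two, Matrix.one_fin_two, h3, hd]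
    simp
  have h2 : (⟨y, hy⟩ : HM X κ σ M) * ⟨y, hy⟩ = 1 := by
    apply phi_inj C hM hω hφ
    rw [map_mul, h1, map_one]
  exact congrArg Subtype.val h2

/-- an involution commuting with `f` has determinant one, and the form of the matrix -/
theorem inv_comm_f {y : X} (hy : y ∈ HM X κ σ M) (h : y * f = f * y) (hyy : y * y = 1) :
    ∃ b : S2 σ δ, φ ⟨y, hy⟩ = !![1, b; 0, 1] := by
  obtain ⟨a, b, hab⟩ := comm_f C hM hω hφ hy h
  have h2 : (⟨y, hy⟩ : HM X κ σ M) * ⟨y, hy⟩ = 1 := Subtype.ext hyy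
  have h3 : φ ⟨y, hy⟩ * φ ⟨y, hy⟩ = 1 := by rw [← map_mul, h2, map_one]
  rw [hab, Matrix.mul_fin_two, Matrix.one_fin_two] at h3
  have h4 := congrFun (congrFun h3 0) 0
  simp only [Matrix.of_apply, Matrix.cons_val_zero, Matrix.cons_val', Matrix.empty_val',
    Matrix.cons_val_fin_one, mul_zero, add_zero] at h4
  have h5 := S2_sq_one C.two h4
  exact ⟨b, by rw [hab, h5]⟩

end

end Cfsg.Agent.StdL2.F.Eight
end

-- part: StdL2/FEightOrd
section
/-!
# An application of the Thompson order formula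

`G` is a finite group with a subgroup `H` of index 2, `t` an involution outside `H`, `U = {1, f, x, xf}`
a self-centralizing four-subgroup of `H` with `t` interchanging `x` and `xf`, and `C_H(t) = D⟨f⟩` with
`D` of odd order `m` inverted by `f`. If `f` and `x` are conjugate then `|H| = 4m(m+2)`.
-/

set_option autoImplicit false
set_option linter.unusedSectionVars false

open Subgroup

namespace Cfsg.Agent.StdL2.F.Ord

theorem card_two {G : Type*} [Group G] [Finite G] {A B : Subgroup G} (hAB : A ≤ B) {a : G} (ha : a ∈ B)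
    (haA : a ∉ A) (h : ∀ b ∈ B, b ∉ A → b * a ∈ A) : Nat.card B = 2 * Nat.card A := by
  have h1 : A.relIndex B = 2 := by
    rw [Subgroup.relIndex_eq_two_iff_exists_notMem_and]
    exact ⟨a, ha, haA, fun b hb => by
      by_cases hbA : b ∈ A
      · exact Or.inr hbA
      · exact Or.inl (h b hb hbA)⟩
  rw [← h1]
  have h2 := Subgroup.card_mul_index (A.subgroupOf B)
  rw [Nat.card_congr (Subgroup.subgroupOfEquivOfLe hAB).toEquiv] at h2
  rw [← h2, mul_comm]
  rfl

theorem conj_zp {G : Type*} [Group G] {u v : G} (hu : u * u = 1) (hv : v * v = 1) (k : ℤ) :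
    u * (u * v) ^ k * u⁻¹ = ((u * v) ^ k)⁻¹ := by
  have h1 : u * (u * v) * u⁻¹ = (u * v)⁻¹ := by
    rw [mul_inv_rev, inv_eq_of_mul_eq_one_left hu, inv_eq_of_mul_eq_one_left hv, ← mul_assoc, hu, one_mul]
  rw [← conj_zpow, h1, inv_zpow]

theorem conj_zp' {G : Type*} [Group G] {u v : G} (hu : u * u = 1) (hv : v * v = 1) (k : ℤ) :
    v * (u * v) ^ k * v⁻¹ = ((u * v) ^ k)⁻¹ := by
  have h1 : v * (u * v) * v⁻¹ = (u * v)⁻¹ := by
    rw [mul_inv_rev, inv_eq_of_mul_eq_one_left hu, inv_eq_of_mul_eq_one_left hv, mul_assoc, mul_assoc, hv, mul_one]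
  rw [← conj_zpow, h1, inv_zpow]

/-- if the involution `z` is a power of `uv` (`u`, `v` involutions) then it commutes with `u`, `v` -/
theorem comm_of_mem {G : Type*} [Group G] {u v z : G} (hu : u * u = 1) (hv : v * v = 1) (hz : z * z = 1)
    (h : z ∈ zpowers (u * v)) : u * z = z * u ∧ v * z = z * v := by
  obtain ⟨k, hk⟩ := Subgroup.mem_zpowers_iff.mp h
  have h1 := conj_zp hu hv k
  have h2 := conj_zp' hu hv k
  rw [hk, inv_eq_of_mul_eq_one_left hz] at h1 h2
  exact ⟨mul_inv_eq_iff_eq_mul.mp h1, mul_inv_eq_iff_eq_mul.mp h2⟩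

/-- an element of an odd order subgroup with square one is trivial -/
theorem eq_one_of_odd {G : Type*} [Group G] [Finite G] {D : Subgroup G} (hD : Odd (Nat.card D)) {g : G}
    (hg : g ∈ D) (h : g * g = 1) : g = 1 := by
  have h1 : orderOf g ∣ 2 := orderOf_dvd_of_pow_eq_one (by rw [pow_two, h])
  have h2 : orderOf g ∣ Nat.card D := by
    have := _root_.orderOf_dvd_natCard (⟨g, hg⟩ : D)
    rwa [← Subgroup.orderOf_coe] at this
  have h3 : orderOf g ∣ 1 := by
    have : Nat.Coprime 2 (Nat.card D) := (Nat.coprime_two_left).mpr hD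
    exact (Nat.dvd_gcd h1 h2).trans (by rw [this])
  exact orderOf_eq_one_iff.mp (Nat.dvd_one.mp h3)

section

variable {G : Type*} [Group G] [Finite G] {H D : Subgroup G} {t f x : G}
  (hn : ∀ g, ∀ h ∈ H, g * h * g⁻¹ ∈ H) (htH : t ∉ H) (hidx : ∀ g, g ∉ H → g * t ∈ H)
  (hfH : f ∈ H) (hxH : x ∈ H) (tt : t * t = 1) (ff : f * f = 1) (xx : x * x = 1)
  (tf : t * f = f * t) (xf : x * f = f * x) (xt : x * t = t * f * x) (hf1 : f ≠ 1)
  (cf : ∀ g ∈ H, g * f = f * g → g = 1 ∨ g = f ∨ g = x ∨ g = x * f)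

include tt xf xt

omit [Finite G] in
theorem txt : t * x * t = x * f := by
  have h2 : t * (x * t) = f * x := by
    rw [xt, ← mul_assoc, ← mul_assoc, tt, one_mul]
  rw [mul_assoc, h2, xf]

include xx

omit [Finite G] in
theorem tx_sq : t * x * (t * x) = f := by
  rw [← mul_assoc, txt tt xf xt, mul_assoc, ← xf, ← mul_assoc, xx, one_mul]

include ff hf1

omit [Finite G] in
theorem x_ne_one : x ≠ 1 := by
  intro h
  rw [h, one_mul, mul_one] at xt
  exact hf1 (mul_eq_left.mp xt.symm)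

omit [Finite G] in
theorem x_ne_f : x ≠ f := by
  intro h
  rw [h, mul_assoc, ff, mul_one] at xt
  exact hf1 (mul_eq_right.mp xt)

include hn htH hidx hfH hxH tf cf

theorem card_cf : Nat.card (centralizer ({f} : Set G)) = 8 := by
  have hx1 := x_ne_one tt ff xx xf xt hf1
  have hxf := x_ne_f tt ff xx xf xt hf1
  have h1 : Nat.card (centralizer ({f} : Set G)) = 2 * Nat.card (centralizer ({f} : Set G) ⊓ H : Subgroup G) := by
    apply card_two inf_le_left (a := t)
    · rw [mem_centralizer_singleton_iff]; exact tf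
    · exact fun h => htH h.2
    · intro b hb hbH
      have hb' : b ∉ H := fun h => hbH ⟨hb, h⟩
      exact ⟨mul_mem hb (mem_centralizer_singleton_iff.mpr tf), hidx b hb'⟩
  have h2 : Nat.card (centralizer ({f} : Set G) ⊓ H : Subgroup G) = 2 * Nat.card (zpowers f) := by
    have hfz : ∀ y, y ∈ zpowers f → y = 1 ∨ y = f := by
      intro y hy
      obtain ⟨k, rfl⟩ := Subgroup.mem_zpowers_iff.mp hy
      rcases Int.even_or_odd' k with ⟨c, rfl | rfl⟩
      · left; rw [zpow_mul, zpow_two, ff, one_zpow]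
      · right; rw [zpow_add, zpow_mul, zpow_two, ff, one_zpow, one_mul, zpow_one]
    apply card_two (a := x)
    · rw [zpowers_le]
      exact ⟨mem_centralizer_singleton_iff.mpr rfl, hfH⟩
    · exact ⟨mem_centralizer_singleton_iff.mpr xf, hxH⟩
    · intro h
      rcases hfz x h with h | h
      · exact hx1 h
      · exact hxf h
    · rintro b ⟨hb, hbH⟩ hbz
      rcases cf b hbH (mem_centralizer_singleton_iff.mp hb) with rfl | rfl | rfl | rfl
      · exact absurd (one_mem _) hbz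
      · exact absurd (mem_zpowers _) hbz
      · rw [xx]; exact one_mem _
      · rw [xf, mul_assoc, xx, mul_one]; exact mem_zpowers _
  rw [h1, h2, Nat.card_zpowers, orderOf_eq_prime (by rw [pow_two, ff]) hf1]

/-- an involution of `C(f)` outside `H` -/
theorem inv_cf {g : G} (hg : g * f = f * g) (gg : g * g = 1) (hgH : g ∉ H) : g = t ∨ g = f * t := by
  have h1 := txt tt xf xt
  have h3 : (g * t) * f = f * (g * t) := by rw [mul_assoc, tf, ← mul_assoc, hg, mul_assoc]
  have h2 : g = g * t * t := by rw [mul_assoc, tt, mul_one]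
  rcases cf (g * t) (hidx g hgH) h3 with h | h | h | h
  · left; rw [h2, h, one_mul]
  · right; rw [h2, h]
  · exfalso
    rw [h] at h2
    rw [h2] at gg
    apply hf1
    rw [← gg]
    have : x * t * (x * t) = x * (t * x * t) := by simp only [mul_assoc]
    rw [this, h1, ← mul_assoc, xx, one_mul]
  · exfalso
    rw [h] at h2
    rw [h2] at gg
    apply hf1
    rw [← gg]
    have : x * f * t * (x * f * t) = x * (f * (t * x * (f * t))) := by simp only [mul_assoc]
    rw [this, ← tf, ← mul_assoc (t * x) t f, h1, mul_assoc x f f, ff, mul_one, ← xf, ← mul_assoc, xx, one_mul]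

variable (h8 : ∀ S : Subgroup G, IsPGroup 2 S → Nat.card S ≤ 8)

include h8

/-- every involution is conjugate into `C(f)` -/
theorem exists_conj {g : G} (gg : g * g = 1) : ∃ c : G, (c * g * c⁻¹) * f = f * (c * g * c⁻¹) := by
  have hp : Fact (Nat.Prime 2) := ⟨Nat.prime_two⟩
  have hc := card_cf hn htH hidx hfH hxH tt ff xx tf xf xt hf1 cf
  have h1 : IsPGroup 2 (centralizer ({f} : Set G)) := IsPGroup.of_card (n := 3) (by rw [hc]; rfl)
  obtain ⟨P, hP⟩ := h1.exists_le_sylow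
  have hPe : (P : Subgroup G) = centralizer ({f} : Set G) := by
    symm
    apply Subgroup.eq_of_le_of_card_ge hP
    rw [hc]
    exact h8 P P.isPGroup'
  have h2 : IsPGroup 2 (zpowers g) := by
    rw [IsPGroup.iff_orderOf]
    rintro ⟨y, hy⟩
    obtain ⟨k, rfl⟩ := Subgroup.mem_zpowers_iff.mp hy
    have h4 : (⟨g ^ k, hy⟩ : zpowers g) ^ 2 = 1 := by
      apply Subtype.ext
      change (g ^ k) ^ 2 = 1
      rw [← zpow_natCast, ← zpow_mul, mul_comm, zpow_mul]
      rw [show (g ^ ((2 : ℕ) : ℤ)) = g ^ 2 from zpow_natCast g 2, pow_two, gg, one_zpow]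
    have h5 := orderOf_dvd_of_pow_eq_one h4
    obtain ⟨j, -, hj⟩ := (Nat.dvd_prime_pow Nat.prime_two).mp (show _ ∣ 2 ^ 1 from h5)
    exact ⟨j, hj⟩
  obtain ⟨Q, hQ⟩ := h2.exists_le_sylow
  obtain ⟨c, hc'⟩ := MulAction.exists_smul_eq G Q P
  refine ⟨c, ?_⟩
  have h3 : c * g * c⁻¹ ∈ (P : Subgroup G) := by
    rw [← hc', Sylow.coe_subgroup_smul]
    rw [Subgroup.mem_pointwise_smul_iff_inv_smul_mem]
    have : (MulAut.conj c)⁻¹ • (c * g * c⁻¹) = g := by
      rw [← map_inv, MulAut.smul_def, MulAut.conj_apply]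
      group
    rw [this]
    exact hQ (mem_zpowers g)
  rw [hPe] at h3
  exact mem_centralizer_singleton_iff.mp h3

/-- the classes of involutions -/
theorem isConj_t {g : G} (gg : g * g = 1) (hg : g ∉ H) : IsConj t g := by
  obtain ⟨c, hc⟩ := exists_conj hn htH hidx hfH hxH tt ff xx tf xf xt hf1 cf h8 gg
  have h1 : c * g * c⁻¹ * (c * g * c⁻¹) = 1 := by
    have : c * g * c⁻¹ * (c * g * c⁻¹) = c * (g * g) * c⁻¹ := by group
    rw [this, gg, mul_one, mul_inv_cancel]
  have h2 : c * g * c⁻¹ ∉ H := by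
    intro h
    apply hg
    have := hn c⁻¹ _ h
    have h3 : c⁻¹ * (c * g * c⁻¹) * c⁻¹⁻¹ = g := by group
    rwa [h3] at this
  have h4 : IsConj g (c * g * c⁻¹) := isConj_iff.mpr ⟨c, rfl⟩
  rcases inv_cf hn htH hidx hfH hxH tt ff xx tf xf xt hf1 cf hc h1 h2 with h | h
  · rw [h] at h4; exact h4.symm
  · rw [h] at h4
    refine IsConj.trans (isConj_iff.mpr ⟨x, ?_⟩) h4.symm
    rw [xt, mul_assoc, mul_inv_cancel, mul_one, tf]

theorem isConj_f (hfx : IsConj f x) {g : G} (gg : g * g = 1) (hg1 : g ≠ 1) (hg : g ∈ H) : IsConj f g := by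
  obtain ⟨c, hc⟩ := exists_conj hn htH hidx hfH hxH tt ff xx tf xf xt hf1 cf h8 gg
  have h2 : c * g * c⁻¹ ≠ 1 := by
    intro h
    apply hg1
    have : g = c⁻¹ * (c * g * c⁻¹) * c := by group
    rw [this, h]; group
  have h4 : IsConj g (c * g * c⁻¹) := isConj_iff.mpr ⟨c, rfl⟩
  rcases cf _ (hn c g hg) hc with h | h | h | h
  · exact absurd h h2
  · rw [h] at h4; exact h4.symm
  · rw [h] at h4; exact hfx.trans h4.symm
  · rw [h] at h4
    refine hfx.trans (IsConj.trans (isConj_iff.mpr ⟨t, ?_⟩) h4.symm)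
    rw [inv_eq_of_mul_eq_one_left tt]
    exact txt tt xf xt

variable (hDH : D ≤ H) (hDt : ∀ g ∈ D, g * t = t * g) (hDf : ∀ g ∈ D, f * g * f = g⁻¹)
  (hodd : Odd (Nat.card D)) (ct : ∀ g ∈ H, g * t = t * g → g ∈ D ∨ g * f ∈ D)

include hDH hDt hDf hodd ct

omit h8 in
theorem card_ct : Nat.card (centralizer ({t} : Set G)) = 4 * Nat.card D := by
  have h1 : Nat.card (centralizer ({t} : Set G)) = 2 * Nat.card (centralizer ({t} : Set G) ⊓ H : Subgroup G) := by
    apply card_two inf_le_left (a := t)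
    · rw [mem_centralizer_singleton_iff]
    · exact fun h => htH h.2
    · intro b hb hbH
      have hb' : b ∉ H := fun h => hbH ⟨hb, h⟩
      exact ⟨mul_mem hb (mem_centralizer_singleton_iff.mpr rfl), hidx b hb'⟩
  have hfD : f ∉ D := fun h => hf1 (eq_one_of_odd hodd h ff)
  have h2 : Nat.card (centralizer ({t} : Set G) ⊓ H : Subgroup G) = 2 * Nat.card D := by
    apply card_two (a := f)
    · intro g hg
      exact ⟨mem_centralizer_singleton_iff.mpr (hDt g hg), hDH hg⟩
    · exact ⟨mem_centralizer_singleton_iff.mpr tf.symm, hfH⟩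
    · exact hfD
    · rintro b ⟨hb, hbH⟩ hbD
      exact (ct b hbH (mem_centralizer_singleton_iff.mp hb)).resolve_left hbD
  rw [h1, h2]
  ring

theorem card_one (hfx : IsConj f x) :
    Nat.card {p : G × G // IsConj t p.1 ∧ IsConj f p.2 ∧ t ∈ zpowers (p.1 * p.2)} =
      Nat.card D * Nat.card D := by
  have hfD : f ∉ D := fun h => hf1 (eq_one_of_odd hodd h ff)
  have hsq : ∀ {a g : G}, a * a = 1 → IsConj a g → g * g = 1 := by
    intro a g ha h
    obtain ⟨c, rfl⟩ := isConj_iff.mp h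
    have : c * a * c⁻¹ * (c * a * c⁻¹) = c * (a * a) * c⁻¹ := by group
    rw [this, ha, mul_one, mul_inv_cancel]
  have h1 : ∀ g ∈ D, g * f * (g * f) = 1 := by
    intro g hg
    have : g * f * (g * f) = g * (f * g * f) := by simp only [mul_assoc]
    rw [this, hDf g hg, mul_inv_cancel]
  rw [← Nat.card_prod]
  symm
  refine Nat.card_congr (Equiv.ofBijective
    (fun p : D × D => ⟨(t * (p.1 * f), p.2 * f), ?_, ?_, ?_⟩) ⟨?_, ?_⟩)
  · obtain ⟨⟨y, hy⟩, ⟨z, hz⟩⟩ := p
    apply isConj_t hn htH hidx hfH hxH tt ff xx tf xf xt hf1 cf h8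
    · change t * (y * f) * (t * (y * f)) = 1
      have h2 : t * (y * f) = y * f * t := by rw [← mul_assoc, ← hDt y hy, mul_assoc, tf, ← mul_assoc]
      calc t * (y * f) * (t * (y * f)) = y * f * t * (t * (y * f)) := by rw [h2]
        _ = y * f * (t * t) * (y * f) := by simp only [mul_assoc]
        _ = 1 := by rw [tt, mul_one, h1 y hy]
    · intro h
      apply htH
      have h2 := mul_mem h (inv_mem (mul_mem (hDH hy) hfH))
      have h3 : t * (y * f) * (y * f)⁻¹ = t := by group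
      rwa [h3] at h2
  · obtain ⟨⟨y, hy⟩, ⟨z, hz⟩⟩ := p
    apply isConj_f hn htH hidx hfH hxH tt ff xx tf xf xt hf1 cf h8 hfx
    · exact h1 z hz
    · intro h
      apply hfD
      have : f = z⁻¹ := (inv_eq_of_mul_eq_one_right h).symm
      rw [this]; exact inv_mem hz
    · exact mul_mem (hDH hz) hfH
  · obtain ⟨⟨y, hy⟩, ⟨z, hz⟩⟩ := p
    change t ∈ zpowers (t * (y * f) * (z * f))
    have h2 : t * (y * f) * (z * f) = t * (y * z⁻¹) := by
      rw [← hDf z hz]; simp only [mul_assoc]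
    rw [h2]
    have hw : y * z⁻¹ ∈ D := mul_mem hy (inv_mem hz)
    have h3 : (t * (y * z⁻¹)) ^ (Nat.card D) = t := by
      rw [Commute.mul_pow (hDt _ hw).symm]
      have h4 : (y * z⁻¹) ^ Nat.card D = 1 := by
        have := pow_card_eq_one' (x := (⟨y * z⁻¹, hw⟩ : D))
        exact congrArg Subtype.val this
      obtain ⟨k, hk⟩ := hodd
      rw [h4, mul_one, hk, pow_add, pow_mul, pow_two, tt, one_pow, one_mul, pow_one]
    rw [Subgroup.mem_zpowers_iff]
    exact ⟨(Nat.card D : ℤ), by rw [zpow_natCast]; exact h3⟩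
  · rintro ⟨⟨y, hy⟩, ⟨z, hz⟩⟩ ⟨⟨y', hy'⟩, ⟨z', hz'⟩⟩ h
    simp only [Subtype.mk.injEq, Prod.mk.injEq] at h
    obtain ⟨h2, h3⟩ := h
    have h4 := mul_right_cancel h3
    have h5 := mul_right_cancel (mul_left_cancel h2)
    subst h4 h5
    rfl
  · rintro ⟨⟨u, v⟩, hu, hv, huv⟩
    simp only at hu hv huv
    have uu := hsq tt hu
    have vv := hsq ff hv
    have huH : u ∉ H := by
      obtain ⟨c, rfl⟩ := isConj_iff.mp hu
      intro h
      apply htH
      have := hn c⁻¹ _ h
      have h3 : c⁻¹ * (c * t * c⁻¹) * c⁻¹⁻¹ = t := by group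
      rwa [h3] at this
    have hvH : v ∈ H := by
      obtain ⟨c, rfl⟩ := isConj_iff.mp hv
      exact hn c f hfH
    have hv1 : v ≠ 1 := by
      intro h
      rw [h] at hv
      exact hf1 (isConj_one_left.mp hv)
    obtain ⟨hut, hvt⟩ := comm_of_mem uu vv tt huv
    have hvD : v * f ∈ D := by
      rcases ct v hvH hvt with h | h
      · exact absurd (eq_one_of_odd hodd h vv) hv1
      · exact h
    have hutH := hidx u huH
    have hut' : u * t * t = t * (u * t) := by rw [← mul_assoc, ← hut]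
    have huD : u * t * f ∈ D := by
      rcases ct (u * t) hutH hut' with h | h
      · exfalso
        have h2 : u * t * (u * t) = 1 := by
          have : u * t * (u * t) = u * (t * u) * t := by simp only [mul_assoc]
          rw [this, ← hut, ← mul_assoc, uu, one_mul, tt]
        have h3 := eq_one_of_odd hodd h h2
        have h4 : u = t := by
          rw [← mul_one u, ← tt, ← mul_assoc, h3, one_mul]
        subst h4
        obtain ⟨k, hk⟩ := Subgroup.mem_zpowers_iff.mp huv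
        rcases Int.even_or_odd' k with ⟨c, rfl | rfl⟩
        · rw [zpow_mul, zpow_two] at hk
          have h5 : u * v * (u * v) = 1 := by
            have : u * v * (u * v) = u * (v * u) * v := by simp only [mul_assoc]
            rw [this, hvt, ← mul_assoc, uu, one_mul, vv]
          rw [h5, one_zpow] at hk
          exact htH (hk ▸ one_mem _)
        · rw [zpow_add, zpow_mul, zpow_two] at hk
          have h5 : u * v * (u * v) = 1 := by
            have : u * v * (u * v) = u * (v * u) * v := by simp only [mul_assoc]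
            rw [this, hvt, ← mul_assoc, uu, one_mul, vv]
          rw [h5, one_zpow, one_mul, zpow_one] at hk
          exact hv1 (mul_eq_left.mp hk)
      · exact h
    refine ⟨⟨⟨u * t * f, huD⟩, ⟨v * f, hvD⟩⟩, ?_⟩
    apply Subtype.ext
    refine Prod.ext ?_ ?_
    · change t * (u * t * f * f) = u
      rw [mul_assoc (u * t), ff, mul_one, ← mul_assoc, ← hut, mul_assoc, tt, mul_one]
    · change v * f * f = v
      rw [mul_assoc, ff, mul_one]

omit hDH hDt hDf hodd ct in
theorem card_snd (hfx : IsConj f x) :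
    Nat.card {p : G × G // IsConj t p.1 ∧ IsConj f p.2 ∧ f ∈ zpowers (p.1 * p.2)} = 4 := by
  have hx1 := x_ne_one tt ff xx xf xt hf1
  have hxf := x_ne_f tt ff xx xf xt hf1
  have hsq : ∀ {a g : G}, a * a = 1 → IsConj a g → g * g = 1 := by
    intro a g ha h
    obtain ⟨c, rfl⟩ := isConj_iff.mp h
    have : c * a * c⁻¹ * (c * a * c⁻¹) = c * (a * a) * c⁻¹ := by group
    rw [this, ha, mul_one, mul_inv_cancel]
  have htx := txt tt xf xt
  have hftx : f * t * x * (f * t * x) = f := by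
    have h1 := tx_sq tt xx xf xt
    have h2 : f * t * x * (f * t * x) = f * f * (t * x * (t * x)) := by
      have h3 : t * x * f = f * (t * x) := by rw [mul_assoc, xf, ← mul_assoc, tf, mul_assoc]
      calc f * t * x * (f * t * x) = f * (t * x * f) * (t * x) := by simp only [mul_assoc]
        _ = _ := by rw [h3]; simp only [mul_assoc]
    rw [h2, ff, one_mul, h1]
  have hset : {p : G × G | IsConj t p.1 ∧ IsConj f p.2 ∧ f ∈ zpowers (p.1 * p.2)} =
      ({t, f * t} : Set G) ×ˢ ({x, x * f} : Set G) := by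
    ext ⟨u, v⟩
    simp only [Set.mem_setOf_eq, Set.mem_prod, Set.mem_insert_iff, Set.mem_singleton_iff]
    constructor
    · rintro ⟨hu, hv, huv⟩
      have uu := hsq tt hu
      have vv := hsq ff hv
      have huH : u ∉ H := by
        obtain ⟨c, rfl⟩ := isConj_iff.mp hu
        intro h
        apply htH
        have := hn c⁻¹ _ h
        have h3 : c⁻¹ * (c * t * c⁻¹) * c⁻¹⁻¹ = t := by group
        rwa [h3] at this
      have hvH : v ∈ H := by
        obtain ⟨c, rfl⟩ := isConj_iff.mp hv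
        exact hn c f hfH
      have hv1 : v ≠ 1 := by
        intro h
        rw [h] at hv
        exact hf1 (isConj_one_left.mp hv)
      obtain ⟨huf, hvf⟩ := comm_of_mem uu vv ff huv
      have hu' := inv_cf hn htH hidx hfH hxH tt ff xx tf xf xt hf1 cf huf uu huH
      refine ⟨hu', ?_⟩
      rcases cf v hvH hvf with h | h | h | h
      · exact absurd h hv1
      · exfalso
        rw [h] at huv
        have h5 : u * f * (u * f) = 1 := by
          have : u * f * (u * f) = u * (f * u) * f := by simp only [mul_assoc]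
          rw [this, ← huf, ← mul_assoc, uu, one_mul, ff]
        obtain ⟨k, hk⟩ := Subgroup.mem_zpowers_iff.mp huv
        rcases Int.even_or_odd' k with ⟨c, rfl | rfl⟩
        · rw [zpow_mul, zpow_two, h5, one_zpow] at hk
          exact hf1 hk.symm
        · rw [zpow_add, zpow_mul, zpow_two, h5, one_zpow, one_mul, zpow_one] at hk
          have h6 := mul_eq_right.mp hk
          exact huH (h6 ▸ one_mem _)
      · exact Or.inl h
      · exact Or.inr h
    · rintro ⟨hu, hv⟩
      have hfH' : f * t ∉ H := by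
        intro h
        apply htH
        have := mul_mem hfH h
        rwa [← mul_assoc, ff, one_mul] at this
      have hftft : f * t * (f * t) = 1 := by
        have : f * t * (f * t) = f * (t * f) * t := by simp only [mul_assoc]
        rw [this, tf, ← mul_assoc, ff, one_mul, tt]
      have hxfxf : x * f * (x * f) = 1 := by
        have : x * f * (x * f) = x * (f * x) * f := by simp only [mul_assoc]
        rw [this, ← xf, ← mul_assoc, xx, one_mul, ff]
      refine ⟨?_, ?_, ?_⟩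
      · rcases hu with rfl | rfl
        · exact IsConj.refl _
        · exact isConj_t hn htH hidx hfH hxH tt ff xx tf xf xt hf1 cf h8 hftft hfH'
      · rcases hv with rfl | rfl
        · exact hfx
        · refine isConj_f hn htH hidx hfH hxH tt ff xx tf xf xt hf1 cf h8 hfx hxfxf ?_ (mul_mem hxH hfH)
          intro h
          apply hxf
          have := (inv_eq_of_mul_eq_one_right h)
          rw [← this]
          exact (inv_eq_of_mul_eq_one_left xx).symm
      · rw [Subgroup.mem_zpowers_iff]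
        refine ⟨2, ?_⟩
        rw [zpow_two]
        have h1 := tx_sq tt xx xf xt
        have h3 : t * x * f = f * (t * x) := by rw [mul_assoc, xf, ← mul_assoc, tf, mul_assoc]
        rcases hu with rfl | rfl <;> rcases hv with rfl | rfl
        · exact h1
        · calc u * (x * f) * (u * (x * f)) = u * x * f * (u * x) * f := by simp only [mul_assoc]
            _ = f * (u * x * (u * x)) * f := by rw [h3]; simp only [mul_assoc]
            _ = f := by rw [h1, ff, one_mul]
        · exact hftx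
        · calc f * t * (x * f) * (f * t * (x * f)) = f * t * x * (f * f) * t * x * f := by simp only [mul_assoc]
            _ = f * (t * x * (t * x)) * f := by rw [ff, mul_one]; simp only [mul_assoc]
            _ = f := by rw [h1, ff, one_mul]
  have h1 : Nat.card {p : G × G // IsConj t p.1 ∧ IsConj f p.2 ∧ f ∈ zpowers (p.1 * p.2)} =
      Set.ncard {p : G × G | IsConj t p.1 ∧ IsConj f p.2 ∧ f ∈ zpowers (p.1 * p.2)} := rfl
  rw [h1, hset, Set.ncard_prod, Set.ncard_pair, Set.ncard_pair]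
  · intro h
    exact hf1 (mul_eq_left.mp h.symm)
  · intro h
    exact hf1 (mul_eq_right.mp h.symm)

/-- **the order of `H`** -/
theorem card_eq (hfx : IsConj f x) : Nat.card H = 4 * Nat.card D * (Nat.card D + 2) := by
  have h1 : Nat.card G = 2 * Nat.card H := by
    have : Nat.card (⊤ : Subgroup G) = 2 * Nat.card H :=
      card_two le_top (mem_top t) htH (fun b _ hb => hidx b hb)
    rwa [Subgroup.card_top] at this
  have ht2 : orderOf t = 2 := orderOf_eq_prime (by rw [pow_two, tt]) (fun h => htH (h ▸ one_mem _))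
  have hf2 : orderOf f = 2 := orderOf_eq_prime (by rw [pow_two, ff]) hf1
  have h2 := Cfsg.Agent.S0213.result t f ht2 hf2 (by
    intro h
    apply htH
    obtain ⟨c, hc⟩ := isConj_iff.mp h.symm
    rw [← hc]
    exact hn c f hfH) (by
    intro g hg
    have gg : g * g = 1 := by rw [← pow_two, ← hg, pow_orderOf_eq_one]
    have hg1 : g ≠ 1 := by
      intro h; rw [h, orderOf_one] at hg; omega
    by_cases hgH : g ∈ H
    · exact Or.inr (isConj_f hn htH hidx hfH hxH tt ff xx tf xf xt hf1 cf h8 hfx gg hg1 hgH)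
    · exact Or.inl (isConj_t hn htH hidx hfH hxH tt ff xx tf xf xt hf1 cf h8 gg hgH))
  rw [card_one hn htH hidx hfH hxH tt ff xx tf xf xt hf1 cf h8 hDH hDt hDf hodd ct hfx,
    card_snd hn htH hidx hfH hxH tt ff xx tf xf xt hf1 cf h8 hfx,
    card_cf hn htH hidx hfH hxH tt ff xx tf xf xt hf1 cf,
    card_ct hn htH hidx hfH hxH tt ff xx tf xf xt hf1 cf hDH hDt hDf hodd ct, h1] at h2
  have h3 : 2 * Nat.card H = 2 * (4 * Nat.card D * (Nat.card D + 2)) := by
    rw [h2]; ring
  exact Nat.eq_of_mul_eq_mul_left (by norm_num) h3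

end

end Cfsg.Agent.StdL2.F.Ord
end

-- part: StdL2/FEightFin
section
/-!
# S1773, case (f): the subgroups `H₁`, `G₁ = H₁⟨t⟩`
-/

set_option autoImplicit false
set_option linter.unusedSectionVars false

namespace Cfsg.Agent.StdL2.F.Eight

open Matrix Subgroup

/-! ### pure group theory -/

section Grp

variable {X : Type*} [Group X] [Finite X] {H1 : Subgroup X} {t f x : X}
  (tt : t * t = 1) (tH : ∀ y ∈ H1, t * y * t ∈ H1) (htH : t ∉ H1)

include tt tH in
theorem exists_G1 : ∃ G1 : Subgroup X, ∀ y, y ∈ G1 ↔ (y ∈ H1 ∨ y * t ∈ H1) := by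
  have h1 : ∀ y, t * (t * y) = y := fun y => by rw [← mul_assoc, tt, one_mul]
  refine ⟨{ carrier := {y | y ∈ H1 ∨ y * t ∈ H1}, one_mem' := Or.inl (one_mem _),
            mul_mem' := ?_, inv_mem' := ?_ }, fun y => Iff.rfl⟩
  · rintro y z (hy | hy) (hz | hz)
    · exact Or.inl (mul_mem hy hz)
    · right; rw [mul_assoc]; exact mul_mem hy hz
    · right
      have := mul_mem hy (tH z hz)
      have h2 : y * t * (t * z * t) = y * z * t := by
        simp only [mul_assoc]; rw [h1]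
      rwa [h2] at this
    · left
      have := mul_mem hy (tH (z * t) hz)
      have h2 : y * t * (t * (z * t) * t) = y * z := by
        simp only [mul_assoc]; rw [h1, tt, mul_one]
      rwa [h2] at this
  · rintro y (hy | hy)
    · exact Or.inl (inv_mem hy)
    · right
      have := tH _ (inv_mem hy)
      have h2 : t * (y * t)⁻¹ * t = y⁻¹ * t := by
        rw [_root_.mul_inv_rev, ← mul_assoc, mul_inv_cancel, one_mul]
      rwa [h2] at this

variable {G1 : Subgroup X} (hG : ∀ y, y ∈ G1 ↔ (y ∈ H1 ∨ y * t ∈ H1))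

include tt tH hG

theorem G1_conj : ∀ g ∈ G1, ∀ h ∈ H1, g * h * g⁻¹ ∈ H1 := by
  intro g hg h hh
  rcases (hG g).mp hg with hg | hg
  · exact mul_mem (mul_mem hg hh) (inv_mem hg)
  · have := mul_mem (mul_mem hg (tH h hh)) (inv_mem hg)
    have h2 : g * t * (t * h * t) * (g * t)⁻¹ = g * h * g⁻¹ := by
      have h1 : ∀ y, t * (t * y) = y := fun y => by rw [← mul_assoc, tt, one_mul]
      rw [_root_.mul_inv_rev, inv_eq_of_mul_eq_one_left tt]
      simp only [mul_assoc]
      rw [h1, h1]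
    rwa [h2] at this

include htH

theorem card_G1 : Nat.card G1 = 2 * Nat.card H1 := by
  apply Ord.card_two (a := t)
  · intro y hy; exact (hG y).mpr (Or.inl hy)
  · exact (hG t).mpr (Or.inr (by rw [tt]; exact one_mem _))
  · exact htH
  · intro b hb hbH
    exact ((hG b).mp hb).resolve_left hbH

variable (hfH : f ∈ H1) (hxH : x ∈ H1) (ff : f * f = 1) (xx : x * x = 1)
  (tf : t * f = f * t) (xf : x * f = f * x) (xt : x * t = t * f * x) (hf1 : f ≠ 1)
  (sq : ∀ y ∈ H1, y * f = f * y → y * y = 1)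
  (h8 : ∀ S : Subgroup X, S ≤ G1 → IsPGroup 2 S → Nat.card S ≤ 8)

include hfH hxH ff xx tf xf xt hf1 sq h8

/-- `C_{H₁}(f)` has order at most four -/
theorem card_E_le : Nat.card (centralizer ({f} : Set X) ⊓ H1 : Subgroup X) ≤ 4 := by
  have htG : t ∈ G1 := (hG t).mpr (Or.inr (by rw [tt]; exact one_mem _))
  have hle : H1 ≤ G1 := fun y hy => (hG y).mpr (Or.inl hy)
  have h1 : Nat.card (centralizer ({f} : Set X) ⊓ G1 : Subgroup X) =
      2 * Nat.card (centralizer ({f} : Set X) ⊓ H1 : Subgroup X) := by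
    apply Ord.card_two (a := t)
    · exact inf_le_inf le_rfl hle
    · exact ⟨mem_centralizer_singleton_iff.mpr tf, htG⟩
    · exact fun h => htH h.2
    · rintro b ⟨hb, hbG⟩ hbH
      refine ⟨mul_mem hb (mem_centralizer_singleton_iff.mpr tf), ?_⟩
      exact ((hG b).mp hbG).resolve_left (fun h => hbH ⟨hb, h⟩)
  have h2 : IsPGroup 2 (centralizer ({f} : Set X) ⊓ G1 : Subgroup X) := by
    rintro ⟨y, hy, hyG⟩
    have hyf : y * f = f * y := mem_centralizer_singleton_iff.mp hy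
    refine ⟨2, ?_⟩
    apply Subtype.ext
    change y ^ 4 = 1
    rcases (hG y).mp hyG with h | h
    · have := sq y h hyf
      rw [show 4 = 2 * 2 from rfl, pow_mul, pow_two y, this, one_pow]
    · have h3 : y * y ∈ H1 := by
        have := mul_mem h (tH _ h)
        have h4 : y * t * (t * (y * t) * t) = y * y := by
          have h1 : ∀ y, t * (t * y) = y := fun y => by rw [← mul_assoc, tt, one_mul]
          simp only [mul_assoc]; rw [h1, tt, mul_one]
        rwa [h4] at this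
      have h4 : y * y * f = f * (y * y) := by rw [mul_assoc, hyf, ← mul_assoc, hyf, mul_assoc]
      have := sq _ h3 h4
      rw [show 4 = 2 * 2 from rfl, pow_mul, pow_two y, pow_two, this]
  have h3 := h8 _ inf_le_right h2
  omega

theorem cf : ∀ g ∈ H1, g * f = f * g → g = 1 ∨ g = f ∨ g = x ∨ g = x * f := by
  classical
  intro g hg hgf
  by_contra hne
  simp only [not_or] at hne
  obtain ⟨n1, n2, n3, n4⟩ : g ≠ 1 ∧ g ≠ f ∧ g ≠ x ∧ g ≠ x * f := hne
  have hx1 := Ord.x_ne_one tt ff xx xf xt hf1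
  have hxf := Ord.x_ne_f tt ff xx xf xt hf1
  have hxf1 : x * f ≠ 1 := by
    intro h
    apply hxf
    rw [← inv_eq_of_mul_eq_one_right h, inv_eq_of_mul_eq_one_left xx]
  have h4 := card_E_le tt tH htH hG hfH hxH ff xx tf xf xt hf1 sq h8
  have h5 : (({1, f, x, x * f, g} : Finset X) : Set X) ⊆
      ((centralizer ({f} : Set X) ⊓ H1 : Subgroup X) : Set X) := by
    intro y hy
    simp only [Finset.coe_insert, Finset.coe_singleton, Set.mem_insert_iff, Set.mem_singleton_iff] at hy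
    rcases hy with rfl | rfl | rfl | rfl | rfl
    · exact one_mem _
    · exact ⟨mem_centralizer_singleton_iff.mpr rfl, hfH⟩
    · exact ⟨mem_centralizer_singleton_iff.mpr xf, hxH⟩
    · exact ⟨mul_mem (mem_centralizer_singleton_iff.mpr xf) (mem_centralizer_singleton_iff.mpr rfl),
        mul_mem hxH hfH⟩
    · exact ⟨mem_centralizer_singleton_iff.mpr hgf, hg⟩
  have h6 := Set.ncard_le_ncard h5 (Set.toFinite _)
  rw [Set.ncard_coe_finset] at h6
  have h7 : Finset.card ({1, f, x, x * f, g} : Finset X) = 5 := by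
    rw [Finset.card_insert_of_notMem, Finset.card_insert_of_notMem, Finset.card_insert_of_notMem,
      Finset.card_insert_of_notMem, Finset.card_singleton]
    · simpa using n4.symm
    · simp only [Finset.mem_insert, Finset.mem_singleton, not_or]
      exact ⟨fun h => hf1 (left_eq_mul.mp h), n3.symm⟩
    · simp only [Finset.mem_insert, Finset.mem_singleton, not_or]
      exact ⟨hxf.symm, fun h => hx1 (right_eq_mul.mp h), n2.symm⟩
    · simp only [Finset.mem_insert, Finset.mem_singleton, not_or]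
      exact ⟨hf1.symm, hx1.symm, hxf1.symm, n1.symm⟩
  rw [h7] at h6
  have h8 : Set.ncard ((centralizer ({f} : Set X) ⊓ H1 : Subgroup X) : Set X) =
      Nat.card (centralizer ({f} : Set X) ⊓ H1 : Subgroup X) := rfl
  omega

/-- `C_{H₁}(f)` has order four -/
theorem card_E : Nat.card (centralizer ({f} : Set X) ⊓ H1 : Subgroup X) = 4 := by
  have hx1 := Ord.x_ne_one tt ff xx xf xt hf1
  have hxf := Ord.x_ne_f tt ff xx xf xt hf1
  have h1 : Nat.card (centralizer ({f} : Set X) ⊓ H1 : Subgroup X) = 2 * Nat.card (zpowers f) := by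
    have hfz : ∀ y, y ∈ zpowers f → y = 1 ∨ y = f := by
      intro y hy
      obtain ⟨k, rfl⟩ := Subgroup.mem_zpowers_iff.mp hy
      rcases Int.even_or_odd' k with ⟨c, rfl | rfl⟩
      · left; rw [_root_.zpow_mul, zpow_two, ff, _root_.one_zpow]
      · right; rw [_root_.zpow_add, _root_.zpow_mul, zpow_two, ff, _root_.one_zpow, one_mul, zpow_one]
    apply Ord.card_two (a := x)
    · rw [zpowers_le]
      exact ⟨mem_centralizer_singleton_iff.mpr rfl, hfH⟩
    · exact ⟨mem_centralizer_singleton_iff.mpr xf, hxH⟩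
    · intro h
      rcases hfz x h with h | h
      · exact hx1 h
      · exact hxf h
    · rintro b ⟨hb, hbH⟩ hbz
      rcases cf tt tH htH hG hfH hxH ff xx tf xf xt hf1 sq h8 b hbH (mem_centralizer_singleton_iff.mp hb)
        with rfl | rfl | rfl | rfl
      · exact absurd (one_mem _) hbz
      · exact absurd (mem_zpowers _) hbz
      · rw [xx]; exact one_mem _
      · rw [xf, mul_assoc, xx, mul_one]; exact mem_zpowers _
  rw [h1, Nat.card_zpowers, orderOf_eq_prime (by rw [pow_two, ff]) hf1]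

/-- the Sylow 2-subgroup of `H₁` -/
theorem exists_P : ∃ P : Sylow 2 H1, ∀ y : H1, y ∈ P ↔ (y : X) * f = f * y := by
  have hp : Fact (Nat.Prime 2) := ⟨Nat.prime_two⟩
  set! E : Subgroup X := centralizer ({f} : Set X) ⊓ H1 with hE
  have hE4 := card_E tt tH htH hG hfH hxH ff xx tf xf xt hf1 sq h8
  have hmemE : ∀ y ∈ H1, (y ∈ E ↔ y * f = f * y) := fun y hy =>
    ⟨fun h => mem_centralizer_singleton_iff.mp h.1, fun h => ⟨mem_centralizer_singleton_iff.mpr h, hy⟩⟩
  have hEc : Nat.card (E.subgroupOf H1) = 4 := by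
    rw [Nat.card_congr (Subgroup.subgroupOfEquivOfLe (inf_le_right : E ≤ H1)).toEquiv]
    exact hE4
  have hE2 : IsPGroup 2 (E.subgroupOf H1) := IsPGroup.of_card (n := 2) (by rw [hEc]; rfl)
  obtain ⟨P, hP⟩ := hE2.exists_le_sylow
  have hcard : Nat.card P ≤ 4 := by
    -- a Sylow 2-subgroup of `G1`
    have hle : H1 ≤ G1 := fun y hy => (hG y).mpr (Or.inl hy)
    have h1 := P.card_eq_multiplicity
    have h2 := card_G1 tt tH htH hG
    have h3 : Nat.card (default : Sylow 2 G1) ≤ 8 := by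
      have := h8 (((default : Sylow 2 G1) : Subgroup G1).map G1.subtype)
        (Subgroup.map_subtype_le _) ((default : Sylow 2 G1).isPGroup'.map _)
      rwa [Nat.card_congr (Subgroup.equivMapOfInjective _ G1.subtype G1.subtype_injective).symm.toEquiv]
        at this
    rw [(default : Sylow 2 G1).card_eq_multiplicity, h2, Nat.factorization_mul (by norm_num) Nat.card_pos.ne'] at h3
    rw [h1]
    simp only [Finsupp.coe_add, Pi.add_apply, Nat.prime_two.factorization_self] at h3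
    rw [pow_add, pow_one] at h3
    omega
  have hPe : E.subgroupOf H1 = P := by
    apply Subgroup.eq_of_le_of_card_ge hP
    rw [hEc]; exact hcard
  refine ⟨P, fun y => ?_⟩
  rw [← hmemE y y.2, ← Subgroup.mem_subgroupOf]
  change y ∈ (P : Subgroup H1) ↔ _
  rw [← hPe]

/-- fusion or a normal complement -/
theorem fusion : (∃ h ∈ H1, h * f * h⁻¹ = x) ∨ (∃ H0 : Subgroup X, H0 ≤ H1 ∧ Odd (Nat.card H0) ∧
    ∀ y ∈ H1, Odd (orderOf y) → y ∈ H0) := by
  have hp : Fact (Nat.Prime 2) := ⟨Nat.prime_two⟩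
  obtain ⟨P, hP⟩ := exists_P tt tH htH hG hfH hxH ff xx tf xf xt hf1 sq h8
  have hcf := cf tt tH htH hG hfH hxH ff xx tf xf xt hf1 sq h8
  by_cases hN : normalizer (P : Subgroup H1) ≤ centralizer (P : Set H1)
  · right
    refine ⟨(MonoidHom.transferSylow P hN).ker.map H1.subtype, Subgroup.map_subtype_le _, ?_, ?_⟩
    · rw [Nat.card_congr (Subgroup.equivMapOfInjective _ H1.subtype H1.subtype_injective).symm.toEquiv]
      rw [← Nat.not_even_iff_odd, even_iff_two_dvd]
      exact MonoidHom.not_dvd_card_ker_transferSylow P hN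
    · intro y hy hodd
      refine ⟨⟨y, hy⟩, ?_, rfl⟩
      change MonoidHom.transferSylow P hN ⟨y, hy⟩ = 1
      set z := MonoidHom.transferSylow P hN ⟨y, hy⟩ with hz
      have h1 : orderOf z ∣ orderOf y := by
        have h0 := orderOf_map_dvd (MonoidHom.transferSylow P hN) ⟨y, hy⟩
        rwa [← Subgroup.orderOf_coe (⟨y, hy⟩ : H1)] at h0
      obtain ⟨k, hk⟩ := (IsPGroup.iff_orderOf.mp P.isPGroup') z
      rw [hk] at h1
      rcases Nat.eq_zero_or_pos k with h0 | h0
      · rw [h0, pow_zero] at hk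
        exact orderOf_eq_one_iff.mp hk
      · exfalso
        have h2 : 2 ∣ orderOf y := (dvd_pow_self 2 h0.ne').trans h1
        rw [← Nat.not_even_iff_odd, even_iff_two_dvd] at hodd
        exact hodd h2
  · left
    rw [SetLike.not_le_iff_exists] at hN
    obtain ⟨g, hg, hgc⟩ := hN
    rw [Subgroup.mem_normalizer_iff] at hg
    have hfP : (⟨f, hfH⟩ : H1) ∈ P := (hP _).mpr rfl
    have h1 : (⟨f, hfH⟩ : H1) ∈ (P : Subgroup H1) := hfP
    rw [hg] at h1
    have h2 : (g : X) * f * (g : X)⁻¹ * f = f * ((g : X) * f * (g : X)⁻¹) := (hP _).mp h1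
    have h3 : (g : X) * f * (g : X)⁻¹ ∈ H1 := mul_mem (mul_mem g.2 hfH) (inv_mem g.2)
    have hP2 : ∀ y ∈ H1, y * f = f * y → ∀ z ∈ H1, z * f = f * z → y * z = z * y := by
      intro y hy hyf z hz hzf
      have h4 := sq y hy hyf
      have h5 := sq z hz hzf
      have h6 := sq (y * z) (mul_mem hy hz) (by rw [mul_assoc, hzf, ← mul_assoc, hyf, mul_assoc])
      have h7 : y * z = (y * z)⁻¹ := (inv_eq_of_mul_eq_one_left h6).symm
      rw [_root_.mul_inv_rev, inv_eq_of_mul_eq_one_left h4, inv_eq_of_mul_eq_one_left h5] at h7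
      exact h7
    rcases hcf _ h3 h2 with h | h | h | h
    · exfalso
      apply hf1
      have : f = (g : X)⁻¹ * ((g : X) * f * (g : X)⁻¹) * g := by group
      rw [this, h]; group
    · exfalso
      apply hgc
      rw [Subgroup.mem_centralizer_iff]
      intro y hy
      have hy' : (y : X) * f = f * y := (hP y).mp hy
      have hg' : (g : X) * f = f * g := by
        rw [mul_inv_eq_iff_eq_mul] at h
        exact h
      exact Subtype.ext (hP2 y y.2 hy' g g.2 hg')
    · exact ⟨g, g.2, h⟩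
    · refine ⟨t * g * t, tH g g.2, ?_⟩
      have hti := inv_eq_of_mul_eq_one_left tt
      rw [_root_.mul_inv_rev, _root_.mul_inv_rev, hti]
      calc t * g * t * f * (t * ((g : X)⁻¹ * t)) = t * (g * (t * f * t) * (g : X)⁻¹) * t := by
            simp only [mul_assoc]
        _ = t * (x * f) * t := by rw [tf, mul_assoc f t t, tt, mul_one, h]
        _ = t * x * t * f := by
            rw [mul_assoc t x t]
            rw [show t * (x * f) * t = t * (x * (f * t)) by simp only [mul_assoc], ← tf]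
            simp only [mul_assoc]
        _ = x := by rw [Ord.txt tt xf xt, mul_assoc, ff, mul_one]

end Grp

variable {X W F : Type*} [Group X] [Finite X] [AddCommGroup W] [DistribMulAction X W] [Field F]
  [Finite F] {κ : F →+* AddMonoid.End W} {d : Fˣ →* X} {σ : F ≃+* F} {t f : X} {w₁ : W}
  {M : AddMonoid.End W} {δ : K0 σ}

section

variable (C : XC κ d σ t f w₁) (hM : MC κ t f M (δ : F)) {ω : F} (hω : σ ω = ω + 1)
  {φ : HM X κ σ M →* Matrix (Fin 2) (Fin 2) (S2 σ δ)}
  (hφ : ∀ y : HM X κ σ M,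
    (y : X) • (t • w₁ + w₁) = jj hM (φ y 0 0) (t • w₁ + w₁) + jj hM (φ y 1 0) (κ ω (t • w₁ + w₁)) ∧
    (y : X) • (κ ω (t • w₁ + w₁)) = jj hM (φ y 0 1) (t • w₁ + w₁) +
      jj hM (φ y 1 1) (κ ω (t • w₁ + w₁)))

include C hM hω hφ

/-- fusion implies `δ = 1` -/
theorem delta_eq_one {x h : X} (hxM : x ∈ HM X κ σ M)
    (hx : φ ⟨x, hxM⟩ = !![1, ⟨0, 1⟩; 0, 1]) (hhM : h ∈ HM X κ σ M) (hdet : (φ ⟨h, hhM⟩).det = 1)
    (h1 : h * f = x * h) (h2 : h * x = f * h ∨ h * x = x * f * h) : δ = 1 := by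
  have e1 : φ ⟨h, hhM⟩ * φ ⟨f, f_mem C hM⟩ = φ ⟨x, hxM⟩ * φ ⟨h, hhM⟩ := by
    rw [← map_mul, ← map_mul]; congr 1; exact Subtype.ext h1
  rw [phi_f C hM hω hφ, hx] at e1
  obtain ⟨-, e2, e3⟩ := mat_conj e1
  rw [mul_one] at e2 e3
  generalize hA : φ ⟨h, hhM⟩ = A at *
  rw [Matrix.det_fin_two, e3, mul_zero, sub_zero, e2] at hdet
  have key : ∀ c : S2 σ δ, A 0 0 * ⟨0, 1⟩ = c * A 1 1 → (⟨0, 1⟩ : S2 σ δ) * ⟨0, 1⟩ = c := by
    intro c hc
    rw [e2] at hc
    have h3 : (⟨0, 1⟩ : S2 σ δ) * ⟨0, 1⟩ * (⟨0, 1⟩ * A 1 1 * A 1 1) = c * (⟨0, 1⟩ * A 1 1 * A 1 1) := by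
      calc (⟨0, 1⟩ : S2 σ δ) * ⟨0, 1⟩ * (⟨0, 1⟩ * A 1 1 * A 1 1) =
          (⟨0, 1⟩ * A 1 1 * ⟨0, 1⟩) * (⟨0, 1⟩ * A 1 1) := by ring
        _ = c * A 1 1 * (⟨0, 1⟩ * A 1 1) := by rw [hc]
        _ = _ := by ring
    rwa [hdet, mul_one, mul_one] at h3
  rcases h2 with h2 | h2
  · exfalso
    have e4 : φ ⟨h, hhM⟩ * φ ⟨x, hxM⟩ = φ ⟨f, f_mem C hM⟩ * φ ⟨h, hhM⟩ := by
      rw [← map_mul, ← map_mul]; congr 1; exact Subtype.ext h2
    rw [phi_f C hM hω hφ, hx, hA] at e4
    obtain ⟨-, e5, -⟩ := mat_conj e4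
    have e6 := key 1 e5
    have e7 := congrArg QuadraticAlgebra.im e6
    rw [QuadraticAlgebra.im_mul] at e7
    change (0 : K0 σ) * 1 + 1 * 0 + 1 * 1 * 1 = 0 at e7
    simp at e7
  · have e4 : φ ⟨h, hhM⟩ * φ ⟨x, hxM⟩ = φ ⟨x, hxM⟩ * φ ⟨f, f_mem C hM⟩ * φ ⟨h, hhM⟩ := by
      rw [← map_mul, ← map_mul, ← map_mul]; congr 1; exact Subtype.ext h2
    have e8 : (!![1, ⟨0, 1⟩; 0, 1] : Matrix (Fin 2) (Fin 2) (S2 σ δ)) * !![1, 1; 0, 1] =
        !![1, 1 + ⟨0, 1⟩; 0, 1] := by
      rw [Matrix.mul_fin_two]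
      simp only [_root_.mul_one, _root_.MulZeroClass.mul_zero, _root_.add_zero, _root_.zero_add]
    rw [phi_f C hM hω hφ, hx, hA, e8] at e4
    obtain ⟨-, e5, -⟩ := mat_conj e4
    have e6 := key _ e5
    have e7 := congrArg QuadraticAlgebra.re e6
    rw [QuadraticAlgebra.re_mul] at e7
    change (0 : K0 σ) * 0 + δ * 1 * 1 = 1 + 0 at e7
    simpa only [_root_.MulZeroClass.mul_zero, _root_.mul_one, _root_.zero_add, _root_.add_zero] using e7

/-- the centralizer of `t` -/
theorem comm_t {g : X} (hg : g ∈ HM X κ σ M) (hgt : g * t = t * g) :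
    (∃ a, g = d a) ∨ ∃ a, g * f = d a := by
  have hω0 : ω ≠ 0 := by
    rintro rfl
    rw [map_zero, zero_add] at hω
    exact zero_ne_one hω
  obtain ⟨b, hb⟩ := C.normD g hgt (Units.mk0 ω hω0)
  have hb' : XC.rho X W g * κ ω = κ (b : F) * XC.rho X W g := by
    have := congrArg (XC.rho X W) hb
    rwa [map_mul, map_mul, C.rho_d, C.rho_d] at this
  obtain ⟨h1, h2⟩ := mem_HM.mp hg
  -- `b` is a root of the same polynomial
  have h3 : κ ((b : F) * b + b) = κ (ω * ω + ω) := by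
    have e1 : XC.rho X W g * κ (ω * ω + ω) = κ ((b : F) * b + b) * XC.rho X W g := by
      rw [map_add, map_mul, mul_add, ← mul_assoc, hb', mul_assoc, hb', map_add, map_mul, add_mul,
        mul_assoc]
    rw [h1 _ (C.omega_sq hω)] at e1
    have e2 : XC.rho X W g * XC.rho X W g⁻¹ = 1 := by rw [← map_mul, mul_inv_cancel, map_one]
    calc κ ((b : F) * b + b) = κ ((b : F) * b + b) * (XC.rho X W g * XC.rho X W g⁻¹) := by rw [e2, mul_one]
      _ = κ (ω * ω + ω) * (XC.rho X W g * XC.rho X W g⁻¹) := by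
          rw [← mul_assoc, ← e1, mul_assoc]
      _ = _ := by rw [e2, mul_one]
  have h4 : (b : F) * b + b = ω * ω + ω := C.kappa_injective h3
  have h5 : ((b : F) + ω) * (b + (ω + 1)) = 0 := by
    have := C.add_self_F ((b : F) * ω)
    have h6 := C.add_self_F (ω * ω + ω)
    linear_combination h4 + this + h6
  -- elements of `d(F)` in `H`
  have key : ∀ y ∈ HM X κ σ M, y * t = t * y → (∀ a, y * d a = d a * y) → ∃ a, y = d a := by
    intro y hy hyt hyd
    obtain ⟨a, ha | ha⟩ := C.centD y hyt hyd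
    · exact ⟨a, ha⟩
    · exfalso
      apply t_not_mem C hM
      have : t = y * (d a)⁻¹ := by rw [ha, mul_inv_cancel_right]
      rw [this]
      exact mul_mem hy (inv_mem (d_mem C hM a))
  rcases mul_eq_zero.mp h5 with h6 | h6
  · left
    have hbω : (b : F) = ω := by
      have := eq_neg_of_add_eq_zero_left h6
      rwa [C.neg_F] at this
    rw [hbω] at hb'
    apply key g hg hgt
    intro a
    apply C.rho_inj
    rw [map_mul, map_mul, C.rho_d]
    obtain ⟨u, v, hu, hv, ha⟩ := C.decomp hω (a : F)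
    rw [ha, map_add, map_mul, mul_add, add_mul, h1 u hu, ← mul_assoc, h1 v hv, mul_assoc, hb', mul_assoc]
  · right
    have hbω : (b : F) = ω + 1 := by
      have := eq_neg_of_add_eq_zero_left h6
      rwa [C.neg_F] at this
    rw [hbω] at hb'
    apply key (g * f) (mul_mem hg (f_mem C hM))
    · rw [mul_assoc, ← C.tf, ← mul_assoc, hgt, mul_assoc]
    intro a
    apply C.rho_inj
    obtain ⟨u, v, hu, hv, ha⟩ := C.decomp hω (a : F)
    have e1 : XC.rho X W g * κ (σ ω) = κ ω * XC.rho X W g := by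
      have e3 : XC.rho X W g * κ (ω + 1) = κ (ω + 1) * XC.rho X W g + XC.rho X W g := by
        rw [map_add, mul_add, hb', map_one, mul_one, map_add, map_one]
      rw [hω, e3, map_add, map_one, add_mul, one_mul, add_assoc, C.add_self_R, add_zero]
    have e2 : XC.rho X W g * κ (σ a) = κ a * XC.rho X W g := by
      rw [ha, map_add, map_mul, hu, hv, map_add, map_mul, mul_add, map_add, map_mul, add_mul, h1 u hu,
        ← mul_assoc, h1 v hv, mul_assoc, e1, mul_assoc]
    calc XC.rho X W (g * f * d a) = XC.rho X W g * (XC.rho X W f * κ a) := by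
          rw [map_mul, map_mul, C.rho_d, mul_assoc]
      _ = κ a * XC.rho X W g * XC.rho X W f := by rw [C.f_kappa, ← mul_assoc, e2]
      _ = XC.rho X W (d a * (g * f)) := by rw [map_mul, map_mul, C.rho_d, mul_assoc]

end

end Cfsg.Agent.StdL2.F.Eight
end

-- part: StdL2/FEightCard
section
/-!
# S1773, case (f): orders
-/

set_option autoImplicit false
set_option linter.unusedSectionVars false

namespace Cfsg.Agent.StdL2.F.Eight

open Matrix

section

variable {X W F : Type*} [Group X] [Finite X] [AddCommGroup W] [DistribMulAction X W] [Field F]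
  [Finite F] {κ : F →+* AddMonoid.End W} {d : Fˣ →* X} {σ : F ≃+* F} {t f : X} {w₁ : W}
  (C : XC κ d σ t f w₁) {ω : F} (hω : σ ω = ω + 1)

include C

theorem four_le : 4 ≤ Nat.card (K0 σ) := C.four

include hω in
theorem card_F : Nat.card F = Nat.card (K0 σ) ^ 2 := by
  rw [pow_two, ← Nat.card_prod]
  symm
  refine Nat.card_congr (Equiv.ofBijective (fun p : K0 σ × K0 σ => (p.1 : F) + p.2 * ω) ⟨?_, ?_⟩)
  · rintro ⟨a, b⟩ ⟨a', b'⟩ h
    simp only at h
    have h1 := C.decomp_unique hω (u := (a : F) - a') (v := (b : F) - b')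
      (by rw [map_sub, fix_K0, fix_K0]) (by rw [map_sub, fix_K0, fix_K0])
      (by linear_combination h)
    exact Prod.ext (Subtype.ext (sub_eq_zero.mp h1.1)) (Subtype.ext (sub_eq_zero.mp h1.2))
  · intro a
    obtain ⟨u, v, hu, hv, ha⟩ := C.decomp hω a
    exact ⟨(⟨u, hu⟩, ⟨v, hv⟩), ha.symm⟩

theorem exists_pow : ∃ k : ℕ, Nat.card (K0 σ) = 2 ^ k := by
  have : Fintype (K0 σ) := Fintype.ofFinite _
  have : CharP (K0 σ) 2 := CharTwo.of_one_ne_zero_of_two_eq_zero one_ne_zero (by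
    apply Subtype.ext
    exact C.two)
  obtain ⟨n, -, hn⟩ := FiniteField.card (K0 σ) 2
  exact ⟨n, by rw [Nat.card_eq_fintype_card]; exact hn⟩

/-- the norm -/
def nrm (σ : F ≃+* F) : Fˣ →* Fˣ where
  toFun a := a * Units.map (σ : F →* F) a
  map_one' := by simp
  map_mul' a b := by
    rw [map_mul]
    exact mul_mul_mul_comm _ _ _ _

theorem mem_ker {a : Fˣ} : a ∈ (nrm σ).ker ↔ (a : F) * σ a = 1 := by
  rw [MonoidHom.mem_ker, Units.ext_iff]
  rfl

include hω in
theorem card_ker : Nat.card (nrm σ).ker = Nat.card (K0 σ) + 1 := by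
  classical
  have : Fintype F := Fintype.ofFinite F
  have : CharP F 2 := CharTwo.of_one_ne_zero_of_two_eq_zero one_ne_zero C.two
  have h1 : Nat.card (nrm σ).range = Nat.card (K0 σ) - 1 := by
    rw [← Nat.card_units]
    refine Nat.card_congr (Equiv.ofBijective (fun y : (nrm σ).range =>
      Units.mk0 (⟨((y : Fˣ) : F), ?_⟩ : K0 σ) ?_) ⟨?_, ?_⟩)
    · obtain ⟨a, ha⟩ := y.2
      rw [mem_K0, ← ha]
      change σ ((a : F) * σ a) = a * σ a
      rw [map_mul, C.sig, mul_comm]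
    · intro h
      exact (y : Fˣ).ne_zero (congrArg Subtype.val h)
    · rintro ⟨y, hy⟩ ⟨z, hz⟩ h
      have h2 := congrArg (fun u : (K0 σ)ˣ => ((u : K0 σ) : F)) h
      simp only [Units.val_mk0] at h2
      exact Subtype.ext (Units.ext h2)
    · intro u
      have hu : σ ((u : K0 σ) : F) = (u : K0 σ) := fix_K0 _
      have hu0 : ((u : K0 σ) : F) ≠ 0 := fun h => u.ne_zero (Subtype.ext h)
      obtain ⟨s, hs⟩ := (bijective_frobenius F 2).2 ((u : K0 σ) : F)
      rw [frobenius_def, pow_two] at hs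
      have hs0 : s ≠ 0 := by rintro rfl; exact hu0 (by rw [← hs, mul_zero])
      have hss : σ s = s := by
        have h3 : σ s * σ s = s * s := by rw [← map_mul, hs, hu]
        have h4 : (σ s + s) * (σ s + s) = 0 := by
          have := C.add_self_F (σ s * s)
          have h5 := C.add_self_F (s * s)
          linear_combination h3 + this + h5
        have h5 := eq_neg_of_add_eq_zero_left (mul_self_eq_zero.mp h4)
        rwa [C.neg_F] at h5
      refine ⟨⟨nrm σ (Units.mk0 s hs0), ⟨_, rfl⟩⟩, ?_⟩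
      apply Units.ext
      apply Subtype.ext
      change s * σ s = _
      rw [hss, hs]
  have h2 := Subgroup.card_mul_index (nrm σ).ker
  rw [Subgroup.index_ker, h1, Nat.card_units, card_F C hω] at h2
  have h3 := four_le C
  obtain ⟨q, hq⟩ : ∃ q, Nat.card (K0 σ) = q + 1 := ⟨Nat.card (K0 σ) - 1, by omega⟩
  rw [hq] at h2 h3 ⊢
  have h4 : (q + 1) ^ 2 - 1 = (q + 1 + 1) * q := by
    have : (q + 1) ^ 2 = (q + 1 + 1) * q + 1 := by ring
    omega
  rw [h4, Nat.add_sub_cancel] at h2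
  exact Nat.eq_of_mul_eq_mul_right (by omega) h2

theorem exists_mu (hF : Nat.card F = Nat.card (K0 σ) ^ 2) : ∃ μ : F, μ * μ = μ + 1 := by
  have : Fintype F := Fintype.ofFinite F
  obtain ⟨k, hk⟩ := exists_pow C
  have h1 : 3 ∣ Nat.card Fˣ := by
    rw [Nat.card_units, hF, hk, ← pow_mul, mul_comm, pow_mul]
    have : (2 ^ 2) ^ k % 3 = 1 := by
      rw [Nat.pow_mod]; simp
    omega
  have : Fact (Nat.Prime 3) := ⟨Nat.prime_three⟩
  obtain ⟨a, ha⟩ := exists_prime_orderOf_dvd_card' 3 h1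
  refine ⟨a, ?_⟩
  have h2 : (a : F) ^ 3 = 1 := by
    have := pow_orderOf_eq_one a
    rw [ha] at this
    rw [← Units.val_pow_eq_pow_val, this, Units.val_one]
  have h3 : (a : F) ≠ 1 := by
    intro h
    have : a = 1 := Units.ext h
    rw [this, orderOf_one] at ha
    omega
  have h4 : ((a : F) + 1) * (a * a + a + 1) = 0 := by
    have h5 := C.add_self_F ((a : F) * a)
    have h6 := C.add_self_F (a : F)
    have h7 := C.add_self_F (1 : F)
    linear_combination h2 + h5 + h6 + h7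
  rcases mul_eq_zero.mp h4 with h5 | h5
  · exfalso
    apply h3
    have := eq_neg_of_add_eq_zero_left h5
    rwa [C.neg_F] at this
  · have h6 := C.add_self_F (a : F)
    have h7 := C.add_self_F (1 : F)
    linear_combination h5 - h6 - h7

/-- the ring homomorphisms `m ↦ μ` -/
def ev {μ : F} (hμ : μ * μ = μ + 1) : S2 σ 1 →+* F where
  toFun s := s.re + s.im * μ
  map_one' := by
    change ((1 : K0 σ) : F) + ((0 : K0 σ) : F) * μ = 1
    simp only [_root_.OneMemClass.coe_one, _root_.ZeroMemClass.coe_zero, _root_.MulZeroClass.zero_mul, _root_.add_zero]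
  map_zero' := by
    change ((0 : K0 σ) : F) + ((0 : K0 σ) : F) * μ = 0
    simp only [_root_.ZeroMemClass.coe_zero, _root_.MulZeroClass.zero_mul, _root_.add_zero]
  map_add' x y := by
    change ((x.re + y.re : K0 σ) : F) + ((x.im + y.im : K0 σ) : F) * μ = _
    rw [Subfield.coe_add, Subfield.coe_add]
    ring
  map_mul' x y := by
    rw [QuadraticAlgebra.re_mul, QuadraticAlgebra.im_mul]
    simp only [Subfield.coe_add, Subfield.coe_mul, one_mul]
    linear_combination -(x.im : F) * y.im * hμ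

omit C in
theorem ev_apply {μ : F} (hμ : μ * μ = μ + 1) (s : S2 σ 1) : ev hμ s = s.re + s.im * μ := rfl

/-- order of subgroups of `GL(2, K₀[m])` -/
theorem card_dvd (hF : Nat.card F = Nat.card (K0 σ) ^ 2) {H : Type*} [Group H] [Finite H]
    (φ : H →* Matrix (Fin 2) (Fin 2) (S2 σ 1)) (hφ : Function.Injective φ) :
    Nat.card H ∣ (Nat.card (GL (Fin 2) F)) * (Nat.card (GL (Fin 2) F)) := by
  obtain ⟨μ, hμ⟩ := exists_mu C hF
  have hμ' : (μ + 1) * (μ + 1) = (μ + 1) + 1 := by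
    have := C.add_self_F μ
    linear_combination hμ + this
  let ψ : H →* GL (Fin 2) F × GL (Fin 2) F :=
    MonoidHom.prod (MonoidHom.toHomUnits (((ev hμ).mapMatrix : Matrix (Fin 2) (Fin 2) (S2 σ 1) →+*
      Matrix (Fin 2) (Fin 2) F).toMonoidHom.comp φ))
      (MonoidHom.toHomUnits (((ev hμ').mapMatrix : Matrix (Fin 2) (Fin 2) (S2 σ 1) →+*
      Matrix (Fin 2) (Fin 2) F).toMonoidHom.comp φ))
  have hψ : Function.Injective ψ := by
    intro y z h
    apply hφ
    have h1 := congrArg (fun u : GL (Fin 2) F × GL (Fin 2) F => ((u.1 : GL (Fin 2) F) : Matrix (Fin 2) (Fin 2) F)) h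
    have h2 := congrArg (fun u : GL (Fin 2) F × GL (Fin 2) F => ((u.2 : GL (Fin 2) F) : Matrix (Fin 2) (Fin 2) F)) h
    change (ev hμ).mapMatrix (φ y) = (ev hμ).mapMatrix (φ z) at h1
    change (ev hμ').mapMatrix (φ y) = (ev hμ').mapMatrix (φ z) at h2
    refine Matrix.ext fun i j => ?_
    have h3 := congrFun (congrFun h1 i) j
    have h4 := congrFun (congrFun h2 i) j
    rw [RingHom.mapMatrix_apply, RingHom.mapMatrix_apply, Matrix.map_apply, Matrix.map_apply,
      ev_apply, ev_apply] at h3 h4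
    have h5 : ((φ y i j).im : F) = (φ z i j).im := by linear_combination h4 - h3
    rw [QuadraticAlgebra.ext_iff]
    refine ⟨Subtype.ext ?_, Subtype.ext h5⟩
    rw [h5] at h3
    exact add_right_cancel h3
  have h1 := Subgroup.card_dvd_of_injective ψ hψ
  rwa [Nat.card_prod] at h1

end

/-- the numbers do not fit -/
theorem numeric {Q k : ℕ} (hQ : Q = 2 ^ k) (h4 : 4 ≤ Q)
    (h : 4 * (Q + 1) * (Q + 1 + 2) ∣ (((Q ^ 2) ^ 2 - 1) * ((Q ^ 2) ^ 2 - Q ^ 2)) *
      (((Q ^ 2) ^ 2 - 1) * ((Q ^ 2) ^ 2 - Q ^ 2))) : False := by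
  have h1 : (Q + 3 : ℕ) ∣ (((Q ^ 2) ^ 2 - 1) * ((Q ^ 2) ^ 2 - Q ^ 2)) *
      (((Q ^ 2) ^ 2 - 1) * ((Q ^ 2) ^ 2 - Q ^ 2)) := (Dvd.intro_left _ rfl).trans h
  have hp : 1 ≤ (Q ^ 2) ^ 2 := Nat.one_le_pow _ _ (Nat.pos_of_ne_zero (by positivity))
  have hp2 : Q ^ 2 ≤ (Q ^ 2) ^ 2 := Nat.le_self_pow (by norm_num) _
  have h2 : ((Q : ℤ) + 3) ∣ (((Q : ℤ) ^ 4 - 1) * ((Q : ℤ) ^ 4 - Q ^ 2)) ^ 2 := by
    have h3 := Int.natCast_dvd_natCast.mpr h1
    rw [Nat.cast_mul, Nat.cast_mul, Nat.cast_sub hp, Nat.cast_sub hp2] at h3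
    push_cast at h3
    have : (((Q : ℤ) ^ 4 - 1) * ((Q : ℤ) ^ 4 - Q ^ 2)) ^ 2 =
        (((Q : ℤ) ^ 2) ^ 2 - 1) * (((Q : ℤ) ^ 2) ^ 2 - Q ^ 2) *
        ((((Q : ℤ) ^ 2) ^ 2 - 1) * (((Q : ℤ) ^ 2) ^ 2 - Q ^ 2)) := by ring
    rw [this]
    exact h3
  have h3 : ((Q : ℤ) + 3) ∣ 5760 ^ 2 := by
    have h5 : ((Q : ℤ) + 3) ∣ (((Q : ℤ) ^ 4 - 1) * ((Q : ℤ) ^ 4 - Q ^ 2)) - 5760 := by
      have a1 : (((Q : ℤ) ^ 4 - 1) * ((Q : ℤ) ^ 4 - Q ^ 2)) ≡
          (((-3 : ℤ) ^ 4 - 1) * ((-3 : ℤ) ^ 4 - (-3) ^ 2)) [ZMOD ((Q : ℤ) + 3)] := by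
        have a0 : (Q : ℤ) ≡ -3 [ZMOD ((Q : ℤ) + 3)] := by
          rw [Int.modEq_iff_dvd]
          exact ⟨-1, by ring⟩
        exact Int.ModEq.mul ((a0.pow 4).sub_right 1) ((a0.pow 4).sub (a0.pow 2))
      have := a1.symm.dvd
      norm_num at this
      exact this
    have h6 : ((Q : ℤ) + 3) ∣ (((Q : ℤ) ^ 4 - 1) * ((Q : ℤ) ^ 4 - Q ^ 2)) ^ 2 - 5760 ^ 2 := by
      have : (((Q : ℤ) ^ 4 - 1) * ((Q : ℤ) ^ 4 - Q ^ 2)) ^ 2 - 5760 ^ 2 =
          ((((Q : ℤ) ^ 4 - 1) * ((Q : ℤ) ^ 4 - Q ^ 2)) - 5760) *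
          ((((Q : ℤ) ^ 4 - 1) * ((Q : ℤ) ^ 4 - Q ^ 2)) + 5760) := by ring
      rw [this]
      exact Dvd.dvd.mul_right h5 _
    exact (dvd_sub_comm.mp ((dvd_sub_right h2).mpr (by
      have := dvd_sub h2 h6
      simpa only [_root_.Int.reducePow, _root_.sub_sub_cancel] using this))) |> fun _ => by
      have := dvd_sub h2 h6
      simpa only [_root_.Int.reducePow, _root_.sub_sub_cancel] using this
  have h4' : Q + 3 ∣ 5760 ^ 2 := by exact_mod_cast h3
  have hk : 2 ≤ k := by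
    by_contra hlt
    have : k = 0 ∨ k = 1 := by omega
    rcases this with rfl | rfl <;> simp [hQ] at h4
  have hc2 : Nat.Coprime (Q + 3) 2 := by
    rw [Nat.coprime_two_right, hQ]
    obtain ⟨j, rfl⟩ : ∃ j, k = j + 1 := ⟨k - 1, by omega⟩
    rw [pow_succ, mul_comm]
    exact ⟨2 ^ j + 1, by ring⟩
  have hc3 : Nat.Coprime (Q + 3) 3 := by
    rw [Nat.coprime_add_self_left, hQ]
    exact Nat.Coprime.pow_left _ (by norm_num)
  have hc : Nat.Coprime (Q + 3) (2 ^ 14 * 3 ^ 4) :=
    Nat.Coprime.mul_right (hc2.pow_right _) (hc3.pow_right _)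
  have h25 : Q + 3 ∣ 25 := by
    have : 5760 ^ 2 = (2 ^ 14 * 3 ^ 4) * 25 := by norm_num
    rw [this] at h4'
    exact hc.dvd_of_dvd_mul_left h4'
  have hle := Nat.le_of_dvd (by norm_num) h25
  have hQ22 : Q = 22 := by
    have : Q ≤ 22 := by omega
    interval_cases Q <;> revert h25 <;> decide
  rw [hQ22] at hQ
  have hk5 : k < 5 := by
    by_contra hge
    have : 2 ^ 5 ≤ 2 ^ k := Nat.pow_le_pow_right (by norm_num) (by omega)
    omega
  interval_cases k <;> omega

end Cfsg.Agent.StdL2.F.Eight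
end

-- part: StdL2/FEight
section
/-!
# S1773, case (f): the dihedral case

There is no involution `x` of `X` commuting with `K₀` and `f` with `x t x⁻¹ = t f` (`kill8`).
-/

set_option autoImplicit false
set_option linter.unusedSectionVars false

namespace Cfsg.Agent.StdL2.F.Eight

open Matrix Subgroup

variable {X W F : Type*} [Group X] [Finite X] [AddCommGroup W] [DistribMulAction X W] [Field F]
  [Finite F] {κ : F →+* AddMonoid.End W} {d : Fˣ →* X} {σ : F ≃+* F} {t f : X} {w₁ : W}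
  {M : AddMonoid.End W} {δ : K0 σ}

/-- the order in the fused case -/
theorem card_H1 (C : XC κ d σ t f w₁) {ω : F} (hω : σ ω = ω + 1) {x : X} {H1 G1 : Subgroup X}
    (tH : ∀ y ∈ H1, t * y * t ∈ H1) (htH : t ∉ H1) (hG : ∀ y, y ∈ G1 ↔ (y ∈ H1 ∨ y * t ∈ H1))
    (hfH : f ∈ H1) (hxH : x ∈ H1) (xx : x * x = 1) (xf : x * f = f * x) (xt : x * t = t * f * x)
    (sq : ∀ y ∈ H1, y * f = f * y → y * y = 1)
    (h8 : ∀ S : Subgroup X, S ≤ G1 → IsPGroup 2 S → Nat.card S ≤ 8)
    (hdH : ∀ a : Fˣ, d a ∈ H1 ↔ (a : F) * σ a = 1)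
    (hct : ∀ g ∈ H1, g * t = t * g → (∃ a, g = d a) ∨ ∃ a, g * f = d a)
    {h : X} (hh : h ∈ H1) (hfx : h * f * h⁻¹ = x) :
    Nat.card H1 = 4 * (Nat.card (K0 σ) + 1) * (Nat.card (K0 σ) + 1 + 2) := by
  have tt := C.tt
  have ff := C.ff
  have tf := C.tf
  have hf1 := C.f_ne_one
  have hcf := cf tt tH htH hG hfH hxH ff xx tf xf xt hf1 sq h8
  have hle : H1 ≤ G1 := fun y hy => (hG y).mpr (Or.inl hy)
  have htG : t ∈ G1 := (hG t).mpr (Or.inr (by rw [tt]; exact one_mem _))
  set! D1 : Subgroup X := (nrm σ).ker.map d with hD1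
  have hDle : D1 ≤ H1 := by
    rintro y ⟨a, ha, rfl⟩
    exact (hdH a).mpr ((mem_ker C).mp ha)
  have hDc : Nat.card D1 = Nat.card (K0 σ) + 1 := by
    rw [hD1, Nat.card_congr (Subgroup.equivMapOfInjective _ d C.d_inj).symm.toEquiv]
    exact card_ker C hω
  have hDG : Nat.card (D1.subgroupOf G1) = Nat.card (K0 σ) + 1 := by
    rw [Nat.card_congr (Subgroup.subgroupOfEquivOfLe (hDle.trans hle)).toEquiv]
    exact hDc
  have hodd : Odd (Nat.card (D1.subgroupOf G1)) := by
    rw [hDG]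
    obtain ⟨k, hk⟩ := exists_pow C
    have h4 := four_le C
    rw [hk] at h4 ⊢
    have hk0 : k ≠ 0 := by rintro rfl; simp at h4
    exact (Even.pow_of_ne_zero (by norm_num) hk0).add_one
  have key := Ord.card_eq (G := G1) (H := H1.subgroupOf G1) (D := D1.subgroupOf G1) (t := ⟨t, htG⟩)
    (f := ⟨f, hle hfH⟩) (x := ⟨x, hle hxH⟩)
    (by
      rintro ⟨g, hg⟩ ⟨y, hy⟩ hyH
      exact G1_conj tt tH hG g hg y hyH)
    (fun h => htH h)
    (by
      rintro ⟨g, hg⟩ hgH
      exact ((hG g).mp hg).resolve_left hgH)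
    hfH hxH (Subtype.ext tt) (Subtype.ext ff) (Subtype.ext xx) (Subtype.ext tf) (Subtype.ext xf)
    (Subtype.ext xt) (fun h => hf1 (congrArg Subtype.val h))
    (by
      rintro ⟨g, hg⟩ hgH hgf
      rcases hcf g hgH (congrArg Subtype.val hgf) with h | h | h | h
      · exact Or.inl (Subtype.ext h)
      · exact Or.inr (Or.inl (Subtype.ext h))
      · exact Or.inr (Or.inr (Or.inl (Subtype.ext h)))
      · exact Or.inr (Or.inr (Or.inr (Subtype.ext h))))
    (by
      intro S hS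
      have := h8 (S.map G1.subtype) (Subgroup.map_subtype_le _) (hS.map _)
      rwa [Nat.card_congr (Subgroup.equivMapOfInjective _ G1.subtype G1.subtype_injective).symm.toEquiv]
        at this)
    (by
      rintro ⟨y, hy⟩ hyD
      exact hDle hyD)
    (by
      rintro ⟨y, hy⟩ ⟨a, ha, hya⟩
      apply Subtype.ext
      change y * t = t * y
      change d a = y at hya
      rw [← hya, C.td])
    (by
      rintro ⟨y, hy⟩ ⟨a, ha, hya⟩
      apply Subtype.ext
      change f * y * f = y⁻¹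
      change d a = y at hya
      rw [← hya, C.fd, mul_assoc, ff, mul_one, ← map_inv]
      congr 1
      have h1 := (mem_ker C).mp ha
      apply Units.ext
      rw [Units.coe_map, Units.val_inv_eq_inv_val]
      exact (eq_inv_of_mul_eq_one_right h1))
    hodd
    (by
      rintro ⟨g, hg⟩ hgH hgt
      rcases hct g hgH (congrArg Subtype.val hgt) with ⟨a, ha⟩ | ⟨a, ha⟩
      · left
        have h1 : d a ∈ H1 := by rw [← ha]; exact hgH
        exact ⟨a, (mem_ker C).mpr ((hdH a).mp h1), ha.symm⟩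
      · right
        have h1 : d a ∈ H1 := by rw [← ha]; exact mul_mem hgH hfH
        exact ⟨a, (mem_ker C).mpr ((hdH a).mp h1), ha.symm⟩)
    (isConj_iff.mpr ⟨⟨h, hle hh⟩, Subtype.ext hfx⟩)
  rw [hDG, Nat.card_congr (Subgroup.subgroupOfEquivOfLe hle).toEquiv] at key
  exact key

theorem main (C : XC κ d σ t f w₁) (hM : MC κ t f M (δ : F)) {ω : F} (hω : σ ω = ω + 1)
    {x : X} (hxM : x ∈ HM X κ σ M)
    (hx2 : x • (t • w₁ + w₁) = t • w₁ + w₁ → x • κ ω (t • w₁ + w₁) = M (t • w₁ + w₁) + κ ω (t • w₁ + w₁)) (xx : x * x = 1)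
    (xf : x * f = f * x) (xt : x * t = t * f * x)
    (hS : ∀ S : Subgroup X, IsPGroup 2 S →
      (∀ s ∈ S, ∀ a, σ a = a → Commute (XC.rho X W s) (κ a)) → Nat.card S ≤ 8)
    (hkill : ∀ H0 : Subgroup X, Odd (Nat.card H0) → H0 ≤ HM X κ σ M →
      (∀ a : Fˣ, (a : F) * σ a = 1 → d a ∈ H0) →
      (∀ a : Fˣ, (a : F) * σ a = 1 → x * d a * x⁻¹ ∈ H0) → False) : False := by
  have tt := C.tt
  have ff := C.ff
  have tf := C.tf
  have hf1 := C.f_ne_one
  obtain ⟨φ, hφ⟩ := exists_rep C hM hω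
  have hdetx : (φ ⟨x, hxM⟩) = !![1, ⟨0, 1⟩; 0, 1] := by
    obtain ⟨b, hb⟩ := inv_comm_f C hM hω hφ hxM xf xx
    have h1 := (hφ ⟨x, hxM⟩).2
    have h0 := (hφ ⟨x, hxM⟩).1
    rw [hb] at h1 h0
    change x • (t • w₁ + w₁) = jj hM 1 (t • w₁ + w₁) + jj hM 0 (κ ω (t • w₁ + w₁)) at h0
    rw [map_one, map_zero] at h0
    have h2 := hx2 (by rw [h0]; exact add_zero _)
    have h3 : x • κ ω (t • w₁ + w₁) = jj hM ⟨0, 1⟩ (t • w₁ + w₁) + jj hM 1 (κ ω (t • w₁ + w₁)) := by
      rw [h2, map_one, jj_apply]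
      simp only [_root_.map_add, _root_.ZeroMemClass.coe_zero, _root_.map_zero, _root_.OneMemClass.coe_one, _root_.map_one, _root_.one_mul, _root_.zero_add, _root_.AddMonoid.End.coe_one, _root_.id_eq]
    change x • κ ω (t • w₁ + w₁) = jj hM b (t • w₁ + w₁) + jj hM 1 (κ ω (t • w₁ + w₁)) at h1
    rw [h3] at h1
    rw [hb, ← (uniqS C hM hω h1).1]
  obtain ⟨H1, hH1⟩ := exists_H1 hM φ
  have hfH : f ∈ H1 := (hH1 f).mpr ⟨f_mem C hM, by rw [phi_f C hM hω hφ, Matrix.det_fin_two_of]; ring⟩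
  have hxH : x ∈ H1 := (hH1 x).mpr ⟨hxM, by rw [hdetx, Matrix.det_fin_two_of]; ring⟩
  have hdH : ∀ a : Fˣ, d a ∈ H1 ↔ (a : F) * σ a = 1 := by
    intro a
    rw [hH1, ← det_d C hM hω hφ]
    exact ⟨fun ⟨_, h⟩ => h, fun h => ⟨d_mem C hM a, h⟩⟩
  have hle : H1 ≤ HM X κ σ M := fun y hy => ((hH1 y).mp hy).1
  have tH : ∀ y ∈ H1, t * y * t ∈ H1 := by
    intro y hy
    obtain ⟨h1, h2⟩ := (hH1 y).mp hy
    refine (hH1 _).mpr ⟨tconj_mem C hM h1, ?_⟩
    have h3 := phi_tconj C hM hω hφ ⟨y, h1⟩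
    rw [h3]
    change ((tau C.two).mapMatrix (φ ⟨y, h1⟩)).det = 1
    rw [← RingHom.map_det, h2, map_one]
  have htH : t ∉ H1 := fun h => t_not_mem C hM (hle h)
  obtain ⟨G1, hG⟩ := exists_G1 tt tH
  have sq : ∀ y ∈ H1, y * f = f * y → y * y = 1 := by
    intro y hy hyf
    obtain ⟨h1, h2⟩ := (hH1 y).mp hy
    exact sq_of_comm_f C hM hω hφ h1 hyf h2
  have h8 : ∀ S : Subgroup X, S ≤ G1 → IsPGroup 2 S → Nat.card S ≤ 8 := by
    intro S hSG hS2
    apply hS S hS2
    intro s hs a ha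
    rcases (hG s).mp (hSG hs) with h | h
    · exact (mem_HM.mp (hle h)).1 a ha
    · have h1 := (mem_HM.mp (hle h)).1 a ha
      have h2 : s = s * t * t := by rw [mul_assoc, tt, mul_one]
      change XC.rho X W s * κ a = κ a * XC.rho X W s
      rw [h2, map_mul, mul_assoc, C.t_kappa, ← mul_assoc, h1, mul_assoc]
  rcases fusion tt tH htH hG hfH hxH ff xx tf xf xt hf1 sq h8 with ⟨h, hh, hfx⟩ | ⟨H0, hH0, hodd, hall⟩
  · have hcf := cf tt tH htH hG hfH hxH ff xx tf xf xt hf1 sq h8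
    have hxf : x ≠ f := Ord.x_ne_f tt ff xx xf xt hf1
    obtain ⟨hhM, hdet⟩ := (hH1 h).mp hh
    have h1 : h * f = x * h := mul_inv_eq_iff_eq_mul.mp hfx
    have h2 : h * x = f * h ∨ h * x = x * f * h := by
      have e1 : (h⁻¹ * f * h) * f = f * (h⁻¹ * f * h) := by
        have : x * f = f * x := xf
        rw [← hfx] at this
        calc (h⁻¹ * f * h) * f = h⁻¹ * (f * (h * f * h⁻¹)) * h := by group
          _ = h⁻¹ * (h * f * h⁻¹ * f) * h := by rw [this]
          _ = f * (h⁻¹ * f * h) := by group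
      rcases hcf (h⁻¹ * f * h) (mul_mem (mul_mem (inv_mem hh) hfH) hh) e1 with e | e | e | e
      · exfalso
        apply hf1
        calc f = h * (h⁻¹ * f * h) * h⁻¹ := by group
          _ = 1 := by rw [e]; group
      · exfalso
        apply hxf
        have : f * h = h * f := by
          calc f * h = h * (h⁻¹ * f * h) := by group
            _ = h * f := by rw [e]
        rw [← hfx, ← this]; group
      · left
        calc h * x = h * (h⁻¹ * f * h) := by rw [e]
          _ = f * h := by group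
      · right
        have e2 : h * (x * f) = f * h := by
          rw [← e]; group
        calc h * x = h * (x * f) * f := by simp only [mul_assoc]; rw [ff, mul_one]
          _ = f * (h * f) := by rw [e2, mul_assoc]
          _ = x * f * h := by rw [h1, ← mul_assoc, xf]
    have hδ := delta_eq_one C hM hω hφ hxM hdetx hhM hdet h1 h2
    subst hδ
    have hcard := card_H1 C hω tH htH hG hfH hxH xx xf xt sq h8 hdH
      (fun g hg hgt => comm_t C hM hω hφ (hle hg) hgt) hh hfx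
    have hF := card_F C hω
    have hdvd := card_dvd C hF (φ.comp (Subgroup.inclusion hle))
      ((phi_inj C hM hω hφ).comp (Subgroup.inclusion_injective hle))
    have : Fintype F := Fintype.ofFinite F
    have hGL : Nat.card (GL (Fin 2) F) = ((Nat.card (K0 σ) ^ 2) ^ 2 - 1) *
        ((Nat.card (K0 σ) ^ 2) ^ 2 - Nat.card (K0 σ) ^ 2) := by
      rw [Matrix.card_GL_field, Fin.prod_univ_two, ← Nat.card_eq_fintype_card, hF]
      simp only [_root_.RingHom.mem_eqLocusField, _root_.RingHom.coe_coe, _root_.RingHom.id_apply, _root_.Fin.isValue, _root_.Fin.coe_ofNat_eq_mod, _root_.Nat.zero_mod, _root_.pow_zero, _root_.Nat.mod_succ, _root_.pow_one]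
    rw [hcard, hGL] at hdvd
    obtain ⟨k, hk⟩ := exists_pow C
    exact numeric hk (four_le C) hdvd
  · have hoddF : ∀ a : Fˣ, Odd (orderOf (d a)) := by
      intro a
      have h1 : orderOf (d a) ∣ Nat.card Fˣ := (orderOf_map_dvd d a).trans (_root_.orderOf_dvd_natCard a)
      refine Odd.of_dvd_nat ?_ h1
      rw [Nat.card_units, card_F C hω]
      obtain ⟨k, hk⟩ := exists_pow C
      have h4 := four_le C
      rw [hk] at h4 ⊢
      have hk0 : k ≠ 0 := by rintro rfl; simp at h4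
      have h5 : Even ((2 ^ k) ^ 2) := (Even.pow_of_ne_zero (Even.pow_of_ne_zero (by norm_num) hk0) (by norm_num))
      exact Nat.Even.sub_odd (Nat.one_le_pow _ _ (by positivity)) h5 (by norm_num)
    refine hkill H0 hodd (hH0.trans hle) (fun a ha => hall _ ((hdH a).mpr ha) (hoddF a)) (fun a ha => ?_)
    apply hall _ (mul_mem (mul_mem hxH ((hdH a).mpr ha)) (inv_mem hxH))
    have : orderOf (x * d a * x⁻¹) = orderOf (d a) := by
      have := (MulAut.conj x).orderOf_eq (d a)
      rwa [MulAut.conj_apply] at this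
    rw [this]
    exact hoddF a

end Cfsg.Agent.StdL2.F.Eight

namespace Cfsg.Agent.StdL2.F.XC

open Cfsg.Agent.StdL2.F.Eight (MC HM mem_HM)

variable {X W F : Type*} [Group X] [Finite X] [AddCommGroup W] [DistribMulAction X W] [Field F]
  [Finite F] {κ : F →+* AddMonoid.End W} {d : Fˣ →* X} {σ : F ≃+* F} {t f : X} {w₁ : W}

/-- **the dihedral case** -/
theorem kill8 (C : XC κ d σ t f w₁) {ω δ : F} (hω : σ ω = ω + 1) (hδ : σ δ = δ) (hδ0 : δ ≠ 0)
    (x : X) (hxx : x * x = 1) (hxt : x * t * x⁻¹ = t * f) (hxf : x * f = f * x)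
    (hxK : ∀ a, σ a = a → Commute (rho X W x) (κ a))
    (hz : κ ω * (rho X W x * κ ω * rho X W x) + (rho X W x * κ ω * rho X W x) * κ ω =
      κ δ * rho X W f)
    (hS : ∀ S : Subgroup X, IsPGroup 2 S →
      (∀ s ∈ S, ∀ a, σ a = a → Commute (rho X W s) (κ a)) → Nat.card S ≤ 8) : False := by
  have xt : x * t = t * f * x := mul_inv_eq_iff_eq_mul.mp hxt
  have h2 : ∀ z : AddMonoid.End W, z + z = 0 := C.add_self_R
  have hRR : rho X W x * rho X W x = 1 := by rw [← map_mul, hxx, map_one]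
  have hRT : rho X W x * rho X W t = rho X W t * rho X W f * rho X W x := by
    rw [← map_mul, xt, map_mul, map_mul]
  have hRP : rho X W x * rho X W f = rho X W f * rho X W x := by rw [← map_mul, hxf, map_mul]
  have hRK : ∀ a, σ a = a → rho X W x * κ a = κ a * rho X W x := fun a ha => hxK a ha
  have hOT : κ ω * rho X W t = rho X W t * κ ω := (C.t_kappa ω).symm
  have hOP : κ ω * rho X W f = rho X W f * κ ω + rho X W f := by
    rw [C.f_kappa, hω, map_add, map_one, add_mul, one_mul, add_assoc, h2, add_zero]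
  have hc := C.omega_sq hω
  have hO : κ ω * κ ω = κ ω + κ (ω * ω + ω) := by
    rw [← map_mul, ← map_add]
    congr 1
    have := C.add_self_F ω
    linear_combination -this
  have hPP := C.rho_ff
  have hTP := C.rho_tf
  have hTT := C.rho_tt
  have hO'eq : ∃ O', O' = rho X W x * κ ω * rho X W x := ⟨_, rfl⟩
  obtain ⟨O', hO'd⟩ := hO'eq
  rw [← hO'd] at hz
  generalize hR : rho X W x = R at *
  generalize hP : rho X W f = P at *
  generalize hT : rho X W t = T at *
  have hO'T : O' * T = T * O' + T := by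
    rw [hO'd]
    calc R * κ ω * R * T = R * κ ω * (R * T) := by simp only [mul_assoc]
      _ = R * (κ ω * T) * (P * R) := by rw [hRT]; simp only [mul_assoc]
      _ = R * T * (κ ω * P) * R := by rw [hOT]; simp only [mul_assoc]
      _ = T * P * (R * P) * κ ω * R + T * P * (R * P) * R := by
          rw [hRT, hOP, mul_add, add_mul]; simp only [mul_assoc]
      _ = T * (P * P) * (R * κ ω * R) + T * (P * P) * (R * R) := by rw [hRP]; simp only [mul_assoc]
      _ = _ := by rw [hPP, hRR, mul_one, mul_one]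
  have hO'P : O' * P = P * O' + P := by
    rw [hO'd]
    calc R * κ ω * R * P = R * (κ ω * P) * R := by rw [mul_assoc (R * κ ω), hRP]; simp only [mul_assoc]
      _ = R * P * κ ω * R + R * P * R := by rw [hOP, mul_add, add_mul]; simp only [mul_assoc]
      _ = P * (R * κ ω * R) + P * (R * R) := by rw [hRP]; simp only [mul_assoc]
      _ = _ := by rw [hRR, mul_one]
  have hO' : O' * O' = O' + κ (ω * ω + ω) := by
    rw [hO'd]
    calc R * κ ω * R * (R * κ ω * R) = R * κ ω * (R * R) * κ ω * R := by simp only [mul_assoc]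
      _ = R * (κ ω * κ ω) * R := by rw [hRR, mul_one]; simp only [mul_assoc]
      _ = R * κ ω * R + (R * κ (ω * ω + ω)) * R := by rw [hO, mul_add, add_mul]
      _ = _ := by rw [hRK _ hc, mul_assoc (κ (ω * ω + ω)), hRR, mul_one]
  have hO'K : ∀ a, σ a = a → κ a * O' = O' * κ a := by
    intro a ha
    have e1 : κ a * κ ω = κ ω * κ a := by rw [← map_mul, mul_comm, map_mul]
    rw [hO'd]
    calc κ a * (R * κ ω * R) = κ a * R * κ ω * R := by simp only [mul_assoc]
      _ = R * (κ a * κ ω) * R := by rw [← hRK a ha]; simp only [mul_assoc]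
      _ = R * κ ω * (κ a * R) := by rw [e1]; simp only [mul_assoc]
      _ = _ := by rw [← hRK a ha]; simp only [mul_assoc]
  have hKK : ∀ a b : F, κ a * κ b = κ b * κ a := fun a b => by rw [← map_mul, mul_comm, map_mul]
  have hδP : P * κ δ = κ δ * P := by
    have := C.f_kappa δ
    rw [hδ, hP] at this
    exact this
  have hδT : T * κ δ = κ δ * T := by
    have := C.t_kappa δ
    rwa [hT] at this
  have hO'δ : O' * κ δ = κ δ * O' := (hO'K δ hδ).symm
  have hMO := Alg.M_O h2 (O := κ ω) (O' := O') (P := P) (δ := κ δ) hOP hz (hKK _ _)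
  have hMP := Alg.M_P h2 (O := κ ω) (O' := O') (P := P) (δ := κ δ) hOP hO'P hδP
  have hMT := Alg.M_T (T := T) (O := κ ω) (O' := O') (P := P) (δ := κ δ) hTP hOT hO'T hδT
  have hMM := Alg.M_M h2 (O := κ ω) (O' := O') (P := P) (δ := κ δ) hPP hOP hO'P hO hO' hz
    (hKK _ _) hO'δ hδP
  rw [h2, zero_add] at hMM
  have hMK : ∀ a, σ a = a → κ a * (κ ω + O' + κ δ * (1 + P)) = (κ ω + O' + κ δ * (1 + P)) * κ a := by
    intro a ha
    have hPa : P * κ a = κ a * P := by
      have := C.f_kappa a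
      rw [ha, hP] at this
      exact this
    have e1 : κ a * (κ δ * (1 + P)) = κ δ * (1 + P) * κ a := by
      rw [← mul_assoc, hKK a δ, mul_assoc, mul_assoc, mul_add, add_mul, hPa, mul_one, one_mul]
    rw [mul_add, mul_add, add_mul, add_mul, hKK a ω, hO'K a ha, e1]
  have hMx : R * (κ ω + O' + κ δ * (1 + P)) = (κ ω + O' + κ δ * (1 + P)) * R := by
    have e1 : R * (κ δ * (1 + P)) = κ δ * (1 + P) * R := by
      rw [← mul_assoc, hRK δ hδ, mul_assoc, mul_assoc, mul_add, add_mul, hRP, mul_one, one_mul]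
    have e2 : R * O' = κ ω * R := by
      rw [hO'd, ← mul_assoc, ← mul_assoc, hRR, one_mul]
    have e3 : O' * R = R * κ ω := by
      rw [hO'd, mul_assoc, hRR, mul_one]
    rw [mul_add, mul_add, add_mul, add_mul, e1, e2, e3, add_comm (R * κ ω)]
  obtain ⟨M, hMd⟩ : ∃ M, M = κ ω + O' + κ δ * (1 + P) := ⟨_, rfl⟩
  rw [← hMd] at hMO hMP hMT hMM hMx
  simp only [← hMd] at hMK
  have hMC : MC κ t f M δ := by
    refine ⟨?_, ?_, ?_, hMM⟩
    · intro a
      obtain ⟨u, v, hu, hv, rfl⟩ := C.decomp hω a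
      rw [map_add, map_mul, add_mul, hMK u hu, mul_assoc, ← hMO, ← mul_assoc, hMK v hv, mul_add, mul_assoc]
    · rw [hP]; exact hMP.symm
    · rw [hT, hMT, add_assoc, h2, add_zero]
  refine Eight.main (δ := ⟨δ, hδ⟩) C hMC hω (x := x) ?_ ?_ hxx hxf xt hS ?_
  · refine mem_HM.mpr ⟨?_, ?_⟩
    · rw [hR]; exact hRK
    · rw [hR]; exact hMx
  · intro hxv
    have e1 : R * κ ω = O' * R := by rw [hO'd, mul_assoc, hRR, mul_one]
    have e2 : O' = M + κ ω + κ δ * (1 + P) := by
      rw [hMd]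
      have e3 := h2 (κ ω)
      have e4 := h2 (κ δ * (1 + P))
      calc O' = O' + (κ ω + κ ω) + (κ δ * (1 + P) + κ δ * (1 + P)) := by rw [e3, e4, add_zero, add_zero]
        _ = _ := by abel
    have e5 := DFunLike.congr_fun e1 (t • w₁ + w₁)
    rw [← hR] at e5
    change x • κ ω (t • w₁ + w₁) = O' (x • (t • w₁ + w₁)) at e5
    rw [e5, hxv, e2]
    change M (t • w₁ + w₁) + κ ω (t • w₁ + w₁) + κ δ ((t • w₁ + w₁) + P (t • w₁ + w₁)) = _
    have e6 : P (t • w₁ + w₁) = t • w₁ + w₁ := by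
      rw [← hP]; exact C.f_v
    rw [e6, C.add_self_W, map_zero, add_zero]
  · intro H0 hodd hH0 hd hdx
    have h0 := C.commute_omega hω
    have hn := C.norm_a0 hω
    have ha0 : (1 + ω⁻¹ : F) ≠ 0 := by
      intro h
      rw [h, zero_mul] at hn
      exact zero_ne_one hn
    refine C.kill_odd hω hδ hδ0 hc O' hO'K (by rw [hT]; exact hO'T) (by rw [hP]; exact hO'P) hO'
      (by rw [hP]; exact hz) H0 hodd ?_ ?_ ?_
    · intro h hh a ha
      exact ((mem_HM.mp (hH0 hh)).1 a ha).symm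
    · intro h hh
      rw [hP, ← hMd]
      exact (mem_HM.mp (hH0 hh)).2
    · intro z _ hz'
      have e1 := hz' _ (hd (Units.mk0 (1 + ω⁻¹) ha0) hn)
      have e2 := hz' _ (hdx (Units.mk0 (1 + ω⁻¹) ha0) hn)
      have hxi : x⁻¹ = x := inv_eq_of_mul_eq_one_left hxx
      rw [C.rho_d] at e1
      rw [hxi, map_mul, map_mul, C.rho_d, hR] at e2
      change κ (1 + ω⁻¹) * z = z * κ (1 + ω⁻¹) at e1
      change R * κ (1 + ω⁻¹) * R * z = z * (R * κ (1 + ω⁻¹) * R) at e2
      refine ⟨comm_of_a0 e1.symm, ?_⟩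
      have e3 : (R * z * R) * κ (1 + ω⁻¹) = κ (1 + ω⁻¹) * (R * z * R) := by
        calc (R * z * R) * κ (1 + ω⁻¹) = R * (z * (R * κ (1 + ω⁻¹) * R)) * R := by
              have : R * (z * (R * κ (1 + ω⁻¹) * R)) * R = R * z * R * κ (1 + ω⁻¹) * (R * R) := by
                simp only [mul_assoc]
              rw [this, hRR, mul_one]
          _ = (R * R) * κ (1 + ω⁻¹) * (R * z * R) := by rw [← e2]; simp only [mul_assoc]
          _ = _ := by rw [hRR, one_mul]
      have e4 := comm_of_a0 e3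
      rw [hO'd]
      calc z * (R * κ ω * R) = (R * R) * z * R * κ ω * R := by rw [hRR, one_mul]; simp only [mul_assoc]
        _ = R * ((R * z * R) * κ ω) * R := by simp only [mul_assoc]
        _ = R * κ ω * R * z * (R * R) := by rw [e4]; simp only [mul_assoc]
        _ = _ := by rw [hRR, mul_one]

end Cfsg.Agent.StdL2.F.XC
end

-- part: StdL2/FToriMain
section
/-!
# S1773, case (f): the two tori commute, without hypothesis
-/

set_option autoImplicit false

namespace Cfsg.Agent.StdL2.F.XC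

variable {X W F : Type*} [Group X] [Finite X] [AddCommGroup W] [DistribMulAction X W] [Field F]
  [Finite F] {κ : F →+* AddMonoid.End W} {d : Fˣ →* X} {σ : F ≃+* F} {t f : X} {w₁ : W}

theorem commute_tori (C : XC κ d σ t f w₁) {y : X} (hyt : y * t * y⁻¹ = t * f)
    (hyf : y * f * y⁻¹ = f ∨ y * f * y⁻¹ = t) :
    ∀ a b, κ a * (rho X W y * κ b * rho X W y⁻¹) = rho X W y * κ b * rho X W y⁻¹ * κ a := by
  refine C.commute_tori_of ?_ hyt hyf
  intro ω δ hω hδ hδ0 x hx hxx hxt hxf hz hS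
  have hxi : x⁻¹ = x := inv_eq_of_mul_eq_one_left hxx
  refine C.kill8 hω hδ hδ0 x hxx hxt hxf (fun a ha => mem_N1.mp hx a ha) ?_ ?_
  · have h := hz
    rw [hxi] at h
    exact h
  · intro S hS2 hSK
    exact hS S hS2 (fun s hs => mem_N1.mpr fun a ha => hSK s hs a ha)

end Cfsg.Agent.StdL2.F.XC
end

-- part: StdL2/FTorus
section
/-!
# S1773, case (f): the two tori commute

The theorem `Cfsg.Agent.StdL2.F.XC.commute_tori` is in `FToriMain.lean`; this file only
re-exports it.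
-/
end

private theorem dce_df4af9feeffd : _root_.True := by
  try have : _root_.True := by simp only [_root_.Cfsg.Agent.StdL2.F.XC.H1.eq_1]
  try have : _root_.True := by simp only [_root_.Cfsg.Agent.StdL2.F.Eight.jj.congr_simp]
  try have : _root_.True := by simp only [_root_.Cfsg.Agent.StdL2.F.Zc.eq_1]
  exact _root_.True.intro
end

-- part: StdL2/FrameMain
section
prune_inst 0x24306004096210000000008221003e469600009200680401c4e107420680cd42080201208c2011114008230400300048130000100000000000200400011c018000881002f0c90000000096000004000000000000000000000000000000000004000000000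
set_option linter.all false
open scoped Cfsg.Agent.FastGrp

-- part: StdL2/Field
section
/-!
# S1773: the homomorphism from `N_G(A)` to the Galois group

`IsPar A π`, `F` finite of characteristic two: `fld P : N_G(A) →* (F ≃+* F)`, with kernel `A C_G(A)`.
-/

set_option autoImplicit false
set_option linter.unusedSectionVars false
set_option linter.style.haveILetI false

namespace Cfsg.Agent.StdL2.Field

open Cfsg Subgroup Cfsg.Agent.StdL2.Setup Cfsg.Agent.StdL2.Frame Cfsg.Agent.Lib.SL2Mat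

universe u

variable {F : Type*} [Field F]

local notation "SL2" => Matrix.SpecialLinearGroup (Fin 2)

/-- elements commuting with `up 1` and `lo 1` are trivial in characteristic two -/
theorem eq_one_of_commute [CharP F 2] {z : SL2 F} (h1 : z * up 1 = up 1 * z)
    (h2 : z * lo 1 = lo 1 * z) : z = 1 := by
  have e2 : (2 : F) = 0 := CharTwo.two_eq_zero
  have a00 := congrArg (fun w => ent w 0 0) h1
  have a01 := congrArg (fun w => ent w 0 1) h1
  have b00 := congrArg (fun w => ent w 0 0) h2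
  simp only [ent_mul, up_00, up_01, up_10, up_11, lo_00, lo_01, lo_10] at a00 a01 b00
  have hc : ent z 1 0 = 0 := by linear_combination -a00
  have hb : ent z 0 1 = 0 := by linear_combination b00
  have had : ent z 0 0 = ent z 1 1 := by linear_combination a01
  have hd := det_eq z
  rw [hc, hb, had] at hd
  have h3 : (ent z 1 1 - 1) ^ 2 = 0 := by linear_combination hd - (ent z 1 1 - 1) * e2
  have h4 : ent z 1 1 = 1 := by
    have := pow_eq_zero_iff (two_ne_zero) |>.1 h3
    linear_combination this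
  refine ext_ent ?_ ?_ ?_ ?_
  · rw [had, h4]; rfl
  · rw [hb]; rfl
  · rw [hc]; rfl
  · rw [h4]; rfl

theorem fieldAut_up_one (σ : F ≃+* F) : fieldAut σ (up 1) = up 1 := by
  rw [fieldAut_up, map_one]

theorem fieldAut_lo_one (σ : F ≃+* F) : fieldAut σ (lo 1) = lo 1 := by
  rw [fieldAut_lo, map_one]

theorem fieldAut_mul_apply (σ τ : F ≃+* F) (x : SL2 F) :
    fieldAut (σ * τ) x = fieldAut σ (fieldAut τ x) := rfl

theorem fieldAut_one_apply (x : SL2 F) : fieldAut (1 : F ≃+* F) x = x := rfl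

/-- uniqueness of the pair `(y, σ)` -/
theorem unique_aux [CharP F 2] {y y' : SL2 F} {σ σ' : F ≃+* F}
    (h : ∀ x, y * fieldAut σ x * y⁻¹ = y' * fieldAut σ' x * y'⁻¹) : y = y' ∧ σ = σ' := by
  have key : ∀ x, (y'⁻¹ * y) * fieldAut σ x = fieldAut σ' x * (y'⁻¹ * y) := by
    intro x
    have := h x
    calc (y'⁻¹ * y) * fieldAut σ x = y'⁻¹ * (y * fieldAut σ x * y⁻¹) * y := by group
      _ = _ := by rw [this]; group
  have h1 : y'⁻¹ * y = 1 := by
    apply eq_one_of_commute
    · have := key (up 1)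
      rwa [fieldAut_up_one, fieldAut_up_one] at this
    · have := key (lo 1)
      rwa [fieldAut_lo_one, fieldAut_lo_one] at this
  refine ⟨(inv_mul_eq_one.mp h1).symm, ?_⟩
  ext b
  have h2 := key (up b)
  rw [h1, one_mul, mul_one, fieldAut_up, fieldAut_up] at h2
  exact up_inj h2

variable {G : Type u} [Group G] {A L : Subgroup G} {t : G} {π : SL2 F →* G}

/-- `g` acts on `A` as `y σ` -/
def Acts (π : SL2 F →* G) (g : G) (y : SL2 F) (σ : F ≃+* F) : Prop :=
  ∀ x, g * π x * g⁻¹ = π (y * fieldAut σ x * y⁻¹)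

theorem Acts.unique [CharP F 2] (P : IsPar A π) {g : G} {y y' : SL2 F} {σ σ' : F ≃+* F}
    (h : Acts π g y σ) (h' : Acts π g y' σ') : y = y' ∧ σ = σ' := by
  apply unique_aux
  intro x
  apply P.inj
  rw [← h x, ← h' x]

theorem Acts.mul {g g' : G} {y y' : SL2 F} {σ σ' : F ≃+* F} (h : Acts π g y σ)
    (h' : Acts π g' y' σ') : Acts π (g * g') (y * fieldAut σ y') (σ * σ') := by
  intro x
  calc g * g' * π x * (g * g')⁻¹ = g * (g' * π x * g'⁻¹) * g⁻¹ := by group
    _ = _ := by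
      rw [h' x, h, fieldAut_mul_apply]
      congr 1
      rw [map_mul, map_mul, map_inv]
      group

theorem Acts.one : Acts π (1 : G) (1 : SL2 F) (1 : F ≃+* F) := by
  intro x
  rw [fieldAut_one_apply]
  simp

theorem acts_pi (s : SL2 F) : Acts π (π s) s (1 : F ≃+* F) := by
  intro x
  rw [fieldAut_one_apply, map_mul, map_mul, map_inv]

theorem acts_of_centralizes (P : IsPar A π) {g : G} (hg : g ∈ centralizer (A : Set G)) :
    Acts π g (1 : SL2 F) (1 : F ≃+* F) := by
  intro x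
  rw [fieldAut_one_apply, one_mul, inv_one, mul_one]
  have := mem_centralizer_iff.mp hg (π x) (P.mem x)
  rw [← this]; group

theorem Acts.mem_normalizer [Finite G] (P : IsPar A π) {g : G} {y : SL2 F} {σ : F ≃+* F}
    (h : Acts π g y σ) : g ∈ normalizer (A : Set G) := by
  have h1 : ∀ x ∈ A, g * x * g⁻¹ ∈ A := by
    intro x hx
    obtain ⟨w, rfl⟩ := P.exists_eq hx
    rw [h w]; exact P.mem _
  have h2 : A.map (MulAut.conj g).toMonoidHom ≤ A := by
    rintro _ ⟨x, hx, rfl⟩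
    exact h1 x hx
  have h3 : A.map (MulAut.conj g).toMonoidHom = A := by
    apply eq_of_le_of_card_ge h2
    rw [card_map_of_injective (MulAut.conj g).injective]
  rw [mem_normalizer_iff]
  intro x
  constructor
  · exact h1 x
  · intro hx
    rw [← h3] at hx
    obtain ⟨w, hw, hwx⟩ := hx
    have : w = x := by
      have e : g * w * g⁻¹ = g * x * g⁻¹ := hwx
      exact mul_left_cancel (mul_right_cancel e)
    rw [← this]; exact hw

/-- elements acting as inner automorphisms -/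
theorem Acts.inv_mul_mem (P : IsPar A π) {g : G} {y : SL2 F} (h : Acts π g y (1 : F ≃+* F)) :
    (π y)⁻¹ * g ∈ centralizer (A : Set G) := by
  rw [mem_centralizer_iff]
  intro x hx
  obtain ⟨w, rfl⟩ := P.exists_eq hx
  have h1 := h w
  rw [fieldAut_one_apply, map_mul, map_mul, map_inv] at h1
  have h2 : g * π w = π y * π w * (π y)⁻¹ * g := by rw [← h1]; group
  calc π w * ((π y)⁻¹ * g) = (π y)⁻¹ * (π y * π w * (π y)⁻¹ * g) := by group
    _ = _ := by rw [← h2]; group

section hom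

variable [Finite F] [CharP F 2]

/-- the element of `SL₂(F)` of `g ∈ N_G(A)` -/
noncomputable def yy (P : IsPar A π) (g : normalizer (A : Set G)) : SL2 F :=
  (exists_semilinear P g.2).choose

/-- the field automorphism of `g ∈ N_G(A)` -/
noncomputable def sg (P : IsPar A π) (g : normalizer (A : Set G)) : F ≃+* F :=
  (exists_semilinear P g.2).choose_spec.choose

theorem acts_sg (P : IsPar A π) (g : normalizer (A : Set G)) : Acts π (g : G) (yy P g) (sg P g) :=
  (exists_semilinear P g.2).choose_spec.choose_spec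

/-- the homomorphism to the Galois group -/
noncomputable def fld (P : IsPar A π) : normalizer (A : Set G) →* (F ≃+* F) where
  toFun := sg P
  map_one' := ((acts_sg P 1).unique P Acts.one).2
  map_mul' g h := ((acts_sg P (g * h)).unique P ((acts_sg P g).mul (acts_sg P h))).2

theorem fld_eq (P : IsPar A π) {g : G} (hg : g ∈ normalizer (A : Set G)) {y : SL2 F}
    {σ : F ≃+* F} (h : Acts π g y σ) : fld P ⟨g, hg⟩ = σ :=
  ((acts_sg P ⟨g, hg⟩).unique P h).2

theorem exists_acts (P : IsPar A π) {g : G} (hg : g ∈ normalizer (A : Set G)) :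
    ∃ y, Acts π g y (fld P ⟨g, hg⟩) := ⟨_, acts_sg P ⟨g, hg⟩⟩

end hom

end Cfsg.Agent.StdL2.Field
end

-- part: StdL2/FrameFT
section
/-!
# S1773: from coordinates on `A` to the local structures

`A = π(SL₂(F))`, `|F|` even; `T` a Sylow 2-subgroup of `C(t)` containing the root group `VV π`.
`Base.fld` : the structure `Fld` of `FieldStart`; `Base.tr` : `Tr`; `Base.ftd` : `FTD`; `exists_tor` :
the torus; `Base.tcen` : `TCen`.
-/

set_option autoImplicit false
set_option linter.unusedSectionVars false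
set_option linter.style.haveILetI false
set_option Elab.async false

namespace Cfsg.Agent.StdL2.FrameFT

open Subgroup Cfsg.Agent.StdL2 Cfsg.Agent.StdL2.Frame Cfsg.Agent.StdL2.Field
  Cfsg.Agent.StdL2.FieldStart Cfsg.Agent.StdL2.FT
open Cfsg.Agent.Lib.SL2Mat Cfsg.Agent.Lib.AutSL2 Cfsg.Agent.StdRank2.OutField

local notation "SL2" => Matrix.SpecialLinearGroup (Fin 2)

section mat

variable {F : Type*} [Field F]

theorem ent_of_conj {y : SL2 F} {c c' : F} (hc : c ≠ 0) (h : y * up c * y⁻¹ = up c') :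
    ent y 1 0 = 0 := by
  have h1 : y * up c = up c' * y := by rw [← h]; group
  have h2 := congrArg (fun w => ent w 1 1) h1
  simp only [ent_mul, up_01, up_10, up_11] at h2
  have h3 : ent y 1 0 * c = 0 := by linear_combination h2
  exact (mul_eq_zero.1 h3).resolve_right hc

theorem conj_up {y : SL2 F} (h : ent y 1 0 = 0) (c : F) :
    y * up c * y⁻¹ = up (ent y 0 0 ^ 2 * c) := by
  rw [mul_inv_eq_iff_eq_mul]
  have hd := det_eq y
  rw [h] at hd
  refine ext_ent ?_ ?_ ?_ ?_ <;> simp only [ent_mul, up_00, up_01, up_10, up_11, h]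
  · ring
  · linear_combination -(c * ent y 0 0) * hd
  · ring
  · ring

theorem eq_up {y : SL2 F} (h : ent y 1 0 = 0) (h1 : ent y 0 0 = 1) : y = up (ent y 0 1) := by
  have hd := det_eq y
  rw [h, h1] at hd
  refine ext_ent ?_ ?_ ?_ ?_
  · rw [h1]; rfl
  · rfl
  · rw [h]; rfl
  · rw [up_11]; linear_combination hd

/-- a fixed vector of a semilinear involution -/
theorem exists_fixed [CharP F 2] {σ : F ≃+* F} (h1 : σ ≠ 1) (h2 : σ * σ = 1) {c : F}
    (hc : c * σ c = 1) : ∃ k, k ≠ 0 ∧ c * σ k = k := by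
  by_contra hcon
  push Not at hcon
  have key : ∀ x, c * σ x = x := by
    intro x
    by_contra hx
    have h3 : x + c * σ x ≠ 0 := by
      intro h
      apply hx
      have h4 : x = -(c * σ x) := eq_neg_of_add_eq_zero_left h
      rw [CharTwo.neg_eq] at h4
      exact h4.symm
    apply hcon _ h3
    rw [map_add, map_mul, invol_apply h2]
    linear_combination x * hc
  apply h1
  have hc1 : c = 1 := by
    have := key 1
    rwa [map_one, mul_one] at this
  ext x
  have := key x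
  rwa [hc1, one_mul] at this

end mat

variable {F : Type*} [Field F] {G : Type*} [Group G] {A T : Subgroup G} {t : G}
  {π : SL2 F →* G}

/-- the root group -/
def VV (π : SL2 F →* G) : Subgroup G := (upG F).map π

theorem mem_VV {x : G} : x ∈ VV π ↔ ∃ b, π (up b) = x := by
  constructor
  · rintro ⟨_, ⟨b, rfl⟩, rfl⟩
    exact ⟨b, rfl⟩
  · rintro ⟨b, rfl⟩
    exact ⟨up b, ⟨b, rfl⟩, rfl⟩

theorem up_mem_VV (b : F) : π (up b) ∈ VV π := mem_VV.2 ⟨b, rfl⟩

theorem VV_le (P : IsPar A π) : VV π ≤ A := by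
  rintro _ ⟨x, _, rfl⟩
  exact P.mem x

theorem VV_sq [CharP F 2] : ∀ v ∈ VV π, v * v = 1 := by
  rintro _ ⟨_, ⟨b, rfl⟩, rfl⟩
  rw [← map_mul, up_mul, CharTwo.add_self_eq_zero, up_zero, map_one]

theorem card_VV [Finite F] (P : IsPar A π) : Nat.card (VV π) = Nat.card F := by
  have h1 : Nat.card (VV π) = Nat.card (upG F) :=
    Nat.card_congr ((upG F).equivMapOfInjective _ P.inj).symm.toEquiv
  rw [h1]
  exact Nat.card_congr (Equiv.ofBijective (fun b : F => (⟨up b, b, rfl⟩ : upG F))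
    ⟨fun a b h => up_inj (congrArg Subtype.val h), fun ⟨_, b, hb⟩ => ⟨b, Subtype.ext hb⟩⟩).symm

theorem le_VV [Finite F] [CharP F 2] (P : IsPar A π) {Q : Subgroup G} (hQ : IsPGroup 2 Q)
    (hQA : Q ≤ A) (hVQ : VV π ≤ Q) : Q ≤ VV π := by
  haveI : Fact (Nat.Prime 2) := ⟨Nat.prime_two⟩
  have h1 : Q.comap π = upG F := by
    apply eq_upG_of_le (p := 2) (hQ.comap_of_injective π P.inj)
    intro x hx
    exact hVQ ⟨x, hx, rfl⟩
  intro x hx
  obtain ⟨y, rfl⟩ := P.exists_eq (hQA hx)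
  refine ⟨y, ?_, rfl⟩
  show y ∈ upG F
  rw [← h1]
  exact hx

variable [Finite F] [CharP F 2]

/-- the action on the root group of an element of `N(A)` normalising it -/
theorem sem (P : IsPar A π) {n : G} (hn : n ∈ normalizer (A : Set G))
    (hV : ∀ v ∈ VV π, n * v * n⁻¹ ∈ VV π) :
    ∃ y, Acts π n y (fld P ⟨n, hn⟩) ∧ ent y 1 0 = 0 ∧
      ∀ b, n * π (up b) * n⁻¹ = π (up (ent y 0 0 ^ 2 * fld P ⟨n, hn⟩ b)) := by
  obtain ⟨y, hy⟩ := exists_acts P hn
  have h1 := hy (up 1)
  rw [fieldAut_up_one] at h1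
  obtain ⟨c, hc⟩ := mem_VV.1 (hV _ (up_mem_VV 1))
  rw [h1] at hc
  have h2 : ent y 1 0 = 0 := ent_of_conj one_ne_zero (P.inj hc).symm
  refine ⟨y, hy, h2, fun b => ?_⟩
  rw [hy, fieldAut_up, conj_up h2]

theorem ent_ne (y : SL2 F) (h : ent y 1 0 = 0) : ent y 0 0 ≠ 0 := by
  intro h0
  have hd := det_eq y
  rw [h, h0] at hd
  exact one_ne_zero (by linear_combination -hd)

/-- elements of `N(A)` centralising the root group -/
theorem cent_VV (P : IsPar A π) {n : G} (hn : n ∈ normalizer (A : Set G))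
    (hV : ∀ v ∈ VV π, n * v = v * n) :
    fld P ⟨n, hn⟩ = 1 ∧ ∃ v ∈ VV π, v⁻¹ * n ∈ centralizer (A : Set G) := by
  have hV' : ∀ v ∈ VV π, n * v * n⁻¹ = v := fun v hv => by rw [hV v hv, mul_inv_cancel_right]
  obtain ⟨y, hy, h0, h1⟩ := sem P hn (fun v hv => by rw [hV' v hv]; exact hv)
  have h2 : ∀ b, ent y 0 0 ^ 2 * fld P ⟨n, hn⟩ b = b := by
    intro b
    have h3 := h1 b
    rw [hV' _ (up_mem_VV b)] at h3
    exact (up_inj (P.inj h3)).symm
  have h3 : ent y 0 0 ^ 2 = 1 := by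
    have := h2 1
    rwa [map_one, mul_one] at this
  have h4 : fld P ⟨n, hn⟩ = 1 := by
    ext b
    have := h2 b
    rwa [h3, one_mul] at this
  have h5 : ent y 0 0 = 1 := by
    have h6 : (ent y 0 0 - 1) ^ 2 = 0 := by
      have e2 : (2 : F) = 0 := CharTwo.two_eq_zero
      linear_combination h3 - (ent y 0 0 - 1) * e2
    have := pow_eq_zero_iff (two_ne_zero) |>.1 h6
    linear_combination this
  refine ⟨h4, π y, ?_, ?_⟩
  · rw [eq_up h0 h5]
    exact up_mem_VV _
  · rw [h4] at hy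
    exact hy.inv_mul_mem P

/-- a 2-element of `N(A)` normalising the root group and inducing no field automorphism centralises it -/
theorem cent_of_fld (P : IsPar A π) {n : G} (hn : n ∈ normalizer (A : Set G))
    (hV : ∀ v ∈ VV π, n * v * n⁻¹ ∈ VV π) (h : fld P ⟨n, hn⟩ = 1) {m : ℕ} (hm : n ^ (2 ^ m) = 1) :
    ∀ v ∈ VV π, n * v = v * n := by
  obtain ⟨y, hy, h0, h1⟩ := sem P hn hV
  set c := ent y 0 0 ^ 2 with hc
  have h2 : ∀ b, n * π (up b) * n⁻¹ = π (up (c * b)) := by
    intro b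
    rw [h1 b, h]
    rfl
  have h3 : ∀ (i : ℕ) (b : F), n ^ i * π (up b) * (n ^ i)⁻¹ = π (up (c ^ i * b)) := by
    intro i
    induction i with
    | zero => intro b; simp
    | succ i ih =>
      intro b
      have h4 : n ^ (i + 1) * π (up b) * (n ^ (i + 1))⁻¹ =
          n * (n ^ i * π (up b) * (n ^ i)⁻¹) * n⁻¹ := by
        rw [pow_succ']
        group
      rw [h4, ih, h2, pow_succ']
      congr 2
      ring
  have h4 := h3 (2 ^ m) 1
  rw [hm] at h4
  have h5 : c ^ (2 ^ m) = 1 := by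
    have h6 : π (up (1 : F)) = π (up (c ^ (2 ^ m) * 1)) := by
      rw [← h4]
      group
    have h7 := up_inj (P.inj h6)
    rw [mul_one] at h7
    exact h7.symm
  have h6 : c = 1 := by
    have h7 : ∀ (i : ℕ) (x : F), x ^ (2 ^ i) = 1 → x = 1 := by
      intro i
      induction i with
      | zero => intro x hx; simpa using hx
      | succ i ih =>
        intro x hx
        apply ih
        rw [pow_succ, pow_mul] at hx
        have e2 : (2 : F) = 0 := CharTwo.two_eq_zero
        have h8 : (x ^ 2 ^ i - 1) ^ 2 = 0 := by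
          linear_combination hx - (x ^ 2 ^ i - 1) * e2
        have := pow_eq_zero_iff (two_ne_zero) |>.1 h8
        linear_combination this
    exact h7 m c h5
  rintro _ ⟨_, ⟨b, rfl⟩, rfl⟩
  have h7 := h2 b
  rw [h6, one_mul, mul_inv_eq_iff_eq_mul] at h7
  exact h7

variable [Finite G]

/-- The local data: `A = SL₂(F)`, `t` centralises `A`, `T` a Sylow 2-subgroup of `C(t)`. -/
structure Base (A : Subgroup G) (t : G) (T : Subgroup G) (π : SL2 F →* G) : Prop where
  P : IsPar A π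
  t2 : t * t = 1
  t1 : t ≠ 1
  tA : t ∈ centralizer (A : Set G)
  cle : centralizer ({t} : Set G) ≤ normalizer (A : Set G)
  cyc : ∀ R : Sylow 2 (centralizer (A : Set G)), IsCyclic (R : Subgroup (centralizer (A : Set G)))
  T2 : IsPGroup 2 T
  Tt : ∀ x ∈ T, x * t = t * x
  Tmax : ∀ P : Subgroup G, IsPGroup 2 P → T ≤ P → (∀ x ∈ P, x * t = t * x) → P ≤ T
  VT : VV π ≤ T

namespace Base

theorem nT (B : Base A t T π) {x : G} (hx : x ∈ T) : x ∈ normalizer (A : Set G) :=
  B.cle (mem_centralizer_singleton_iff.2 (B.Tt x hx))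

theorem tT (B : Base A t T π) : t ∈ T := by
  have h1 : IsPGroup 2 (zpowers t) := by
    intro x
    obtain ⟨z, hz⟩ := mem_zpowers_iff.1 x.2
    refine ⟨1, Subtype.ext ?_⟩
    show (x : G) ^ (2 ^ 1) = 1
    rw [← hz, pow_one, pow_two, ← (Commute.refl t).mul_zpow z, B.t2, one_zpow]
  have h2 : zpowers t ≤ normalizer (T : Set G) := by
    rw [zpowers_le]
    apply mem_norm_of_le
    intro x hx
    rw [← B.Tt x hx, mul_inv_cancel_right]
    exact hx
  have h3 : IsPGroup 2 (T ⊔ zpowers t : Subgroup G) := isPGroup_sup B.T2 h1 h2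
  apply B.Tmax _ h3 le_sup_left _ (mem_sup_right (mem_zpowers t))
  have h4 : T ⊔ zpowers t ≤ centralizer ({t} : Set G) := by
    rw [sup_le_iff, zpowers_le]
    exact ⟨fun x hx => mem_centralizer_singleton_iff.2 (B.Tt x hx),
      mem_centralizer_singleton_iff.2 rfl⟩
  intro x hx
  exact mem_centralizer_singleton_iff.1 (h4 hx)

theorem tn (B : Base A t T π) : t ∉ A := by
  intro h
  obtain ⟨y, hy⟩ := B.P.exists_eq h
  have h1 : y = 1 := by
    apply eq_one_of_commute
    · apply B.P.inj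
      rw [map_mul, map_mul, hy]
      exact (mem_centralizer_iff.1 B.tA _ (B.P.mem _)).symm
    · apply B.P.inj
      rw [map_mul, map_mul, hy]
      exact (mem_centralizer_iff.1 B.tA _ (B.P.mem _)).symm
  apply B.t1
  rw [← hy, h1, map_one]

theorem VcA (B : Base A t T π) {x : G} (hx : x ∈ VV π) (hxc : x ∈ centralizer (A : Set G)) :
    x = 1 := by
  obtain ⟨b, rfl⟩ := mem_VV.1 hx
  have h1 : (up b : SL2 F) = 1 := by
    apply eq_one_of_commute
    · apply B.P.inj
      rw [map_mul, map_mul]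
      exact (mem_centralizer_iff.1 hxc _ (B.P.mem _)).symm
    · apply B.P.inj
      rw [map_mul, map_mul]
      exact (mem_centralizer_iff.1 hxc _ (B.P.mem _)).symm
  rw [h1, map_one]

theorem Vn (B : Base A t T π) : ∀ x ∈ T, ∀ v ∈ VV π, x * v * x⁻¹ ∈ VV π := by
  intro x hx v hv
  apply le_VV B.P (Q := T ⊓ A) (B.T2.to_le inf_le_left) inf_le_right
    (le_inf B.VT (VV_le B.P))
  exact ⟨T.mul_mem (T.mul_mem hx (B.VT hv)) (T.inv_mem hx),
    (mem_normalizer_iff.1 (B.nT hx) v).1 (VV_le B.P hv)⟩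

theorem pow_two_pow (B : Base A t T π) {x : G} (hx : x ∈ T) : ∃ m : ℕ, x ^ (2 ^ m) = 1 := by
  obtain ⟨m, hm⟩ := B.T2 ⟨x, hx⟩
  exact ⟨m, congrArg Subtype.val hm⟩

/-- the field part of an element of `T` -/
noncomputable def fl (B : Base A t T π) : T →* (F ≃+* F) :=
  (Field.fld B.P).comp (Subgroup.inclusion (fun _ hx => B.nT hx))

theorem fl_apply (B : Base A t T π) (x : T) : B.fl x = Field.fld B.P ⟨x, B.nT x.2⟩ := rfl

theorem fl_eq_one (B : Base A t T π) (x : T) :
    B.fl x = 1 ↔ ∀ v ∈ VV π, (x : G) * v = v * x := by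
  rw [fl_apply]
  constructor
  · intro h
    obtain ⟨m, hm⟩ := B.pow_two_pow x.2
    exact cent_of_fld B.P (B.nT x.2) (B.Vn x x.2) h hm
  · intro h
    exact (cent_VV B.P (B.nT x.2) h).1

theorem cent (B : Base A t T π) : ∀ x ∈ T, (∀ v ∈ VV π, x * v = v * x) →
    ∃ r ∈ T ⊓ centralizer (A : Set G), ∃ v ∈ VV π, x = r * v := by
  intro x hx hc
  obtain ⟨-, v, hv, h1⟩ := cent_VV B.P (B.nT hx) hc
  refine ⟨v⁻¹ * x, ⟨T.mul_mem (T.inv_mem (B.VT hv)) hx, h1⟩, v, hv, ?_⟩
  rw [mul_assoc, hc v hv, inv_mul_cancel_left]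

/-- the action of an element of `T` of field type -/
theorem act (B : Base A t T π) {x : G} (hx : x ∈ T) (h1 : ∃ v ∈ VV π, x * v ≠ v * x)
    (h2 : ∀ v ∈ VV π, (x * x) * v = v * (x * x)) :
    ∃ (σ : F ≃+* F) (c : F), σ ≠ 1 ∧ σ * σ = 1 ∧ c * σ c = 1 ∧
      ∀ b, x * π (up b) * x⁻¹ = π (up (c * σ b)) := by
  obtain ⟨y, hy, h0, h3⟩ := sem B.P (B.nT hx) (B.Vn x hx)
  refine ⟨B.fl ⟨x, hx⟩, ent y 0 0 ^ 2, ?_, ?_, ?_, h3⟩
  · intro h
    obtain ⟨v, hv, h4⟩ := h1
    exact h4 ((B.fl_eq_one ⟨x, hx⟩).1 h v hv)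
  · rw [← map_mul]
    exact (B.fl_eq_one _).2 h2
  · have h4 : x * (x * π (up 1) * x⁻¹) * x⁻¹ = π (up 1) := by
      have h5 : x * (x * π (up 1) * x⁻¹) * x⁻¹ = (x * x) * π (up 1) * (x * x)⁻¹ := by group
      rw [h5, h2 _ (up_mem_VV 1), mul_inv_cancel_right]
    rw [h3, h3, map_one, mul_one] at h4
    exact up_inj (B.P.inj h4)

/-- **The structure of `FieldStart`.** -/
theorem fld (B : Base A t T π) : Fld t (VV π) (T ⊓ centralizer (A : Set G)) T := by
  refine ⟨B.t2, B.t1, ⟨B.tT, B.tA⟩, ?_, inf_le_left, B.VT, VV_sq, ?_, ?_, B.T2, B.Tt, B.Tmax,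
    B.Vn, B.cent, ?_, ?_⟩
  · -- cyclic
    have h1 : IsPGroup 2 ((T ⊓ centralizer (A : Set G) : Subgroup G).subgroupOf
        (centralizer (A : Set G))) :=
      (B.T2.to_le inf_le_left).comap_of_injective _ (Subgroup.subtype_injective _)
    obtain ⟨S, hS⟩ := h1.exists_le_sylow
    have hc := B.cyc S
    let g : (T ⊓ centralizer (A : Set G) : Subgroup G) →*
        (S : Subgroup (centralizer (A : Set G))) :=
      { toFun := fun x => ⟨⟨x, x.2.2⟩, hS (mem_subgroupOf.2 x.2)⟩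
        map_one' := rfl
        map_mul' := fun x y => rfl }
    have hg : Function.Injective g := by
      intro x y h
      have h2 := congrArg (fun z => ((z : centralizer (A : Set G)) : G)) (congrArg Subtype.val h)
      exact Subtype.ext h2
    exact isCyclic_of_injective g hg
  · rintro r ⟨_, hr⟩ v hv
    exact (mem_centralizer_iff.1 hr v (VV_le B.P hv)).symm
  · rintro x ⟨_, hx⟩ hxV
    exact B.VcA hxV hx
  · -- uniqueness
    intro x hx y hy hx2 hy2 hx1 hy1
    have e1 : B.fl ⟨x, hx⟩ = B.fl ⟨y, hy⟩ := by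
      apply unique_invol
      · rw [← map_mul]
        exact (B.fl_eq_one _).2 hx2
      · rw [← map_mul]
        exact (B.fl_eq_one _).2 hy2
      · intro h
        obtain ⟨v, hv, h4⟩ := hx1
        exact h4 ((B.fl_eq_one ⟨x, hx⟩).1 h v hv)
      · intro h
        obtain ⟨v, hv, h4⟩ := hy1
        exact h4 ((B.fl_eq_one ⟨y, hy⟩).1 h v hv)
    have e2 : B.fl (⟨x, hx⟩⁻¹ * ⟨y, hy⟩) = 1 := by
      rw [map_mul, map_inv, e1, inv_mul_cancel]
    exact (B.fl_eq_one _).1 e2
  · -- fixed points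
    intro x hx hx1 hx2
    obtain ⟨σ, c, hσ1, hσ2, hc, hact⟩ := B.act hx hx1 hx2
    obtain ⟨k, hk0, hk⟩ := exists_fixed hσ1 hσ2 hc
    have hc0 : c ≠ 0 := by
      rintro rfl
      rw [zero_mul] at hc
      exact zero_ne_one hc
    have h1 : Nat.card (VV π ⊓ centralizer ({x} : Set G) : Subgroup G) =
        Nat.card {b : F // σ b = b} := by
      refine (Nat.card_congr (Equiv.ofBijective (fun b : {b : F // σ b = b} =>
        (⟨π (up (k * b)), up_mem_VV _, ?_⟩ : (VV π ⊓ centralizer ({x} : Set G) : Subgroup G)))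
        ⟨?_, ?_⟩)).symm
      · show π (up (k * b)) ∈ centralizer ({x} : Set G)
        rw [mem_centralizer_singleton_iff]
        have h2 := hact (k * b)
        rw [map_mul, b.2, ← mul_assoc, hk, mul_inv_eq_iff_eq_mul] at h2
        exact h2.symm
      · intro a b h
        have h2 := up_inj (B.P.inj (congrArg Subtype.val h))
        exact Subtype.ext (mul_left_cancel₀ hk0 h2)
      · rintro ⟨y, hyV, hyc⟩
        obtain ⟨b, rfl⟩ := mem_VV.1 hyV
        have h2 := mem_centralizer_singleton_iff.1 hyc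
        have h3 : c * σ b = b := by
          have h4 := hact b
          rw [← h2, mul_inv_cancel_right] at h4
          exact (up_inj (B.P.inj h4)).symm
        have h4 : σ (k⁻¹ * b) = k⁻¹ * b := by
          rw [map_mul, map_inv₀]
          have h5 : σ k ≠ 0 := fun h => hk0 (by rwa [map_eq_zero] at h)
          field_simp
          apply mul_left_cancel₀ hc0
          linear_combination k * h3 - b * hk
        refine ⟨⟨k⁻¹ * b, h4⟩, Subtype.ext ?_⟩
        show π (up (k * (k⁻¹ * b))) = π (up b)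
        rw [mul_inv_cancel_left₀ hk0]
    rw [h1, card_VV B.P, pow_two]
    exact card_fix hσ2 hσ1

end Base

end Cfsg.Agent.StdL2.FrameFT
end

-- part: StdL2/FrameMain
section
/-!
# S1773: torus, `FTD`, `TCen` and the assembled case of field automorphisms
-/

set_option autoImplicit false
set_option linter.unusedSectionVars false
set_option linter.style.haveILetI false
set_option Elab.async false

namespace Cfsg.Agent.StdL2.FrameFT

open Subgroup Cfsg.Agent.StdL2 Cfsg.Agent.StdL2.Frame Cfsg.Agent.StdL2.Field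
  Cfsg.Agent.StdL2.FieldStart Cfsg.Agent.StdL2.FT
open Cfsg.Agent.Lib.SL2Mat Cfsg.Agent.Lib.AutSL2 Cfsg.Agent.StdRank2.OutField
open Cfsg.Agent.Lib.GoldschmidtFusion (exists_conj_le_in lt_inf_normalizer exists_sylow_in)

local notation "SL2" => Matrix.SpecialLinearGroup (Fin 2)

variable {F : Type*} [Field F] {G : Type*} [Group G] {A T : Subgroup G} {t : G}
  {π : SL2 F →* G}

/-- the torus acts on the root group -/
theorem dg_conj (s : F) (hs : s ≠ 0) (b : F) :
    π (dg s hs) * π (up b) * (π (dg s hs))⁻¹ = π (up (s ^ 2 * b)) := by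
  rw [mul_inv_eq_iff_eq_mul, ← map_mul, ← map_mul, dg_up]

theorem card_aut_lt [Finite F] [CharP F 2] (h : 16 ≤ Nat.card F) :
    2 * Nat.card (F ≃+* F) < Nat.card F := by
  have : Fact (Nat.Prime 2) := ⟨Nat.prime_two⟩
  letI : Algebra (ZMod 2) F := ZMod.algebra F 2
  have hinj : Function.Injective (toGal (F := F) 2) := by
    intro a b h
    ext x
    exact congrArg (fun f : F ≃ₐ[ZMod 2] F => f x) h
  have h1 := Nat.card_le_card_of_injective _ hinj
  have h2 : Nat.card (F ≃ₐ[ZMod 2] F) ≤ Module.finrank (ZMod 2) F := by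
    rw [Nat.card_eq_fintype_card]
    exact AlgEquiv.card_le
  have h3 : Nat.card F = 2 ^ Module.finrank (ZMod 2) F := by
    have := Module.natCard_eq_pow_finrank (K := ZMod 2) (V := F)
    rwa [Nat.card_zmod] at this
  have h4 : ∀ n : ℕ, 3 ≤ n → 2 * n < 2 ^ n := by
    intro n hn
    induction n, hn using Nat.le_induction with
    | base => norm_num
    | succ n hn ih => rw [pow_succ]; omega
  have h5 : 3 ≤ Module.finrank (ZMod 2) F := by
    by_contra h6
    have h7 : Module.finrank (ZMod 2) F ≤ 2 := by omega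
    have h8 : 2 ^ Module.finrank (ZMod 2) F ≤ 2 ^ 2 := Nat.pow_le_pow_right (by norm_num) h7
    omega
  have h6 := h4 _ h5
  omega

variable [Finite F] [CharP F 2] [Finite G]

/-- the normal subgroup `A C(A)` of `N(A)` -/
noncomputable def C0 (P : IsPar A π) : Subgroup G :=
  (Field.fld P).ker.map (normalizer (A : Set G)).subtype

theorem mem_C0 (P : IsPar A π) {x : G} :
    x ∈ C0 P ↔ ∃ hx : x ∈ normalizer (A : Set G), Field.fld P ⟨x, hx⟩ = 1 := by
  constructor
  · rintro ⟨⟨y, hy⟩, h, rfl⟩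
    exact ⟨hy, h⟩
  · rintro ⟨hx, h⟩
    exact ⟨⟨x, hx⟩, h, rfl⟩

namespace Base

theorem tr (B : Base A t T π) : Fld.Tr B.fld := by
  constructor
  · intro v hv hv1 w hw hw1
    obtain ⟨b, rfl⟩ := mem_VV.1 hv
    obtain ⟨c, rfl⟩ := mem_VV.1 hw
    have hb : b ≠ 0 := by
      rintro rfl
      exact hv1 (by rw [up_zero, map_one])
    have hc : c ≠ 0 := by
      rintro rfl
      exact hw1 (by rw [up_zero, map_one])
    obtain ⟨s, hs⟩ := exists_sqrt (c / b)
    have hs0 : s ≠ 0 := by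
      rintro rfl
      rw [mul_zero] at hs
      exact div_ne_zero hc hb hs.symm
    refine ⟨π (dg s hs0), (mem_centralizer_iff.1 B.tA _ (B.P.mem _)), ?_, ?_⟩
    · rw [dg_conj, pow_two, hs, div_mul_cancel₀ c hb]
    · intro u hu
      obtain ⟨e, rfl⟩ := mem_VV.1 hu
      rw [dg_conj]
      exact up_mem_VV _
  · intro n hn hE v hv
    have hnA : n ∈ normalizer (A : Set G) := B.cle (mem_centralizer_singleton_iff.2 hn)
    have h1 : n * v * n⁻¹ ∈ A := (mem_normalizer_iff.1 hnA v).1 (VV_le B.P hv)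
    rcases hE v (Or.inl hv) with h | h
    · exact h
    · exfalso
      apply B.tn
      have h2 : t = (t * (n * v * n⁻¹)) * (n * v * n⁻¹)⁻¹ := by group
      rw [h2]
      exact mul_mem (VV_le B.P h) (inv_mem h1)

/-- **The torus.** -/
theorem exists_tor (B : Base A t T π) : ∃ d ∈ A, Tor t (VV π) d := by
  obtain ⟨g, hg⟩ := IsCyclic.exists_generator (α := Fˣ)
  have hpow : ∀ x : F, x ≠ 0 → ∃ n : ℕ, (g : F) ^ n = x := by
    intro x hx
    have h1 : Units.mk0 x hx ∈ Submonoid.powers g := by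
      rw [mem_powers_iff_mem_zpowers]
      exact hg _
    obtain ⟨n, hn⟩ := h1
    refine ⟨n, ?_⟩
    have h2 := congrArg (fun z : Fˣ => (z : F)) hn
    simpa using h2
  obtain ⟨s, hs⟩ := exists_sqrt (g : F)
  have hs0 : s ≠ 0 := by
    rintro rfl
    rw [mul_zero] at hs
    exact g.ne_zero hs.symm
  have hact : ∀ b, π (dg s hs0) * π (up b) * (π (dg s hs0))⁻¹ = π (up ((g : F) * b)) := by
    intro b
    rw [dg_conj, pow_two, hs]
  have hactn : ∀ (n : ℕ) (b : F), π (dg s hs0) ^ n * π (up b) * (π (dg s hs0) ^ n)⁻¹ =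
      π (up ((g : F) ^ n * b)) := by
    intro n
    induction n with
    | zero => intro b; simp
    | succ n ih =>
      intro b
      have h4 : π (dg s hs0) ^ (n + 1) * π (up b) * (π (dg s hs0) ^ (n + 1))⁻¹ =
          π (dg s hs0) * (π (dg s hs0) ^ n * π (up b) * (π (dg s hs0) ^ n)⁻¹) *
            (π (dg s hs0))⁻¹ := by
        rw [pow_succ']
        group
      rw [h4, ih, hact, pow_succ']
      congr 2
      ring
  refine ⟨π (dg s hs0), B.P.mem _, (mem_centralizer_iff.1 B.tA _ (B.P.mem _)), ?_, ?_, ?_⟩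
  · intro v hv
    obtain ⟨b, rfl⟩ := mem_VV.1 hv
    rw [hact]
    exact up_mem_VV _
  · intro v hv w hw hv1 hw1
    obtain ⟨b, rfl⟩ := mem_VV.1 hv
    obtain ⟨c, rfl⟩ := mem_VV.1 hw
    have hb : b ≠ 0 := by
      rintro rfl
      exact hv1 (by rw [up_zero, map_one])
    have hc : c ≠ 0 := by
      rintro rfl
      exact hw1 (by rw [up_zero, map_one])
    obtain ⟨n, hn⟩ := hpow (c / b) (div_ne_zero hc hb)
    exact ⟨n, by rw [hactn, hn, div_mul_cancel₀ c hb]⟩
  · intro n hn hnV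
    have hnA : n ∈ normalizer (A : Set G) := B.cle (mem_centralizer_singleton_iff.2 hn)
    obtain ⟨y, hy, h0, h1⟩ := sem B.P hnA hnV
    set σ := Field.fld B.P ⟨n, hnA⟩ with hσ
    set c := ent y 0 0 ^ 2 with hc
    have hc0 : c ≠ 0 := pow_ne_zero 2 (ent_ne y h0)
    have hσg : σ (g : F) ≠ 0 := fun h => g.ne_zero (by rwa [map_eq_zero] at h)
    obtain ⟨m, hm⟩ := hpow (σ g) hσg
    refine ⟨m, ?_⟩
    intro v hv
    obtain ⟨b, rfl⟩ := mem_VV.1 hv
    rw [hactn, hm]
    have h2 : n⁻¹ * π (up b) * n = π (up (σ.symm (c⁻¹ * b))) := by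
      have h3 := h1 (σ.symm (c⁻¹ * b))
      rw [RingEquiv.apply_symm_apply, mul_inv_cancel_left₀ hc0] at h3
      rw [← h3]
      group
    have h3 : n * π (dg s hs0) * n⁻¹ * π (up b) * (n * π (dg s hs0) * n⁻¹)⁻¹ =
        n * (π (dg s hs0) * (n⁻¹ * π (up b) * n) * (π (dg s hs0))⁻¹) * n⁻¹ := by
      group
    rw [h3, h2, hact, h1, map_mul, RingEquiv.apply_symm_apply]
    congr 2
    field_simp

/-- elements of `T` inducing no field automorphism -/
theorem mem_E (B : Base A t T π) (hR : ∀ x ∈ T, x ∈ centralizer (A : Set G) → x = 1 ∨ x = t)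
    {x : G} (hx : x ∈ T) (hc : ∀ v ∈ VV π, x * v = v * x) : x ∈ VV π ∨ t * x ∈ VV π := by
  obtain ⟨r, ⟨hrT, hrA⟩, v, hv, rfl⟩ := B.cent x hx hc
  rcases hR r hrT hrA with rfl | rfl
  · left
    rwa [one_mul]
  · right
    rw [← mul_assoc, B.t2, one_mul]
    exact hv

theorem Vcomm (B : Base A t T π) {v w : G} (hv : v ∈ VV π) (hw : w ∈ VV π) : v * w = w * v :=
  vcomm_of_vsq VV_sq hv hw

theorem tV (B : Base A t T π) {v : G} (hv : v ∈ VV π) : t * v = v * t :=
  (mem_centralizer_iff.1 B.tA v (VV_le B.P hv)).symm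

theorem cent_of_E (B : Base A t T π) {x : G} (hx : x ∈ VV π ∨ t * x ∈ VV π) :
    ∀ v ∈ VV π, x * v = v * x := by
  intro v hv
  rcases hx with h | h
  · exact B.Vcomm h hv
  · have h1 : x = t * (t * x) := by rw [← mul_assoc, B.t2, one_mul]
    rw [h1, mul_assoc t, B.Vcomm h hv, ← mul_assoc, B.tV hv, mul_assoc]

/-- **`FTD`** when `C_T(A) = ⟨t⟩`. -/
theorem ftd (B : Base A t T π) (h16 : 16 ≤ Nat.card F)
    (hR : ∀ x ∈ T, x ∈ centralizer (A : Set G) → x = 1 ∨ x = t) :
    FTD t (VV π) T (C0 B.P) := by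
  have hTC : T ≤ centralizer ({t} : Set G) := fun x hx =>
    mem_centralizer_singleton_iff.2 (B.Tt x hx)
  have htV : t ∉ VV π := fun h => B.tn (VV_le B.P h)
  have hfl : ∀ x : T, B.fl x = 1 ↔ ((x : G) ∈ VV π ∨ t * (x : G) ∈ VV π) := by
    intro x
    rw [B.fl_eq_one]
    exact ⟨fun h => B.mem_E hR x.2 h, fun h => B.cent_of_E h⟩
  refine ⟨B.t2, htV, VV_sq, B.T2, B.tT, B.VT, B.Tt, B.Vn, fun s hs h => B.mem_E hR hs h, ?_, ?_,
    ?_, by rw [card_VV B.P]; exact h16, ?_, ?_, ?_, ?_⟩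
  · -- Sylow
    obtain ⟨R, hTR, hRC, hR2, hodd⟩ := exists_sylow_in (p := 2) hTC B.T2
    have h1 : R = T := le_antisymm (B.Tmax R hR2 hTR
      (fun x hx => mem_centralizer_singleton_iff.1 (hRC hx))) hTR
    rw [← h1]
    exact hodd
  · -- cyclic
    have hcyc : IsCyclic (F ≃+* F) := Cfsg.Agent.StdRank2.OutField.isCyclic
    have hfin : Finite (F ≃+* F) := finite_aut
    have hc : IsCyclic B.fl.range := inferInstance
    obtain ⟨⟨_, φ, rfl⟩, hg⟩ := IsCyclic.exists_generator (α := B.fl.range)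
    refine ⟨φ, φ.2, fun s hs => ?_⟩
    have h1 : (⟨B.fl ⟨s, hs⟩, ⟨s, hs⟩, rfl⟩ : B.fl.range) ∈
        Submonoid.powers (⟨B.fl φ, φ, rfl⟩ : B.fl.range) := by
      rw [mem_powers_iff_mem_zpowers]
      exact hg _
    obtain ⟨n, hn⟩ := h1
    refine ⟨n, ?_⟩
    have h2 : B.fl φ ^ n = B.fl ⟨s, hs⟩ := congrArg Subtype.val hn
    have h3 : B.fl ((φ ^ n)⁻¹ * ⟨s, hs⟩) = 1 := by
      rw [map_mul, map_inv, map_pow, h2, inv_mul_cancel]
    exact (hfl _).1 h3
  · -- free
    intro s hs h1 h2 h3 v hv hsv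
    have h4 : ∃ v ∈ VV π, s * v ≠ v * s := by
      by_contra hcon
      push Not at hcon
      rcases B.mem_E hR hs hcon with h | h
      · exact h1 h
      · exact h2 h
    obtain ⟨σ, c, hσ1, hσ2, hc, hact⟩ := B.act hs h4 (B.cent_of_E h3)
    obtain ⟨k, hk0, hk⟩ := exists_fixed hσ1 hσ2 hc
    have hc0 : c ≠ 0 := by
      rintro rfl
      rw [zero_mul] at hc
      exact zero_ne_one hc
    obtain ⟨b, rfl⟩ := mem_VV.1 hv
    have h5 : c * σ b = b := by
      rw [hact b] at hsv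
      exact up_inj (B.P.inj hsv)
    have h6 : σ (k⁻¹ * b) = k⁻¹ * b := by
      rw [map_mul, map_inv₀]
      have h9 : σ k ≠ 0 := fun h => hk0 (by rwa [map_eq_zero] at h)
      field_simp
      apply mul_left_cancel₀ hc0
      linear_combination k * h5 - b * hk
    obtain ⟨r, hr⟩ := exists_trace hσ2 hσ1 h6
    refine ⟨π (up (k * r)), up_mem_VV _, ?_⟩
    rw [hact, ← map_mul, up_mul]
    congr 2
    have h7 : b = k * (r + σ r) := by rw [hr, mul_inv_cancel_left₀ hk0]
    rw [map_mul, ← mul_assoc, hk]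
    linear_combination h7
  · -- size
    have h1 := B.fl.ker.card_eq_card_quotient_mul_card_subgroup
    have h2 : Nat.card (T ⧸ B.fl.ker) = Nat.card B.fl.range :=
      Nat.card_congr (QuotientGroup.quotientKerEquivRange B.fl).toEquiv
    have hfin : Finite (F ≃+* F) := finite_aut
    have h3 : Nat.card B.fl.range ≤ Nat.card (F ≃+* F) := Subgroup.card_le_card_group _
    have h4 : Nat.card B.fl.ker ≤ 2 * Nat.card (VV π) := by
      refine le_trans ?_ (B.fld.card_E).1
      apply Nat.card_le_card_of_injective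
        (fun x : B.fl.ker => (⟨((x : T) : G), (hfl x).1 (MonoidHom.mem_ker.1 x.2)⟩ : B.fld.E))
      intro x y h
      exact Subtype.ext (Subtype.ext (congrArg (fun z : B.fld.E => (z : G)) h))
    have h5 := card_aut_lt h16
    rw [h1, h2]
    have h6 : Nat.card (VV π) = Nat.card F := card_VV B.P
    rw [h6] at h4 ⊢
    have h7 : 0 < Nat.card F := by omega
    calc Nat.card B.fl.range * Nat.card B.fl.ker
        ≤ Nat.card (F ≃+* F) * (2 * Nat.card F) := Nat.mul_le_mul h3 h4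
      _ = (2 * Nat.card (F ≃+* F)) * Nat.card F := by ring
      _ < Nat.card F * Nat.card F := Nat.mul_lt_mul_of_pos_right h5 h7
      _ = Nat.card F ^ 2 := by ring
  · -- normal
    intro c hc x hx
    obtain ⟨hxA, hx1⟩ := (mem_C0 B.P).1 hx
    have hcA : c ∈ normalizer (A : Set G) := B.cle (mem_centralizer_singleton_iff.2 hc)
    refine (mem_C0 B.P).2 ⟨mul_mem (mul_mem hcA hxA) (inv_mem hcA), ?_⟩
    have h1 : (⟨c * x * c⁻¹, mul_mem (mul_mem hcA hxA) (inv_mem hcA)⟩ :
        normalizer (A : Set G)) = ⟨c, hcA⟩ * ⟨x, hxA⟩ * ⟨c, hcA⟩⁻¹ := rfl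
    rw [h1, map_mul, map_mul, map_inv, hx1, mul_one, mul_inv_cancel]
  · intro s hs hsC
    obtain ⟨hsA, hs1⟩ := (mem_C0 B.P).1 hsC
    exact (hfl ⟨s, hs⟩).1 hs1
  · intro s hs
    have hsT : s ∈ T := by
      rcases hs with h | h
      · exact B.VT h
      · have h1 : s = t * (t * s) := by rw [← mul_assoc, B.t2, one_mul]
        rw [h1]
        exact mul_mem B.tT (B.VT h)
    exact (mem_C0 B.P).2 ⟨B.nT hsT, (hfl ⟨s, hsT⟩).2 hs⟩

/-- **`TCen`** when `T` centralises the root group and `C_T(A) = ⟨t⟩`. -/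
theorem tcen (B : Base A t T π)
    (hR : ∀ x ∈ T, x ∈ centralizer (A : Set G) → x = 1 ∨ x = t)
    (hc : ∀ x ∈ T, ∀ v ∈ VV π, x * v = v * x) : TCen t (VV π) := by
  refine ⟨B.t2, fun h => B.tn (VV_le B.P h), VV_sq, fun v hv => B.tV hv, ?_⟩
  intro P hP hPt hVP htP x hx
  have hTP : T ≤ P := by
    intro y hy
    rcases B.mem_E hR hy (hc y hy) with h | h
    · exact hVP h
    · have h1 : y = t * (t * y) := by rw [← mul_assoc, B.t2, one_mul]
      rw [h1]
      exact mul_mem htP (hVP h)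
  have hxT := B.Tmax P hP hTP (fun y hy => (hPt y hy).symm) hx
  exact B.mem_E hR hxT (hc x hxT)

/-- an element of field type with centralising square -/
theorem exists_witness (B : Base A t T π) (hw : ∃ w ∈ T, ∃ v ∈ VV π, w * v ≠ v * w) :
    ∃ w ∈ T, (∃ v ∈ VV π, w * v ≠ v * w) ∧ ∀ v ∈ VV π, (w * w) * v = v * (w * w) := by
  classical
  obtain ⟨w, hwT, hw1⟩ := hw
  have h1 : ∃ n : ℕ, ∀ v ∈ VV π, w ^ (2 ^ n) * v = v * w ^ (2 ^ n) := by
    obtain ⟨m, hm⟩ := B.pow_two_pow hwT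
    refine ⟨m, fun v _ => ?_⟩
    rw [hm, one_mul, mul_one]
  have h3 := Nat.find_spec h1
  have h4 : Nat.find h1 ≠ 0 := by
    intro h
    rw [h, pow_zero, pow_one] at h3
    obtain ⟨v, hv, h5⟩ := hw1
    exact h5 (h3 v hv)
  obtain ⟨m, hm⟩ : ∃ m, Nat.find h1 = m + 1 := ⟨Nat.find h1 - 1, by omega⟩
  refine ⟨w ^ (2 ^ m), pow_mem hwT _, ?_, ?_⟩
  · have h5 := Nat.find_min h1 (show m < Nat.find h1 by omega)
    push Not at h5
    exact h5
  · rw [hm, pow_succ, pow_mul, pow_two] at h3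
    exact h3

/-- **The case of field automorphisms**, assembled: `FieldStart` and the tower. -/
theorem field_case (B : Base A t T π) (h16 : 16 ≤ Nat.card F)
    (hw : ∃ w ∈ T, ∃ v ∈ VV π, w * v ≠ v * w)
    (hZ : ∃ g : G, g * t * g⁻¹ ≠ t ∧ (g * t * g⁻¹) * t = t * (g * t * g⁻¹))
    (gen : commutator G ⊔ zpowers t = ⊤) :
    (∀ x ∈ T, x ∈ centralizer (A : Set G) → x = 1 ∨ x = t) ∧
      FTD t (VV π) T (C0 B.P) ∧ ∃ d ∈ A, Tor t (VV π) d ∧ ∃ U, FOut t (VV π) T d U := by
  obtain ⟨w, hwT, ⟨v0, hv0, hwv⟩, hw2⟩ := B.exists_witness hw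
  obtain ⟨-, hR, -, htr, hnV, -⟩ := Fld.main B.tr (by rw [card_VV B.P]; exact h16) hwT hv0 hwv
    (hw2 v0 hv0) hZ
  have hR' : ∀ x ∈ T, x ∈ centralizer (A : Set G) → x = 1 ∨ x = t := by
    intro x hx hxA
    have h1 : x ∈ zpowers t := by
      rw [← hR]
      exact mem_inf.2 ⟨hx, hxA⟩
    obtain ⟨n, hn⟩ := mem_zpowers_iff.1 h1
    rcases Int.even_or_odd' n with ⟨m, hm | hm⟩
    · left
      rw [← hn, hm, zpow_mul, zpow_two, B.t2, one_zpow]
    · right
      rw [← hn, hm, zpow_add, zpow_mul, zpow_two, B.t2, one_zpow, one_mul, zpow_one]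
  have H := B.ftd h16 hR'
  obtain ⟨d, hdA, hd⟩ := B.exists_tor
  refine ⟨hR', H, d, hdA, hd, ?_⟩
  apply ftower H hd _ gen
  · refine ⟨w, hwT, ?_, ?_⟩
    · intro h
      exact hwv (B.Vcomm h hv0)
    · intro h
      exact hwv (B.cent_of_E (Or.inr h) v0 hv0)
  · intro v hv
    obtain ⟨n, hn, h1⟩ := htr v hv
    exact ⟨n, hnV n hn, h1⟩

end Base

end Cfsg.Agent.StdL2.FrameFT
end
end

-- part: StdL2/FrameAll
section
prune_inst 0x42020045140020000000092110022041400009000200401c5a103420208c1228d0221000c00100158082300000100000000005000000000002004000001012080aa50007381010406009f801084000000000000000000000000000000000004000000000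
set_option linter.all false
open scoped Cfsg.Agent.FastGrp

-- part: StdL2/Ends
section
/-!
# The ends of the tower (S1773, no field automorphism of even order)

`S` is a Sylow 2-subgroup of `G = L⟨t⟩`, `U ≤ L` has index two in `S`, and no conjugate of `t` lies in `U`.
Then `t ∉ L` (Thompson transfer), `U` is a Sylow 2-subgroup of `L`, and if `U` has class at most two then
`L` is of Lie type in characteristic two, by S0506 and S1170.
-/

set_option autoImplicit false
set_option linter.unusedSectionVars false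

namespace Cfsg.Agent.StdL2.Ends

open Cfsg Subgroup Cfsg.Agent.StdL2.Setup Cfsg.Agent.StdL2.Assemble

universe u

/-- The statement S0506. -/
def S0506Stmt : Prop :=
  ∀ (G : Type u) [Group G] [Finite G] [IsSimpleGroup G], ¬ IsMulCommutative G → ∀ (S : Sylow 2 G),
    IsMulCommutative (S : Subgroup G) →
    (∃ a : ℕ, 2 ≤ a ∧ ∃ (F : Type) (_ : Field F) (_ : Fintype F), Fintype.card F = 2 ^ a ∧ Nonempty (G ≃* Matrix.ProjectiveSpecialLinearGroup (Fin 2) F)) ∨
      (∃ (F : Type) (_ : Field F) (_ : Fintype F), (Fintype.card F % 8 = 3 ∨ Fintype.card F % 8 = 5) ∧ Nonempty (G ≃* Matrix.ProjectiveSpecialLinearGroup (Fin 2) F)) ∨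
      Cfsg.IsRee G ∨ Cfsg.IsJ1 G

variable {G : Type u} [Group G] [Finite G] {L A U : Subgroup G} {t : G}

theorem sq_eq_one (C : Conf L A t) : t * t = 1 := by
  have := pow_orderOf_eq_one t
  rwa [C.ht, pow_two] at this

theorem ne_one (C : Conf L A t) : t ≠ 1 := by
  rintro rfl
  have := C.ht
  rw [orderOf_one] at this
  omega

/-- `t ∉ L` if `G` has a normal subgroup of index two not containing `t`. -/
theorem not_mem_of_normal (C : Conf L A t) {M : Subgroup G} (hM : M.Normal) (hi : M.index = 2) (ht : t ∉ M) :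
    t ∉ L := by
  intro htL
  have hs := C.simple
  have : (M.subgroupOf L).Normal := inferInstance
  rcases IsSimpleGroup.eq_bot_or_eq_top_of_normal (M.subgroupOf L) inferInstance with h | h
  · have h1 : (M.subgroupOf L).index ∣ 2 := hi ▸ relIndex_dvd_index_of_normal M L
    rw [h, index_bot] at h1
    apply C.not_comm
    have hp : Fact (Nat.Prime 2) := ⟨Nat.prime_two⟩
    rcases (Nat.dvd_prime Nat.prime_two).1 h1 with h2 | h2
    · have := (Nat.card_eq_one_iff_unique.1 h2).1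
      exact ⟨⟨fun x y => Subsingleton.elim _ _⟩⟩
    · have hc : IsCyclic L := isCyclic_of_prime_card h2
      exact ⟨⟨(IsCyclic.commGroup (α := L)).mul_comm⟩⟩
  · have h1 : L ≤ M := subgroupOf_eq_top.1 h
    exact ht (h1 htL)

/-- Thompson transfer: `t ∉ L`. -/
theorem not_mem (C : Conf L A t) (S : Sylow 2 G) (hU : U ≤ (S : Subgroup G))
    (idx : U.relIndex (S : Subgroup G) = 2) (fus : ∀ g : G, g * t * g⁻¹ ∉ U) : t ∉ L := by
  rcases Cfsg.Agent.Transfer.ThompsonTransfer.thompson_transfer S U hU idx t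
    (by rw [pow_two]; exact sq_eq_one C) with ⟨M, hM, hi, ht⟩ | ⟨g, hg⟩
  · exact not_mem_of_normal C hM hi ht
  · exact absurd hg (fus g)

/-- `S ∩ L = U`. -/
theorem inf_eq (S : Sylow 2 G) (hU : U ≤ (S : Subgroup G)) (idx : U.relIndex (S : Subgroup G) = 2)
    (tS : t ∈ (S : Subgroup G)) (hUL : U ≤ L) (ht : t ∉ L) : (S : Subgroup G) ⊓ L = U := by
  have h1 : U ≤ (S : Subgroup G) ⊓ L := le_inf hU hUL
  have h2 := relIndex_mul_relIndex U ((S : Subgroup G) ⊓ L) (S : Subgroup G) h1 inf_le_left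
  rw [idx] at h2
  have h3 : ((S : Subgroup G) ⊓ L).relIndex (S : Subgroup G) ≠ 1 := by
    intro h
    rw [relIndex_eq_one] at h
    exact ht (h tS).2
  have h4 : U.relIndex ((S : Subgroup G) ⊓ L) = 1 := by
    have h5 : ((S : Subgroup G) ⊓ L).relIndex (S : Subgroup G) ∣ 2 := Dvd.intro_left _ h2
    rcases (Nat.dvd_prime Nat.prime_two).1 h5 with h6 | h6
    · exact absurd h6 h3
    · rw [h6] at h2; omega
  exact le_antisymm (relIndex_eq_one.1 h4) h1

/-- the Sylow 2-subgroup `S ∩ L` of `L` -/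
theorem exists_sylow (C : Conf L A t) (S : Sylow 2 G) (h : (S : Subgroup G) ⊓ L = U) :
    ∃ SL : Sylow 2 L, (SL : Subgroup L) = U.subgroupOf L ∧ Nat.card (SL : Subgroup L) = Nat.card U := by
  have hn := C.normal
  have : Fact (Nat.Prime 2) := ⟨Nat.prime_two⟩
  have hS2 : IsPGroup 2 ((S : Subgroup G).subgroupOf L) :=
    Cfsg.Agent.Lib.SylowNormalInf.isPGroup_subgroupOf S L
  have hidx : ¬ 2 ∣ ((S : Subgroup G).subgroupOf L).index :=
    Cfsg.Agent.Lib.SylowNormalInf.not_dvd_relIndex S L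
  have hSL : ((hS2.toSylow hidx : Sylow 2 L) : Subgroup L) = (S : Subgroup G).subgroupOf L := rfl
  refine ⟨hS2.toSylow hidx, ?_, ?_⟩
  · rw [hSL, ← h]
    ext x
    simp [mem_subgroupOf]
  · rw [hSL]
    have h1 : ((S : Subgroup G).subgroupOf L).map L.subtype = U := by
      rw [Subgroup.subgroupOf_map_subtype, h]
    rw [← h1]
    exact Nat.card_congr (((S : Subgroup G).subgroupOf L).equivMapOfInjective L.subtype
      L.subtype_injective).toEquiv

/-- `16 ∣ |L|`. -/
theorem sixteen_dvd {k : ℕ} {SL : Sylow 2 L} (h : Nat.card (SL : Subgroup L) = 2 ^ k) (h16 : 16 ≤ 2 ^ k) :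
    16 ∣ Nat.card L := by
  have h1 : 4 ≤ k := by
    by_contra hcon
    have : 2 ^ k ≤ 2 ^ 3 := Nat.pow_le_pow_right (by norm_num) (by omega)
    omega
  have h2 : (16 : ℕ) ∣ 2 ^ k := by
    have : (16 : ℕ) = 2 ^ 4 := by norm_num
    rw [this]
    exact pow_dvd_pow 2 h1
  exact h2.trans (h ▸ Subgroup.card_subgroup_dvd_card _)

/-- `|PSL(2,K)|` is not divisible by 8 if `|K| ≡ 3, 5 mod 8`. -/
theorem not_eight_dvd_psl {K : Type*} [Field K] [Fintype K] (hK : Fintype.card K % 8 = 3 ∨ Fintype.card K % 8 = 5) :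
    ¬ 8 ∣ Nat.card (Matrix.ProjectiveSpecialLinearGroup (Fin 2) K) := by
  have h1 := Cfsg.Agent.SmallSimple.PSLTwoPart.card_psl_two_odd (F := K) (by
      rw [Nat.odd_iff]; omega)
  rintro ⟨c, hc⟩
  rw [hc] at h1
  generalize Fintype.card K = r at h1 hK
  rcases hK with hK | hK
  · obtain ⟨d, rfl⟩ : ∃ d, r = 8 * d + 3 := ⟨r / 8, by omega⟩
    have h2 : (8 * d + 3) ^ 2 - 1 = 8 * (8 * d ^ 2 + 6 * d + 1) := by
      rw [Nat.sub_eq_iff_eq_add (by nlinarith only [_root_.Nat.cast_nonneg (α := ℤ) (d)])]; ring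
    rw [h2] at h1
    have h3 : 2 * c = (8 * d + 3) * (8 * d ^ 2 + 6 * d + 1) := by linarith only [h1]
    have h4 : (8 * d + 3) * (8 * d ^ 2 + 6 * d + 1) =
      2 * (32 * d ^ 3 + 36 * d ^ 2 + 13 * d + 1) + 1 := by ring
    omega
  · obtain ⟨d, rfl⟩ : ∃ d, r = 8 * d + 5 := ⟨r / 8, by omega⟩
    have h2 : (8 * d + 5) ^ 2 - 1 = 8 * (8 * d ^ 2 + 10 * d + 3) := by
      rw [Nat.sub_eq_iff_eq_add (by nlinarith only [_root_.Nat.cast_nonneg (α := ℤ) (d)])]; ring
    rw [h2] at h1
    have h3 : 2 * c = (8 * d + 5) * (8 * d ^ 2 + 10 * d + 3) := by linarith only [h1]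
    have h4 : (8 * d + 5) * (8 * d ^ 2 + 10 * d + 3) =
      2 * (32 * d ^ 3 + 60 * d ^ 2 + 37 * d + 7) + 1 := by ring
    omega

/-- the order of a Ree group is not divisible by 16 -/
theorem not_sixteen_dvd_ree (m : ℕ) :
    ¬ 16 ∣ (3 ^ (2 * m + 1)) ^ 3 * ((3 ^ (2 * m + 1)) ^ 3 + 1) * (3 ^ (2 * m + 1) - 1) := by
  -- `3^(2m+1) ≡ 3 mod 8`
  obtain ⟨d, hd⟩ : ∃ d, 3 ^ (2 * m + 1) = 8 * d + 3 := by
    induction m with
    | zero => exact ⟨0, by norm_num⟩
    | succ n ih =>
      obtain ⟨d, hd⟩ := ih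
      refine ⟨9 * d + 3, ?_⟩
      have : 3 ^ (2 * (n + 1) + 1) = 9 * 3 ^ (2 * n + 1) := by ring
      rw [this, hd]; ring
  rw [hd]
  have h1 : 8 * d + 3 - 1 = 2 * (4 * d + 1) := by omega
  rw [h1]
  rintro ⟨c, hc⟩
  have h2 : (8 * d + 3) ^ 3 * ((8 * d + 3) ^ 3 + 1) * (2 * (4 * d + 1)) =
      8 * (((8 * d + 3) ^ 3) * (128 * d ^ 3 + 144 * d ^ 2 + 54 * d + 7) * (4 * d + 1)) := by ring
  rw [h2] at hc
  have h3 : ((8 * d + 3) ^ 3) * (128 * d ^ 3 + 144 * d ^ 2 + 54 * d + 7) * (4 * d + 1) = 2 * c := by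
    have : 8 * (((8 * d + 3) ^ 3) * (128 * d ^ 3 + 144 * d ^ 2 + 54 * d + 7) * (4 * d + 1)) = 8 * (2 * c) := by
      rw [hc]; ring
    exact Nat.eq_of_mul_eq_mul_left (by norm_num) this
  have h4 : Odd (((8 * d + 3) ^ 3) * (128 * d ^ 3 + 144 * d ^ 2 + 54 * d + 7) * (4 * d + 1)) := by
    refine Odd.mul (Odd.mul (Odd.pow ?_) ?_) ?_
    · exact ⟨4 * d + 1, by ring⟩
    · exact ⟨64 * d ^ 3 + 72 * d ^ 2 + 27 * d + 3, by ring⟩
    · exact ⟨2 * d, by ring⟩
  rw [h3] at h4
  exact (Nat.not_odd_iff_even.2 (even_two_mul c)) h4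

/-- the order of a Suzuki group is not divisible by 3 -/
theorem not_three_dvd_suzuki (m : ℕ) :
    ¬ 3 ∣ (2 ^ (2 * m + 1)) ^ 2 * ((2 ^ (2 * m + 1)) ^ 2 + 1) * (2 ^ (2 * m + 1) - 1) := by
  obtain ⟨d, hd⟩ : ∃ d, 2 ^ (2 * m + 1) = 3 * d + 2 := by
    induction m with
    | zero => exact ⟨0, by norm_num⟩
    | succ n ih =>
      obtain ⟨d, hd⟩ := ih
      refine ⟨4 * d + 2, ?_⟩
      have : 2 ^ (2 * (n + 1) + 1) = 4 * 2 ^ (2 * n + 1) := by ring
      rw [this, hd]; ring
  rw [hd]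
  have h1 : 3 * d + 2 - 1 = 3 * d + 1 := by omega
  rw [h1]
  intro h
  rcases (Nat.Prime.dvd_mul Nat.prime_three).mp h with h | h
  · rcases (Nat.Prime.dvd_mul Nat.prime_three).mp h with h | h
    · have := Nat.Prime.dvd_of_dvd_pow Nat.prime_three h
      omega
    · have : (3 * d + 2) ^ 2 + 1 = 3 * (3 * d ^ 2 + 4 * d + 1) + 2 := by ring
      omega
  · omega

/-- `G' ≤ L`. -/
theorem commutator_le_L (C : Conf L A t) : commutator G ≤ L := by
  have hn := C.normal
  have h1 : ∀ g : G, g ∈ L ∨ g * t ∈ L := by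
    intro g
    have hg : g ∈ L ⊔ zpowers t := by rw [C.gen]; exact mem_top g
    obtain ⟨l, hl, z, hz, rfl⟩ := mem_sup_of_normal_left.1 hg
    obtain ⟨n, rfl⟩ := mem_zpowers_iff.1 hz
    have ht2 : t ^ (2 : ℤ) = 1 := by rw [zpow_two]; exact sq_eq_one C
    rcases Int.even_or_odd' n with ⟨k, rfl | rfl⟩
    · left
      rw [zpow_mul, ht2, one_zpow, mul_one]; exact hl
    · right
      rw [zpow_add, zpow_mul, ht2, one_zpow, one_mul, zpow_one, mul_assoc, sq_eq_one C, mul_one]; exact hl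
  have htt := sq_eq_one C
  have hti : t⁻¹ = t := inv_eq_of_mul_eq_one_left htt
  rw [_root_.commutator_def, Subgroup.commutator_le]
  have key : ∀ x ∈ L, ∀ g : G, x * g * x⁻¹ * g⁻¹ ∈ L := fun x hx g => by
    have := mul_mem hx (hn.conj_mem _ (inv_mem hx) g)
    have e : x * (g * x⁻¹ * g⁻¹) = x * g * x⁻¹ * g⁻¹ := by group
    rwa [e] at this
  have key' : ∀ g : G, ∀ x ∈ L, g * x * g⁻¹ * x⁻¹ ∈ L := fun g x hx =>
    mul_mem (hn.conj_mem _ hx g) (inv_mem hx)
  have key2 : ∀ x ∈ L, ∀ g : G, x * t * g * (x * t)⁻¹ * g⁻¹ ∈ L ↔ t * g * t⁻¹ * g⁻¹ ∈ L := by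
    intro x hx g
    have e : x * t * g * (x * t)⁻¹ * g⁻¹ = x * (t * g * t⁻¹ * g⁻¹) * (g * x⁻¹ * g⁻¹) := by group
    rw [e, Subgroup.mul_mem_cancel_right L (hn.conj_mem _ (inv_mem hx) g), Subgroup.mul_mem_cancel_left L hx]
  intro a _ b _
  change a * b * a⁻¹ * b⁻¹ ∈ L
  rcases h1 a with ha | ha
  · exact key a ha b
  rcases h1 b with hb | hb
  · exact key' a b hb
  have ea : a = (a * t) * t := by rw [mul_assoc, htt, mul_one]
  have eb : b = (b * t) * t := by rw [mul_assoc, htt, mul_one]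
  have h2 : b * t * b⁻¹ * t⁻¹ ∈ L := by
    have h4 := (key2 _ hb t).2 (by
      have : t * t * t⁻¹ * t⁻¹ = 1 := by group
      rw [this]; exact one_mem L)
    rwa [← eb] at h4
  have h3 : t * b * t⁻¹ * b⁻¹ ∈ L := by
    have := inv_mem h2
    have e : (b * t * b⁻¹ * t⁻¹)⁻¹ = t * b * t⁻¹ * b⁻¹ := by group
    rwa [e] at this
  have h4 := (key2 _ ha b).2 h3
  rwa [← ea] at h4

/-- **The end of the tower.** -/
theorem lie2_of_end (h0506 : S0506Stmt.{u}) (h1170 : Cfsg.Agent.StdSz.Out.S1170Stmt.{u}) (C : Conf L A t)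
    (h3A : 3 ∣ Nat.card A) (S : Sylow 2 G) (hU : U ≤ (S : Subgroup G)) (idx : U.relIndex (S : Subgroup G) = 2)
    (tS : t ∈ (S : Subgroup G)) (fus : ∀ g : G, g * t * g⁻¹ ∉ U) (hUL : U ≤ L) (h16 : 16 ≤ Nat.card U)
    (hcl : ∀ x ∈ U, ∀ y ∈ U, ∀ z ∈ U, (x * y * x⁻¹ * y⁻¹) * z = z * (x * y * x⁻¹ * y⁻¹)) :
    Lie2 ↥L ∧ t ∉ L := by
  have : Fact (Nat.Prime 2) := ⟨Nat.prime_two⟩
  have ht := not_mem C S hU idx fus
  refine ⟨?_, ht⟩
  have hinf := inf_eq S hU idx tS hUL ht
  obtain ⟨SL, hSL, hcSL⟩ := exists_sylow C S hinf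
  have hs := C.simple
  obtain ⟨k, hk⟩ := (SL.isPGroup').exists_card_eq
  have h16L : 16 ∣ Nat.card L := sixteen_dvd hk (by rw [← hk, hcSL]; exact h16)
  have h3L : 3 ∣ Nat.card L := h3A.trans (Subgroup.card_dvd_of_le C.le)
  have hmem : ∀ x : (SL : Subgroup L), ((x : L) : G) ∈ U := by
    intro x
    have h : (x : L) ∈ U.subgroupOf L := hSL ▸ x.2
    exact mem_subgroupOf.1 h
  by_cases hab : IsMulCommutative (SL : Subgroup L)
  · rcases h0506 L C.not_comm SL hab with ⟨a, ha, K, i1, i2, hK, ⟨e⟩⟩ | ⟨K, i1, i2, hK, ⟨e⟩⟩ | h | h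
    · left
      exact ⟨K, i1, i2, 2, charP_of_card_eq_prime_pow (by rw [hK]), le_rfl, fun _ => by
        rw [hK]
        calc 4 = 2 ^ 2 := by norm_num
          _ ≤ 2 ^ a := Nat.pow_le_pow_right (by norm_num) ha, ⟨e⟩⟩
    · exfalso
      apply not_eight_dvd_psl hK
      rw [← Nat.card_congr e.toEquiv]
      exact (by norm_num : 8 ∣ 16).trans h16L
    · exfalso
      obtain ⟨-, m, -, hm⟩ := h
      rw [hm] at h16L
      exact not_sixteen_dvd_ree m h16L
    · exfalso
      rw [h.2] at h16L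
      omega
  · rcases h1170 L SL (SL : Subgroup L) ⟨le_rfl, fun x _ g hg => hg⟩ hab (by
      rw [Subgroup.commutator_le]
      intro x _ y _
      rw [Subgroup.mem_center_iff]
      intro z
      apply Subtype.ext
      apply Subtype.ext
      exact (hcl _ (hmem x) _ (hmem y) _ (hmem z)).symm) with h | h | h | h | h | h
    · exfalso
      obtain ⟨K, _, _, hK, ⟨e⟩⟩ := h
      have h1 := Cfsg.Agent.SmallSimple.PSLTwoPart.card_psl_two_odd (F := K) (by
        rw [Nat.odd_iff]; omega)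
      rw [← Nat.card_congr e.toEquiv] at h1
      obtain ⟨c, hc⟩ := h16L
      rw [hc] at h1
      generalize Fintype.card K = r at h1 hK
      rcases hK with hK | hK
      · obtain ⟨d, rfl⟩ : ∃ d, r = 16 * d + 7 := ⟨r / 16, by omega⟩
        have h2 : (16 * d + 7) ^ 2 - 1 = 16 * (16 * d ^ 2 + 14 * d + 3) := by
          rw [Nat.sub_eq_iff_eq_add (by nlinarith only [_root_.Nat.cast_nonneg (α := ℤ) (d)])]; ring
        rw [h2] at h1
        have h3 : 2 * c = (16 * d + 7) * (16 * d ^ 2 + 14 * d + 3) := by linarith only [h1]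
        have h4 : (16 * d + 7) * (16 * d ^ 2 + 14 * d + 3) =
          2 * (128 * d ^ 3 + 168 * d ^ 2 + 73 * d + 10) + 1 := by ring
        (clear * - h3 h4; omega)
      · obtain ⟨d, rfl⟩ : ∃ d, r = 16 * d + 9 := ⟨r / 16, by omega⟩
        have h2 : (16 * d + 9) ^ 2 - 1 = 16 * (16 * d ^ 2 + 18 * d + 5) := by
          rw [Nat.sub_eq_iff_eq_add (by nlinarith only [_root_.Nat.cast_nonneg (α := ℤ) (d)])]; ring
        rw [h2] at h1
        have h3 : 2 * c = (16 * d + 9) * (16 * d ^ 2 + 18 * d + 5) := by linarith only [h1]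
        have h4 : (16 * d + 9) * (16 * d ^ 2 + 18 * d + 5) =
          2 * (128 * d ^ 3 + 216 * d ^ 2 + 121 * d + 22) + 1 := by ring
        (clear * - h3 h4; omega)
    · obtain ⟨K, i1, i2, q, hK, hq, hq4, he⟩ := h
      exact Or.inr (Or.inr ⟨K, i1, i2, q, hK, hq, hq4, he⟩)
    · exfalso
      obtain ⟨-, m, -, hm⟩ := h
      rw [hm] at h3L
      exact not_three_dvd_suzuki m h3L
    · obtain ⟨K, i1, i2, hc, he⟩ := h
      exact Or.inl ⟨K, i1, i2, 3, hc, by norm_num, by norm_num, he⟩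
    · obtain ⟨K, i1, i2, hc, h4, he⟩ := h
      exact Or.inr (Or.inl ⟨K, i1, i2, hc, h4, he⟩)
    · exfalso
      obtain ⟨e⟩ := h
      have h1 := Cfsg.Agent.StdSz.OutLie.card_A7
      rw [← Nat.card_congr e.toEquiv] at h1
      omega

/-- The end of the tower, in the form delivered by the tower. -/
theorem lie2_of_tower (h0506 : S0506Stmt.{u}) (h1170 : Cfsg.Agent.StdSz.Out.S1170Stmt.{u}) (C : Conf L A t)
    (h3A : 3 ∣ Nat.card A) (S : Sylow 2 G) (hU : U ≤ (S : Subgroup G)) (idx : U.relIndex (S : Subgroup G) = 2)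
    (tS : t ∈ (S : Subgroup G)) (fus : ∀ g : G, g * t * g⁻¹ ∉ U) (hUG : U ≤ commutator G) (h16 : 16 ≤ Nat.card U)
    (hcl : (∀ x ∈ U, ∀ y ∈ U, x * y = y * x) ∨ ∃ V : Subgroup G, (∀ x ∈ U, ∀ y ∈ U, x * y * x⁻¹ * y⁻¹ ∈ V) ∧
      ∀ v ∈ V, ∀ x ∈ U, v * x = x * v) :
    Lie2 ↥L ∧ t ∉ L := by
  refine lie2_of_end h0506 h1170 C h3A S hU idx tS fus (hUG.trans (commutator_le_L C)) h16 ?_
  rcases hcl with hc | ⟨V, hV1, hV2⟩
  · intro x hx y hy z hz
    exact hc _ (mul_mem (mul_mem (mul_mem hx hy) (inv_mem hx)) (inv_mem hy)) _ hz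
  · intro x hx y hy z hz
    exact hV2 _ (hV1 x hx y hy) z hz

end Cfsg.Agent.StdL2.Ends
end

-- part: StdL2/EndOne
section
/-!
# The end (i) of the tower: `E = ⟨t⟩ × V` is a Sylow 2-subgroup of `G`

Only possible for `q = 4`, `G = L ≃ J₁`.
-/

set_option autoImplicit false
set_option linter.unusedSectionVars false

namespace Cfsg.Agent.StdL2.EndOne

open Cfsg Subgroup Cfsg.Agent.StdL2.Setup Cfsg.Agent.StdL2.Ends

universe u

/-- The statement S1740 (all groups). -/
def S1740Stmt : Prop :=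
  ∀ (G : Type u) [Group G] [Finite G] [IsSimpleGroup G], Cfsg.Agent.StdL2.JOne.Stmt1740 G

variable {G : Type u} [Group G] [Finite G] {L A : Subgroup G} {t : G}

/-- `t` is conjugate to another element of every Sylow 2-subgroup containing it (`Z*`-theorem). -/
theorem exists_conj (C : Conf L A t) (hev : 2 ∣ Nat.card L) (S : Sylow 2 G) (tS : t ∈ (S : Subgroup G)) :
    ∃ g : G, g * t * g⁻¹ ∈ (S : Subgroup G) ∧ g * t * g⁻¹ ≠ t := by
  by_contra hcon
  push Not at hcon
  obtain ⟨N, hN, hodd, hcom⟩ := Cfsg.Agent.S0215.result S t C.ht tS hcon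
  have hs := C.simple
  have hn := C.normal
  rcases IsSimpleGroup.eq_bot_or_eq_top_of_normal (N.subgroupOf L) inferInstance with h | h
  · -- `t` centralises `L`
    have h1 : t ∈ centralizer (L : Set G) := by
      rw [mem_centralizer_iff]
      intro l hl
      have h2 := hcom l
      have h3 : t * l * t⁻¹ * l⁻¹ ∈ L := mul_mem (hn.conj_mem l hl t) (inv_mem hl)
      have h4 : (⟨t * l * t⁻¹ * l⁻¹, h3⟩ : L) ∈ N.subgroupOf L := by
        rw [mem_subgroupOf]
        exact h2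
      rw [h, mem_bot] at h4
      have h5 : t * l * t⁻¹ * l⁻¹ = 1 := congrArg Subtype.val h4
      have h6 : t * l = l * t := by
        have : t * l = (t * l * t⁻¹ * l⁻¹) * (l * t) := by group
        rw [this, h5, one_mul]
      exact h6.symm
    rw [C.cent, mem_bot] at h1
    exact ne_one C h1
  · have h1 : L ≤ N := subgroupOf_eq_top.1 h
    have h2 : 2 ∣ Nat.card N := hev.trans (Subgroup.card_dvd_of_le h1)
    exact (Nat.not_even_iff_odd.2 hodd) (even_iff_two_dvd.2 h2)

/-- The number of conjugates of `t` in a commutative Sylow 2-subgroup is odd. -/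
theorem odd_card_conj (S : Sylow 2 G) (hS : ∀ x ∈ (S : Subgroup G), ∀ y ∈ (S : Subgroup G), x * y = y * x)
    {t : G} (tS : t ∈ (S : Subgroup G)) : Odd (Nat.card {x : G | x ∈ (S : Subgroup G) ∧ ∃ g : G, g * t * g⁻¹ = x}) := by
  classical
  have : Fact (Nat.Prime 2) := ⟨Nat.prime_two⟩
  let N := normalizer ((S : Subgroup G) : Set G)
  -- the conjugacy action of `N`
  let act : MulAction N G := MulAction.compHom G ((MulAut.conj : G →* MulAut G).comp N.subtype)
  have hsm : ∀ (n : N) (x : G), n • x = n * x * (n : G)⁻¹ := fun n x => rfl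
  have horb : (MulAction.orbit N t) = {x : G | x ∈ (S : Subgroup G) ∧ ∃ g : G, g * t * g⁻¹ = x} := by
    ext x
    constructor
    · rintro ⟨n, rfl⟩
      refine ⟨?_, n, rfl⟩
      change (n : G) * t * (n : G)⁻¹ ∈ (S : Subgroup G)
      exact (mem_normalizer_iff.1 n.2 t).1 tS
    · rintro ⟨hx, g, rfl⟩
      have hcomm : IsMulCommutative (S : Subgroup G) := ⟨⟨fun a b => Subtype.ext (hS a a.2 b b.2)⟩⟩
      obtain ⟨n, hn, h⟩ := S.conj_eq_normalizer_conj_of_mem t g⁻¹ tS (by
        rw [inv_inv]; exact hx)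
      refine ⟨⟨n⁻¹, inv_mem hn⟩, ?_⟩
      change n⁻¹ * t * n⁻¹⁻¹ = g * t * g⁻¹
      have h2 : n⁻¹ * t * n = g⁻¹⁻¹ * t * g⁻¹ := h.symm
      rw [inv_inv, h2, inv_inv]
  rw [← horb]
  have h1 : Nat.card (MulAction.orbit N t) = (MulAction.stabilizer N t).index := by
    rw [Subgroup.index]
    exact Nat.card_congr (MulAction.orbitEquivQuotientStabilizer N t)
  change Odd (Nat.card (MulAction.orbit N t))
  rw [h1]
  have h2 : (S : Subgroup G).subgroupOf N ≤ MulAction.stabilizer N t := by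
    intro s hs
    rw [MulAction.mem_stabilizer_iff, hsm, hS _ (mem_subgroupOf.1 hs) _ tS, mul_inv_cancel_right]
  have h3 : (MulAction.stabilizer N t).index ∣ ((S : Subgroup G).subgroupOf N).index := index_dvd_of_le h2
  have h4 : ((S : Subgroup G).subgroupOf N).index ∣ (S : Subgroup G).index := by
    have := relIndex_mul_index (le_normalizer (H := (S : Subgroup G)))
    exact Dvd.intro _ this
  have h5 : Odd (S : Subgroup G).index := Cfsg.Agent.TwoFusion.IndexTwo.odd_index_sylow S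
  exact Odd.of_dvd_nat h5 (h3.trans h4)

/-- **End (i)**: if `E = ⟨t⟩ × V` is a Sylow 2-subgroup of `G` then `q = 4`, `t ∈ L`, and all involutions of `G`
are conjugate to `t`. -/
theorem one_class (C : Conf L A t) {q : ℕ} (hq : Even q) (S : Sylow 2 G)
    (hel : ∀ x ∈ (S : Subgroup G), x * x = 1)
    (tS : t ∈ (S : Subgroup G)) (V : Subgroup G) (hVS : V ≤ (S : Subgroup G)) (hVL : V ≤ L) (htV : t ∉ V)
    (hV : Nat.card V = q) (hq1 : 1 < q) (hi : V.relIndex (S : Subgroup G) = 2)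
    (hd : ∀ v ∈ V, v ≠ 1 → ∀ w ∈ V, w ≠ 1 → ∃ d : G, d * t = t * d ∧ d * v * d⁻¹ = w) :
    t ∈ L ∧ ∀ u : G, orderOf u = 2 → ∃ g, g * t * g⁻¹ = u := by
  classical
  have : Fact (Nat.Prime 2) := ⟨Nat.prime_two⟩
  have hn := C.normal
  have hcomm : ∀ x ∈ (S : Subgroup G), ∀ y ∈ (S : Subgroup G), x * y = y * x := by
    intro x hx y hy
    have h1 : x⁻¹ = x := inv_eq_of_mul_eq_one_left (hel x hx)
    have h2 : y⁻¹ = y := inv_eq_of_mul_eq_one_left (hel y hy)
    have h3 : (x * y)⁻¹ = x * y := inv_eq_of_mul_eq_one_left (hel _ (mul_mem hx hy))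
    rw [← h3, mul_inv_rev, h1, h2]
  have htt := sq_eq_one C
  have hsplit : ∀ x ∈ (S : Subgroup G), x ∉ V → ∃ v ∈ V, x = t * v := by
    intro x hx hxV
    have hidx : (V.subgroupOf (S : Subgroup G)).index = 2 := hi
    have h2 := Subgroup.mul_mem_iff_of_index_two hidx (a := ⟨t, tS⟩) (b := ⟨x, hx⟩)
    rw [mem_subgroupOf, mem_subgroupOf, mem_subgroupOf] at h2
    refine ⟨t * x, h2.2 ⟨fun h => absurd h htV, fun h => absurd h hxV⟩, ?_⟩
    rw [← mul_assoc, htt, one_mul]
  obtain ⟨v0, hv0, hv01⟩ : ∃ v ∈ V, v ≠ 1 := by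
    by_contra hcon
    push Not at hcon
    have : V = ⊥ := by rw [eq_bot_iff]; intro x hx; exact mem_bot.2 (hcon x hx)
    rw [this, card_bot] at hV
    omega
  -- the conjugates of `t` in `S`
  let D : Set G := {x : G | x ∈ (S : Subgroup G) ∧ ∃ g : G, g * t * g⁻¹ = x}
  have hDodd : Odd (Nat.card D) := odd_card_conj S hcomm tS
  have hDconj : ∀ d : G, ∀ x ∈ D, d * x * d⁻¹ ∈ (S : Subgroup G) → d * x * d⁻¹ ∈ D := by
    rintro d x ⟨-, g, rfl⟩ h
    exact ⟨h, d * g, by group⟩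
  have hVne : ∀ v ∈ V, v ∈ D → ∀ w ∈ V, w ≠ 1 → w ∈ D := by
    intro v hv hvD w hw hw1
    have hv1 : v ≠ 1 := by
      rintro rfl
      obtain ⟨-, g, hg⟩ := hvD
      rw [mul_inv_eq_one, mul_eq_left] at hg
      exact ne_one C hg
    obtain ⟨d, -, hd2⟩ := hd v hv hv1 w hw hw1
    rw [← hd2]
    exact hDconj d v hvD (by rw [hd2]; exact hVS hw)
  have htVne : ∀ v ∈ V, v ≠ 1 → t * v ∈ D → ∀ w ∈ V, w ≠ 1 → t * w ∈ D := by
    intro v hv hv1 hvD w hw hw1
    obtain ⟨d, hd1, hd2⟩ := hd v hv hv1 w hw hw1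
    have e : d * (t * v) * d⁻¹ = t * w := by
      rw [← hd2, ← mul_assoc, hd1]; group
    rw [← e]
    exact hDconj d _ hvD (by rw [e]; exact mul_mem tS (hVS hw))
  have htD : t ∈ D := ⟨tS, 1, by group⟩
  have hcardV : Nat.card (V : Set G) = q := hV
  -- the two kinds of fusion
  have hA : ∃ v ∈ V, v ∈ D := by
    by_contra hcon
    push Not at hcon
    -- then `D = tV`
    obtain ⟨g, hg1, hg2⟩ := exists_conj C (by
      have h1 : 2 ∣ Nat.card V := hV ▸ hq.two_dvd
      exact h1.trans (Subgroup.card_dvd_of_le hVL)) S tS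
    have hgD : g * t * g⁻¹ ∈ D := ⟨hg1, g, rfl⟩
    obtain ⟨v, hv, hgv⟩ := hsplit _ hg1 (fun h => hcon _ h hgD)
    have hv1 : v ≠ 1 := by
      rintro rfl
      rw [mul_one] at hgv
      exact hg2 hgv
    rw [hgv] at hgD
    have hDeq : D = (fun v => t * v) '' (V : Set G) := by
      ext x
      constructor
      · intro hx
        obtain ⟨w, hw, rfl⟩ := hsplit x hx.1 (fun h => hcon x h hx)
        exact ⟨w, hw, rfl⟩
      · rintro ⟨w, hw, rfl⟩
        by_cases hw1 : w = 1
        · rw [hw1]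
          change t * 1 ∈ D
          rw [mul_one]; exact htD
        · exact htVne v hv hv1 hgD w hw hw1
    rw [hDeq, Nat.card_image_of_injective (mul_right_injective t), hcardV] at hDodd
    exact (Nat.not_odd_iff_even.2 hq) hDodd
  obtain ⟨v, hv, hvD⟩ := hA
  have htL : t ∈ L := by
    obtain ⟨-, g, hg⟩ := hvD
    have h1 : g * t * g⁻¹ ∈ L := by rw [hg]; exact hVL hv
    have h2 := hn.conj_mem _ h1 g⁻¹
    have e : g⁻¹ * (g * t * g⁻¹) * g⁻¹⁻¹ = t := by group
    rwa [e] at h2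
  refine ⟨htL, ?_⟩
  -- some `t v`, `v ≠ 1`, belongs to `D`
  have hB : ∃ w ∈ V, w ≠ 1 ∧ t * w ∈ D := by
    by_contra hcon
    push Not at hcon
    have hDeq : D = insert t ((V : Set G) \ {1}) := by
      ext x
      constructor
      · intro hx
        by_cases hxV : x ∈ V
        · right
          refine ⟨hxV, ?_⟩
          rintro rfl
          obtain ⟨-, g, hg⟩ := hx
          rw [mul_inv_eq_one, mul_eq_left] at hg
          exact ne_one C hg
        · left
          obtain ⟨w, hw, rfl⟩ := hsplit x hx.1 hxV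
          by_contra hne
          apply hcon w hw _ hx
          rintro rfl
          exact hne (mul_one t)
      · rintro (rfl | ⟨hx, hx1⟩)
        · exact htD
        · exact hVne v hv hvD x hx hx1
    have hc : Nat.card D = q := by
      rw [hDeq]
      rw [Nat.card_coe_set_eq, Set.ncard_insert_of_notMem (fun h => htV h.1) (Set.toFinite _),
        Set.ncard_sdiff_singleton_of_mem (one_mem V), ← Nat.card_coe_set_eq, hcardV]
      omega
    rw [hc] at hDodd
    exact (Nat.not_odd_iff_even.2 hq) hDodd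
  obtain ⟨w, hw, hw1, hwD⟩ := hB
  intro u hu
  -- `u` is conjugate into `S`
  have hup : IsPGroup 2 (zpowers u) := by
    rw [IsPGroup.iff_card]
    exact ⟨1, by rw [Nat.card_zpowers, hu, pow_one]⟩
  obtain ⟨T, hT⟩ := hup.exists_le_sylow
  obtain ⟨c, hc⟩ := MulAction.exists_smul_eq G T S
  have h1 : c * u * c⁻¹ ∈ (S : Subgroup G) := by
    rw [← hc]
    exact ⟨u, hT (mem_zpowers u), rfl⟩
  have hu1 : u ≠ 1 := by
    rintro rfl
    rw [orderOf_one] at hu; omega
  have h2 : c * u * c⁻¹ ∈ D := by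
    by_cases hV' : c * u * c⁻¹ ∈ V
    · refine hVne v hv hvD _ hV' ?_
      intro h
      rw [mul_inv_eq_one, mul_eq_left] at h
      exact hu1 h
    · obtain ⟨x, hx, hcx⟩ := hsplit _ h1 hV'
      rw [hcx]
      by_cases hx1 : x = 1
      · rw [hx1, mul_one]; exact htD
      · exact htVne w hw hw1 hwD x hx hx1
  obtain ⟨-, g, hg⟩ := h2
  refine ⟨c⁻¹ * g, ?_⟩
  have e : c⁻¹ * g * t * (c⁻¹ * g)⁻¹ = c⁻¹ * (g * t * g⁻¹) * c := by group
  rw [e, hg]; group

/-- **End (i)** of the tower: `q = 4` and `L ≃ J₁`. -/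
theorem isoJ1_of_end (h0506 : S0506Stmt.{u}) (h1740 : S1740Stmt.{u}) (C : Conf L A t) {a : ℕ} (ha : 2 ≤ a)
    (hAs : IsSimpleGroup A) (hAc : Nat.card A = 2 ^ a * ((2 ^ a) ^ 2 - 1)) (S : Sylow 2 G)
    (hel : ∀ x ∈ (S : Subgroup G), x * x = 1)
    (tS : t ∈ (S : Subgroup G)) (V : Subgroup G) (hVS : V ≤ (S : Subgroup G)) (hVL : V ≤ L) (htV : t ∉ V)
    (hV : Nat.card V = 2 ^ a) (hi : V.relIndex (S : Subgroup G) = 2)
    (hd : ∀ v ∈ V, v ≠ 1 → ∀ w ∈ V, w ≠ 1 → ∃ d : G, d * t = t * d ∧ d * v * d⁻¹ = w) :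
    a = 2 ∧ Cfsg.Spor.IsoJ1 ↥L := by
  have : Fact (Nat.Prime 2) := ⟨Nat.prime_two⟩
  have hq2 : 4 ≤ 2 ^ a := by
    calc 4 = 2 ^ 2 := by norm_num
      _ ≤ 2 ^ a := Nat.pow_le_pow_right (by norm_num) ha
  obtain ⟨htL, hone⟩ := one_class C (q := 2 ^ a) (Nat.even_pow.2 ⟨by norm_num, by omega⟩) S hel tS V hVS hVL htV hV
    (by omega) hi hd
  -- `L = G`
  have hLtop : L = ⊤ := by
    rw [← C.gen]
    exact (sup_eq_left.2 (zpowers_le.2 htL)).symm
  have hs : IsSimpleGroup G := by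
    have := C.simple
    rw [hLtop] at this
    exact Subgroup.topEquiv.symm.isSimpleGroup
  have hcomm : ∀ x ∈ (S : Subgroup G), ∀ y ∈ (S : Subgroup G), x * y = y * x := by
    intro x hx y hy
    have h1 : x⁻¹ = x := inv_eq_of_mul_eq_one_left (hel x hx)
    have h2 : y⁻¹ = y := inv_eq_of_mul_eq_one_left (hel y hy)
    have h3 : (x * y)⁻¹ = x * y := inv_eq_of_mul_eq_one_left (hel _ (mul_mem hx hy))
    rw [← h3, mul_inv_rev, h1, h2]
  have hna : ¬ IsMulCommutative G := by
    intro hc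
    apply C.not_comm
    exact ⟨⟨fun x y => Subtype.ext (hc.is_comm.comm (x : G) y)⟩⟩
  have hScard : Nat.card (S : Subgroup G) = 2 ^ (a + 1) := by
    have h1 := Cfsg.Agent.Lib.SylowNormalInf.card_mul_relIndex V (S : Subgroup G) hVS
    rw [hi, hV] at h1
    rw [← h1, pow_succ]
  have hAdvd : Nat.card A ∣ Nat.card G := Subgroup.card_subgroup_dvd_card A
  have hSdvd : 2 ^ (a + 1) ∣ Nat.card G := hScard ▸ Subgroup.card_subgroup_dvd_card _
  have hSnot : ¬ 2 ^ (a + 2) ∣ Nat.card G := by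
    intro h
    have h1 := S.card_eq_multiplicity
    have h2 : 2 ^ (a + 1) = 2 ^ (Nat.card G).factorization 2 := by rw [← h1]; exact hScard.symm
    have h3 := Nat.pow_right_injective le_rfl h2
    rw [Nat.prime_two.pow_dvd_iff_le_factorization Nat.card_pos.ne'] at h
    omega
  have ha2 : a = 2 := by
    by_contra hne
    have ha3 : 3 ≤ a := by omega
    have h16 : 16 ∣ Nat.card G := by
      refine Dvd.dvd.trans ?_ hSdvd
      have : (16 : ℕ) = 2 ^ 4 := by norm_num
      rw [this]; exact pow_dvd_pow 2 (by omega)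
    rcases h0506 G hna S ⟨⟨fun x y => Subtype.ext (hcomm x x.2 y y.2)⟩⟩ with
      ⟨n, hn, K, i1, i2, hK, ⟨e⟩⟩ | ⟨K, i1, i2, hK, ⟨e⟩⟩ | h | h
    · have hch : CharP K 2 := charP_of_card_eq_prime_pow (by rw [hK])
      have hc := Cfsg.Agent.Classification.PSLTwoEvenSylow.card_psl (F := K)
      rw [← Nat.card_congr e.toEquiv, hK] at hc
      -- `n = a + 1`
      have hna1 : n = a + 1 := by
        have hodd : ¬ 2 ∣ (2 ^ n) ^ 2 - 1 := by
          have h1 : 1 ≤ (2 ^ n) ^ 2 := Nat.one_le_pow _ _ (by positivity)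
          have h2 : 2 ∣ (2 ^ n) ^ 2 := by
            rw [← pow_mul]; exact dvd_pow_self 2 (by omega)
          omega
        apply le_antisymm
        · by_contra hcon
          apply hSnot
          rw [hc]
          exact (pow_dvd_pow 2 (by omega)).mul_right _
        · rw [hc] at hSdvd
          have h1 : Nat.Coprime (2 ^ (a + 1)) ((2 ^ n) ^ 2 - 1) :=
            (Nat.Coprime.pow_left _ ((Nat.Prime.coprime_iff_not_dvd Nat.prime_two).2 hodd))
          have h2 := h1.dvd_of_dvd_mul_right hSdvd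
          exact (Nat.pow_dvd_pow_iff_le_right (by norm_num)).1 h2
      rw [hc, hAc, hna1] at hAdvd
      -- `q² - 1 ∣ 2 (4 q² - 1)`
      have h1 : (2 ^ (a + 1)) = 2 * 2 ^ a := by rw [pow_succ]; ring
      rw [h1] at hAdvd
      generalize 2 ^ a = q at hAdvd hq2
      obtain ⟨k, hk⟩ : ∃ k, q ^ 2 = k + 1 := ⟨q ^ 2 - 1, by have : 1 ≤ q ^ 2 := Nat.one_le_pow _ _ (by omega); omega⟩
      have h2 : q ^ 2 - 1 = k := by omega
      have h3 : (2 * q) ^ 2 - 1 = 4 * k + 3 := by
        have : (2 * q) ^ 2 = 4 * q ^ 2 := by ring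
        (clear * - hk this; omega)
      rw [h2, h3] at hAdvd
      have h4 : q * k ∣ q * (2 * (4 * k + 3)) := by
        have : 2 * q * (4 * k + 3) = q * (2 * (4 * k + 3)) := by ring
        rwa [this] at hAdvd
      have h5 : k ∣ 2 * (4 * k + 3) := Nat.dvd_of_mul_dvd_mul_left (by omega) h4
      have h6 : k ∣ 6 := by
        have e : 2 * (4 * k + 3) = k * 8 + 6 := by ring
        rw [e] at h5
        exact (Nat.dvd_add_right (Dvd.intro _ rfl)).1 h5
      have h7 := Nat.le_of_dvd (by norm_num) h6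
      have h8 : 16 ≤ q ^ 2 := by nlinarith only [hq2]
      omega
    · apply not_eight_dvd_psl hK
      rw [← Nat.card_congr e.toEquiv]
      exact (by norm_num : 8 ∣ 16).trans h16
    · obtain ⟨-, m, -, hm⟩ := h
      rw [hm] at h16
      exact not_sixteen_dvd_ree m h16
    · rw [h.2] at h16
      omega
  refine ⟨ha2, ?_⟩
  subst ha2
  have hJ : Cfsg.Spor.IsoJ1 G := by
    refine Cfsg.Agent.StdL2.JOne.isoJ1_of (h1740 G) S (by rw [hScard]; norm_num) hel C.ht hone A
      (by rw [hAc]; norm_num) ?_ ?_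
    · intro a ha
      exact (mem_centralizer_iff.1 C.htA a ha)
    · intro g hg a ha
      have h1 : g ∈ normalizer (A : Set G) := by
        apply Cfsg.Agent.SignalizersComponents.StandardTools.centralizer_le_of_even C.std
          (M := zpowers t) (zpowers_le.2 C.htA)
        · rw [Nat.card_zpowers, C.ht]; decide
        · rw [mem_centralizer_iff]
          rintro _ ⟨n, rfl⟩
          exact ((show Commute g t from hg).zpow_right n).eq.symm
      exact (mem_normalizer_iff.1 h1 a).1 ha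
  obtain ⟨e⟩ := hJ
  rw [hLtop]
  exact ⟨Subgroup.topEquiv.trans e⟩

end Cfsg.Agent.StdL2.EndOne
end

-- part: StdL2/FrameConf
section
/-!
# S1773: from the reduced configuration to the local data
-/

set_option autoImplicit false
set_option linter.unusedSectionVars false
set_option linter.style.haveILetI false
set_option Elab.async false

namespace Cfsg.Agent.StdL2.FrameFT

open scoped commutatorElement

open Cfsg Subgroup Cfsg.Agent.StdL2 Cfsg.Agent.StdL2.Setup Cfsg.Agent.StdL2.Frame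
  Cfsg.Agent.StdL2.Field Cfsg.Agent.StdL2.FieldStart Cfsg.Agent.StdL2.FT
open Cfsg.Agent.Lib.SL2Mat Cfsg.Agent.Lib.AutSL2
open Cfsg.Agent.Lib.GoldschmidtFusion (lt_inf_normalizer)

local notation "SL2" => Matrix.SpecialLinearGroup (Fin 2)

universe u

variable {F : Type*} [Field F] [Finite F] [CharP F 2] {G : Type u} [Group G] [Finite G]
  {L A T : Subgroup G} {t : G} {π : SL2 F →* G}

/-- The Sylow 2-subgroup `T` of `C(t)`. -/
theorem exists_base (C : Conf L A t) (P : IsPar A π) :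
    ∃ T, Base A t T π ∧ IsSyl (centralizer ({t} : Set G)) T := by
  have hVt : VV π ≤ centralizer ({t} : Set G) := fun v hv =>
    mem_centralizer_singleton_iff.2 (mem_centralizer_iff.1 C.htA v (VV_le P hv))
  have hV2 : IsPGroup 2 (VV π) := by
    intro x
    refine ⟨1, Subtype.ext ?_⟩
    show (x : G) ^ (2 ^ 1) = 1
    rw [pow_one, pow_two]
    exact VV_sq (x : G) x.2
  obtain ⟨T, hT, hVT⟩ := exists_isSyl (centralizer ({t} : Set G)) (VV π) hV2 hVt
  refine ⟨T, ⟨P, tt C, t_ne_one C, C.htA, cent_le C, C.cyc, hT.1,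
    fun x hx => mem_centralizer_singleton_iff.1 (hT.2.1 hx), ?_, hVT⟩, hT⟩
  intro Q hQ hTQ hQt
  exact hT.2.2 Q hQ hTQ (fun x hx => mem_centralizer_singleton_iff.2 (hQt x hx))

/-- `L ≤ G'` -/
theorem le_commutator (C : Conf L A t) : L ≤ commutator G := by
  have hs := C.simple
  have hp : commutator ↥L = ⊤ := by
    rcases IsSimpleGroup.eq_bot_or_eq_top_of_normal (commutator ↥L) inferInstance with h | h
    · exfalso
      apply C.not_comm
      refine ⟨⟨fun a b => ?_⟩⟩
      have h1 : ⁅a, b⁆ ∈ commutator ↥L :=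
        commutator_mem_commutator (mem_top _) (mem_top _)
      rw [h, mem_bot] at h1
      exact commutatorElement_eq_one_iff_mul_comm.1 h1
    · exact h
  have h1 : (commutator ↥L).map L.subtype ≤ commutator G := by
    rw [_root_.commutator_def, map_commutator]
    exact commutator_mono le_top le_top
  rw [hp] at h1
  intro x hx
  exact h1 ⟨⟨x, hx⟩, mem_top _, rfl⟩

theorem gen (C : Conf L A t) : commutator G ⊔ zpowers t = ⊤ := by
  rw [eq_top_iff, ← C.gen]
  exact sup_le_sup_right (le_commutator C) _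

theorem even_L (C : Conf L A t) (P : IsPar A π) : 2 ∣ Nat.card L := by
  have h1 : π (up 1) ∈ L := C.le (P.mem _)
  have h2 : orderOf (⟨π (up 1), h1⟩ : L) = 2 := by
    apply orderOf_eq_prime
    · apply Subtype.ext
      show π (up 1) ^ 2 = 1
      rw [pow_two]
      exact VV_sq _ (up_mem_VV 1)
    · intro h
      have h3 : π (up (1 : F)) = 1 := congrArg Subtype.val h
      have h4 : (up (1 : F)) = up 0 := P.inj (by rw [h3, up_zero, map_one])
      exact one_ne_zero (up_inj h4)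
  rw [← h2]
  exact _root_.orderOf_dvd_natCard _

/-- `t` commutes with another conjugate of itself (`Z*`-theorem). -/
theorem exists_comm_conj (C : Conf L A t) (hev : 2 ∣ Nat.card L) :
    ∃ g : G, g * t * g⁻¹ ≠ t ∧ (g * t * g⁻¹) * t = t * (g * t * g⁻¹) := by
  have h1 : IsPGroup 2 (zpowers t) := by
    intro x
    obtain ⟨z, hz⟩ := mem_zpowers_iff.1 x.2
    refine ⟨1, Subtype.ext ?_⟩
    show (x : G) ^ (2 ^ 1) = 1
    rw [← hz, pow_one, pow_two, ← (Commute.refl t).mul_zpow z, tt C, one_zpow]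
  obtain ⟨S, hS⟩ := h1.exists_le_sylow
  have htS : t ∈ (S : Subgroup G) := hS (mem_zpowers t)
  set D := (S : Subgroup G) ⊓ centralizer ({t} : Set G) with hD
  by_cases hDS : D = (S : Subgroup G)
  · obtain ⟨g, hg1, hg2⟩ := EndOne.exists_conj C hev S htS
    refine ⟨g, hg2, ?_⟩
    have h2 : g * t * g⁻¹ ∈ D := by rw [hDS]; exact hg1
    exact mem_centralizer_singleton_iff.1 h2.2
  · have hlt : D < (S : Subgroup G) := lt_of_le_of_ne inf_le_left hDS
    obtain ⟨y, hy, hyD⟩ := SetLike.exists_of_lt (lt_inf_normalizer S.isPGroup' hlt)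
    have htD : t ∈ D := ⟨htS, mem_centralizer_singleton_iff.2 rfl⟩
    have h2 : y * t * y⁻¹ ∈ D := (mem_normalizer_iff.1 hy.2 t).1 htD
    refine ⟨y, ?_, mem_centralizer_singleton_iff.1 h2.2⟩
    intro h
    apply hyD
    rw [mul_inv_eq_iff_eq_mul] at h
    exact ⟨hy.1, mem_centralizer_singleton_iff.2 h⟩

/-- **The case of field automorphisms**, from the reduced configuration. -/
theorem field_case (C : Conf L A t) (B : Base A t T π) (h16 : 16 ≤ Nat.card F)
    (hw : ∃ w ∈ T, ∃ v ∈ VV π, w * v ≠ v * w) :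
    (∀ x ∈ T, x ∈ centralizer (A : Set G) → x = 1 ∨ x = t) ∧
      FTD t (VV π) T (C0 B.P) ∧ ∃ d ∈ A, Tor t (VV π) d ∧ ∃ U, FOut t (VV π) T d U :=
  B.field_case h16 hw (exists_comm_conj C (even_L C B.P)) (gen C)

end Cfsg.Agent.StdL2.FrameFT
end

-- part: StdL2/FrameZero
section
/-!
# S1773: the case without field automorphisms of even order

`zero_case`: if the Sylow 2-subgroup `T` of `C(t)` centralises the root group `V` of `A`, then the
conclusion of S1773 holds or the exceptional case `Exc` of the tower (`q = 8`) occurs.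
-/

set_option autoImplicit false
set_option linter.unusedSectionVars false
set_option linter.style.haveILetI false
set_option Elab.async false

namespace Cfsg.Agent.StdL2.FrameFT

open scoped commutatorElement

open Cfsg Subgroup Cfsg.Agent.StdL2 Cfsg.Agent.StdL2.Setup Cfsg.Agent.StdL2.Frame
  Cfsg.Agent.StdL2.Field Cfsg.Agent.StdL2.FieldStart Cfsg.Agent.StdL2.FT Cfsg.Agent.StdL2.Assemble
open Cfsg.Agent.Lib.SL2Mat Cfsg.Agent.Lib.AutSL2
open Cfsg.Agent.Lib.GoldschmidtFusion (lt_inf_normalizer)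

local notation "SL2" => Matrix.SpecialLinearGroup (Fin 2)

universe u

variable {F : Type*} [Field F] [Fintype F] [CharP F 2] {G : Type u} [Group G] [Finite G]
  {L A T : Subgroup G} {t : G} {π : SL2 F →* G}

/-- an element of `C_T(A)` of order at least four has a power whose square is `t` -/
theorem exists_root (C : Conf L A t) (B : Base A t T π) {r : G} (hr : r ∈ T)
    (hrA : r ∈ centralizer (A : Set G)) (h1 : r ≠ 1) (ht : r ≠ t) :
    ∃ s ∈ T, s ∈ centralizer (A : Set G) ∧ s * s = t := by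
  classical
  have hex : ∃ n : ℕ, r ^ (2 ^ n) = 1 := B.pow_two_pow hr
  have h2 := Nat.find_spec hex
  have h3 : Nat.find hex ≠ 0 := by
    intro h
    rw [h, pow_zero, pow_one] at h2
    exact h1 h2
  obtain ⟨m, hm⟩ : ∃ m, Nat.find hex = m + 1 := ⟨Nat.find hex - 1, by omega⟩
  have h4 : r ^ (2 ^ m) ≠ 1 := Nat.find_min hex (by omega)
  have h5 : r ^ (2 ^ m) = t := by
    apply involution_eq C (pow_mem hrA _)
    · exact B.Tt _ (pow_mem hr _)
    · rw [← pow_two, ← pow_mul, ← pow_succ, ← hm]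
      exact h2
    · exact h4
  cases m with
  | zero =>
    exfalso
    rw [pow_zero, pow_one] at h5
    exact ht h5
  | succ m =>
    refine ⟨r ^ (2 ^ m), pow_mem hr _, pow_mem hrA _, ?_⟩
    rw [← pow_two, ← pow_mul, ← pow_succ]
    exact h5

/-- `C_T(A) = ⟨t⟩` if `T` centralises the root group. -/
theorem R_eq (C : Conf L A t) (B : Base A t T π) (hc : ∀ x ∈ T, ∀ v ∈ VV π, x * v = v * x) :
    ∀ x ∈ T, x ∈ centralizer (A : Set G) → x = 1 ∨ x = t := by
  intro r hr hrA
  by_contra hcon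
  push Not at hcon
  obtain ⟨s, hsT, hsA, hst⟩ := exists_root C B hr hrA hcon.1 hcon.2
  have hfld := B.fld
  -- `T` is commutative
  have hRc : ∀ x ∈ T ⊓ centralizer (A : Set G), ∀ y ∈ T ⊓ centralizer (A : Set G),
      x * y = y * x := by
    have hcy := hfld.Rcyc
    intro x hx y hy
    have hg : ∀ a b : (T ⊓ centralizer (A : Set G) : Subgroup G), a * b = b * a := by
      intro a b
      exact (IsCyclic.commGroup (α := (T ⊓ centralizer (A : Set G) : Subgroup G))).mul_comm a b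
    exact congrArg Subtype.val (hg ⟨x, hx⟩ ⟨y, hy⟩)
  have hTc : ∀ x ∈ T, ∀ y ∈ T, x * y = y * x := by
    intro x hx y hy
    obtain ⟨a, ha, v, hv, rfl⟩ := B.cent x hx (hc x hx)
    obtain ⟨b, hb, w, hw, rfl⟩ := B.cent y hy (hc y hy)
    have e1 : v * b = b * v := (hc b hb.1 v hv).symm
    have e2 : w * a = a * w := (hc a ha.1 w hw).symm
    have e3 : a * b = b * a := hRc a ha b hb
    have e4 : v * w = w * v := B.Vcomm hv hw
    calc a * v * (b * w) = a * (v * b) * w := by group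
      _ = (a * b) * (v * w) := by rw [e1]; group
      _ = b * (a * w) * v := by rw [e3, e4]; group
      _ = b * w * (a * v) := by rw [← e2]; group
  -- the normaliser of `T` centralises `t`
  have hN : ∀ n ∈ normalizer (T : Set G), n * t = t * n := by
    intro n hn
    have h1 : n * s * n⁻¹ ∈ T := (mem_normalizer_iff.1 hn s).1 hsT
    obtain ⟨a, ha, v, hv, h2⟩ := B.cent _ h1 (hc _ h1)
    have h3 : n * t * n⁻¹ = a * a := by
      have e1 : n * t * n⁻¹ = (n * s * n⁻¹) * (n * s * n⁻¹) := by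
        rw [← hst]; group
      have e2 : v * a = a * v := (hc a ha.1 v hv).symm
      rw [e1, h2]
      calc a * v * (a * v) = a * (v * a) * v := by group
        _ = (a * a) * (v * v) := by rw [e2]; group
        _ = a * a := by rw [VV_sq v hv, mul_one]
    have h4 : n * t * n⁻¹ = t := by
      apply involution_eq C
      · rw [h3]
        exact mul_mem ha.2 ha.2
      · rw [h3]
        exact B.Tt _ (mul_mem ha.1 ha.1)
      · have : n * t * n⁻¹ * (n * t * n⁻¹) = n * (t * t) * n⁻¹ := by group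
        rw [this, B.t2]; group
      · intro h
        rw [mul_inv_eq_one, mul_eq_left] at h
        exact B.t1 h
    rwa [mul_inv_eq_iff_eq_mul] at h4
  -- `T` is a Sylow 2-subgroup of `G`
  obtain ⟨S, hTS⟩ := B.T2.exists_le_sylow
  have hTeq : T = (S : Subgroup G) := by
    by_contra hne
    have hlt : T < (S : Subgroup G) := lt_of_le_of_ne hTS hne
    obtain ⟨y, hy, hyT⟩ := SetLike.exists_of_lt (lt_inf_normalizer S.isPGroup' hlt)
    have hyt := hN y hy.2
    have hP : IsPGroup 2 (T ⊔ zpowers y : Subgroup G) :=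
      S.isPGroup'.to_le (sup_le hTS (by rw [zpowers_le]; exact hy.1))
    apply hyT
    apply B.Tmax _ hP le_sup_left _ (mem_sup_right (mem_zpowers y))
    have h4 : T ⊔ zpowers y ≤ centralizer ({t} : Set G) := by
      rw [sup_le_iff, zpowers_le]
      exact ⟨fun x hx => mem_centralizer_singleton_iff.2 (B.Tt x hx),
        mem_centralizer_singleton_iff.2 hyt⟩
    intro x hx
    exact mem_centralizer_singleton_iff.1 (h4 hx)
  have htS : t ∈ (S : Subgroup G) := hTeq ▸ B.tT
  obtain ⟨g, hg1, hg2⟩ := EndOne.exists_conj C (even_L C B.P) S htS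
  have hcomm : IsMulCommutative (S : Subgroup G) :=
    ⟨⟨fun a b => Subtype.ext (hTc a (hTeq ▸ a.2) b (hTeq ▸ b.2))⟩⟩
  haveI : Fact (Nat.Prime 2) := ⟨Nat.prime_two⟩
  obtain ⟨n, hn, h⟩ := S.conj_eq_normalizer_conj_of_mem t g⁻¹ htS (by rw [inv_inv]; exact hg1)
  apply hg2
  rw [inv_inv] at h
  have hn' : n ∈ normalizer (T : Set G) := by rw [hTeq]; exact hn
  rw [h, mul_assoc, ← hN n hn', inv_mul_cancel_left]

theorem card_A (P : IsPar A π) : Nat.card A = Fintype.card F * (Fintype.card F ^ 2 - 1) := by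
  have h1 : Nat.card A = Nat.card π.range := by rw [P.range]
  rw [h1, ← Nat.card_congr (MonoidHom.ofInjective P.inj).toEquiv,
    Cfsg.Agent.ClassicalGeometry.PSL2Basic.card_SL2]

theorem simple_A (P : IsPar A π) (h4 : 4 ≤ Fintype.card F) : IsSimpleGroup A := by
  have h1 := Cfsg.Agent.TwoFusion.SLTwoFacts.isSimpleGroup_psl (F := F) (by omega)
  obtain ⟨e⟩ := WeakTI.PslTwo.nonempty_equiv (F := F)
  have h2 : IsSimpleGroup (SL2 F) := e.isSimpleGroup
  have h3 : IsSimpleGroup π.range := (MonoidHom.ofInjective P.inj).symm.isSimpleGroup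
  rw [P.range] at h3
  exact h3

theorem three_dvd (P : IsPar A π) {a : ℕ} (hF : Fintype.card F = 2 ^ a) : 3 ∣ Nat.card A := by
  rw [card_A P, hF]
  apply Dvd.dvd.mul_left
  rw [← pow_mul, mul_comm, pow_mul]
  have h1 : (2 ^ 2 : ℕ) ^ a % 3 = 1 := by
    rw [Nat.pow_mod]
    norm_num
  have h2 : 1 ≤ (2 ^ 2 : ℕ) ^ a := Nat.one_le_pow _ _ (by norm_num)
  omega

/-- index two -/
theorem relIndex_two {U : Subgroup G} {S : Sylow 2 G} (t2 : t * t = 1) (htU : t ∉ U)
    (hS : ∀ x, x ∈ S ↔ x ∈ U ∨ t * x ∈ U) (hnorm : ∀ u ∈ U, t * u * t⁻¹ ∈ U) :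
    U ≤ (S : Subgroup G) ∧ t ∈ (S : Subgroup G) ∧ U.relIndex (S : Subgroup G) = 2 := by
  have htS : t ∈ (S : Subgroup G) := (hS t).2 (Or.inr (by rw [t2]; exact one_mem _))
  have hUS : U ≤ (S : Subgroup G) := fun x hx => (hS x).2 (Or.inl hx)
  have hti : t⁻¹ = t := inv_eq_of_mul_eq_one_left t2
  refine ⟨hUS, htS, ?_⟩
  rw [Subgroup.relIndex, Subgroup.index_eq_two_iff]
  refine ⟨⟨t, htS⟩, ?_⟩
  rintro ⟨b, hb⟩
  rw [mem_subgroupOf, mem_subgroupOf]
  show Xor' (b * t ∈ U) (b ∈ U)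
  by_cases hbU : b ∈ U
  · right
    refine ⟨hbU, fun h => htU ?_⟩
    have h1 := mul_mem (inv_mem hbU) h
    rwa [inv_mul_cancel_left] at h1
  · left
    refine ⟨?_, hbU⟩
    have h1 := ((hS b).1 hb).resolve_left hbU
    have h2 := hnorm _ h1
    have h3 : t * (t * b) * t⁻¹ = b * t := by
      rw [← mul_assoc, t2, one_mul, hti]
    rwa [h3] at h2

variable {a : ℕ}

/-- **No field automorphisms of even order.** -/
theorem zero_case (h0506 : Ends.S0506Stmt.{u}) (h1170 : Cfsg.Agent.StdSz.Out.S1170Stmt.{u})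
    (h1740 : EndOne.S1740Stmt.{u}) (C : Conf L A t) (B : Base A t T π)
    (ha : 2 ≤ a) (hF : Fintype.card F = 2 ^ a)
    (hc : ∀ x ∈ T, ∀ v ∈ VV π, x * v = v * x) :
    Concl L A t F a ∨ ∃ (k : ℕ) (W : Subgroup G) (d : G), TCen t (VV π) ∧ Exc t d (VV π) W k := by
  have hR := R_eq C B hc
  have H := B.tcen hR hc
  obtain ⟨d, hdA, hd⟩ := B.exists_tor
  have h4a : 4 ≤ 2 ^ a := by
    calc 4 = 2 ^ 2 := by norm_num
      _ ≤ 2 ^ a := Nat.pow_le_pow_right (by norm_num) ha
  have hcV : Nat.card (VV π) = 2 ^ a := by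
    rw [card_VV B.P, Nat.card_eq_fintype_card, hF]
  have hVL : VV π ≤ L := (VV_le B.P).trans C.le
  rcases tower H (by rw [hcV]; exact h4a) hd with ⟨S, hS⟩ | ⟨U, hU⟩ | ⟨k, W, d', h⟩
  · -- `E` is a Sylow 2-subgroup
    obtain ⟨hVS, htS, hi⟩ := relIndex_two B.t2 (fun h => B.tn (VV_le B.P h)) hS
      (fun v hv => by rw [B.tV hv, mul_inv_cancel_right]; exact hv)
    left
    obtain ⟨ha2, hJ⟩ := EndOne.isoJ1_of_end h0506 h1740 C ha
      (simple_A B.P (by rw [hF]; exact h4a)) (by rw [card_A B.P, hF]) S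
      (by
        intro x hx
        rcases (hS x).1 hx with h | h
        · exact VV_sq x h
        · have e : x = t * (t * x) := by rw [← mul_assoc, B.t2, one_mul]
          have e1 : t * (t * x) * (t * (t * x)) = (t * t) * ((t * x) * (t * x)) := by
            have e2 := B.tV h
            calc t * (t * x) * (t * (t * x)) = t * ((t * x) * t) * (t * x) := by group
              _ = (t * t) * ((t * x) * (t * x)) := by rw [← e2]; group
          rw [e, e1, B.t2, one_mul, VV_sq _ h])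
      htS (VV π) hVS hVL (fun h => B.tn (VV_le B.P h)) hcV hi
      (by
        intro v hv hv1 w hw hw1
        obtain ⟨n, hn⟩ := hd.reg v hv w hw hv1 hw1
        exact ⟨d ^ n, (show Commute d t from hd.dt).pow_left n, hn⟩)
    exact Or.inr (Or.inl ⟨ha2, Or.inr (Or.inr (Or.inl hJ))⟩)
  · -- the tower stops
    left; left
    obtain ⟨S, hS⟩ := hU.syl
    obtain ⟨hUS, htS, hi⟩ := relIndex_two B.t2 hU.tU hS hU.norm
    refine Ends.lie2_of_tower h0506 h1170 C (three_dvd B.P hF) S hUS hi htS hU.noconj hU.gU ?_ ?_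
    · refine le_trans ?_ hU.card
      rw [hcV]
      nlinarith only [h4a]
    · rcases hU.shape with ⟨-, h, -⟩ | ⟨h, -⟩ | ⟨h1, h2, -⟩
      · exact Or.inl h
      · exact Or.inl h
      · exact Or.inr ⟨VV π, h1, fun v hv x hx => (h2 x hx v hv).symm⟩
  · exact Or.inr ⟨k, W, d', H, h⟩

end Cfsg.Agent.StdL2.FrameFT
end

-- part: StdL2/FrameAll
section
/-!
# S1773: the case `A ≃ L₂(q)`

`par_case` splits the case `A = π(SL₂(F))` into: no field automorphism of even order (`zero_case`; open: the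
exceptional case `Exc` of the tower), field automorphisms and `q ≥ 16` (open: the final contradiction from
`FOut`), and `q = 4`.  `core` adds the double cover of `A₅`.
-/

set_option autoImplicit false
set_option linter.unusedSectionVars false
set_option linter.style.haveILetI false
set_option Elab.async false

namespace Cfsg.Agent.StdL2.FrameFT

open scoped commutatorElement

open Cfsg Subgroup Cfsg.Agent.StdL2 Cfsg.Agent.StdL2.Setup Cfsg.Agent.StdL2.Frame
  Cfsg.Agent.StdL2.Field Cfsg.Agent.StdL2.FieldStart Cfsg.Agent.StdL2.FT Cfsg.Agent.StdL2.Assemble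
open Cfsg.Agent.Lib.SL2Mat Cfsg.Agent.Lib.AutSL2
open Cfsg.Agent.Lib.GoldschmidtFusion (lt_inf_normalizer)

local notation "SL2" => Matrix.SpecialLinearGroup (Fin 2)

universe u v

/-- if `T` does not centralise the root group then `q = 4` or `q ≥ 16`. -/
theorem two_or_four {F : Type v} [Field F] [Fintype F] [CharP F 2] {G : Type u} [Group G] [Finite G]
    {A T : Subgroup G} {t : G} {π : SL2 F →* G} (B : Base A t T π) {a : ℕ} (ha : 2 ≤ a)
    (hF : Fintype.card F = 2 ^ a) (hw : ∃ w ∈ T, ∃ v ∈ VV π, w * v ≠ v * w) : a = 2 ∨ 4 ≤ a := by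
  obtain ⟨w, hwT, hw1, hw2⟩ := B.exists_witness hw
  have h1 := B.fld.fix w hwT hw1 hw2
  rw [card_VV B.P, (Nat.card_eq_fintype_card (α := F)), hF] at h1
  by_contra hcon
  push Not at hcon
  have h3 : a = 3 := by omega
  rw [h3] at h1
  generalize Nat.card (VV π ⊓ centralizer ({w} : Set G) : Subgroup G) = n at h1
  have h4 : n ≤ 2 ∨ 3 ≤ n := by omega
  rcases h4 with h4 | h4
  · have : n ^ 2 ≤ 2 ^ 2 := Nat.pow_le_pow_left h4 2
    omega
  · have : 3 ^ 2 ≤ n ^ 2 := Nat.pow_le_pow_left h4 2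
    omega

/-- the final contradiction in the case of field automorphisms, `q ≥ 16` -/
def FieldStmt : Prop :=
  ∀ (F : Type v) [Field F] [Fintype F] [CharP F 2] (G : Type u) [Group G] [Finite G]
    (L A T U : Subgroup G) (t d : G) (π : SL2 F →* G), Conf L A t → ∀ B : Base A t T π,
    16 ≤ Nat.card F → FTD t (VV π) T (C0 B.P) → d ∈ A → Tor t (VV π) d →
    FOut t (VV π) T d U → False

/-- the exceptional case of the tower -/
def ExcStmt : Prop :=
  ∀ (F : Type v) [Field F] [Fintype F] [CharP F 2] (G : Type u) [Group G] [Finite G]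
    (L A T W : Subgroup G) (t d : G) (π : SL2 F →* G) (a k : ℕ), Conf L A t → Base A t T π →
    Fintype.card F = 2 ^ a → (∀ x ∈ T, ∀ v ∈ VV π, x * v = v * x) →
    (∀ x ∈ T, x ∈ centralizer (A : Set G) → x = 1 ∨ x = t) →
    TCen t (VV π) → Exc t d (VV π) W k → Concl L A t F a

/-- the case `q = 4`, `N(A) / C(A) = S₅` -/
def FiveStmt : Prop :=
  ∀ (F : Type v) [Field F] [Fintype F] [CharP F 2] (G : Type u) [Group G] [Finite G]
    (L A T : Subgroup G) (t : G) (π : SL2 F →* G), Conf L A t → Base A t T π →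
    Fintype.card F = 4 → (∃ w ∈ T, ∃ v ∈ VV π, w * v ≠ v * w) → Concl L A t F 2

/-- the case where `A` is the double cover of `A₅` -/
def DoubleStmt : Prop :=
  ∀ (F : Type v) [Field F] [Fintype F] [CharP F 2] (G : Type u) [Group G] [Finite G]
    (L A : Subgroup G) (t : G), Conf L A t → Fintype.card F = 4 → t ∈ A →
    (∃ f : ↥A →* SL2 F, Function.Surjective f ∧ f.ker = center ↥A ∧
      (∀ x : ↥A, x ∈ center ↥A ↔ x = 1 ∨ (x : G) = t) ∧
      ∀ x : ↥A, f x ≠ 1 → f x * f x = 1 → (x : G) * x = t) → Concl L A t F 2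

/-- **The case `A ≃ L₂(q)`.** -/
theorem par_case (h0506 : Ends.S0506Stmt.{u}) (h1170 : Cfsg.Agent.StdSz.Out.S1170Stmt.{u})
    (h1740 : EndOne.S1740Stmt.{u}) (hf : FieldStmt.{u, v}) (hE : ExcStmt.{u, v})
    (h5 : FiveStmt.{u, v})
    {F : Type v} [Field F] [Fintype F] [CharP F 2] {G : Type u} [Group G] [Finite G]
    {L A : Subgroup G} {t : G} {π : SL2 F →* G} (C : Conf L A t) (P : IsPar A π) {a : ℕ}
    (ha : 2 ≤ a) (hF : Fintype.card F = 2 ^ a) : Concl L A t F a := by
  obtain ⟨T, B, -⟩ := exists_base C P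
  by_cases hc : ∀ x ∈ T, ∀ v ∈ VV π, x * v = v * x
  · rcases zero_case h0506 h1170 h1740 C B ha hF hc with h | ⟨k, W, d, H, X⟩
    · exact h
    · exact hE F G L A T W t d π a k C B hF hc (R_eq C B hc) H X
  · push Not at hc
    rcases two_or_four B ha hF hc with rfl | h4
    · exact h5 F G L A T t π C B hF hc
    · exfalso
      have h16 : 16 ≤ Nat.card F := by
        rw [Nat.card_eq_fintype_card, hF]
        calc 16 = 2 ^ 4 := by norm_num
          _ ≤ 2 ^ a := Nat.pow_le_pow_right (by norm_num) h4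
      obtain ⟨-, HF, d, hdA, hd, U, hU⟩ := field_case C B h16 hc
      exact hf F G L A T U t d π C B h16 HF hdA hd hU

theorem charP_of_card {F : Type v} [Field F] [Fintype F] {a : ℕ} (ha : 2 ≤ a)
    (hF : Fintype.card F = 2 ^ a) : CharP F 2 := by
  obtain ⟨p, hp⟩ := CharP.exists F
  have := hp
  obtain ⟨k, hpp, hk⟩ := FiniteField.card F p
  have h5 : 2 ∣ p ^ (k : ℕ) := by
    rw [← hk, hF]; exact dvd_pow_self 2 (by omega)
  have h6 : 2 ∣ p := Nat.Prime.dvd_of_dvd_pow Nat.prime_two h5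
  have h7 : 2 = p := (Nat.prime_dvd_prime_iff_eq Nat.prime_two hpp).mp h6
  exact h7 ▸ hp

/-- **The core of S1773.** -/
theorem core (h0506 : Ends.S0506Stmt.{u}) (h1170 : Cfsg.Agent.StdSz.Out.S1170Stmt.{u})
    (h1740 : EndOne.S1740Stmt.{u}) (hf : FieldStmt.{u, v}) (hE : ExcStmt.{u, v})
    (h5 : FiveStmt.{u, v}) (hD : DoubleStmt.{u, v})
    (H : Type u) [Group H] [Finite H] (L A : Subgroup H) (t : H) (C : Conf L A t)
    (F : Type v) [Field F] [Fintype F] (a : ℕ) (ha : 2 ≤ a) (hF : Fintype.card F = 2 ^ a)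
    (he : Nonempty (↥A ⧸ Subgroup.center ↥A ≃* Matrix.ProjectiveSpecialLinearGroup (Fin 2) F)) :
    Concl L A t F a := by
  haveI : CharP F 2 := charP_of_card ha hF
  rcases par_or_double C ha hF he with ⟨π, P⟩ | ⟨rfl, htA, h⟩
  · exact par_case h0506 h1170 h1740 hf hE h5 C P ha hF
  · exact hD F H L A t C hF htA h

end Cfsg.Agent.StdL2.FrameFT
end
end

-- part: StdL2/FieldMain
section
prune_inst 0x420200458401200000000803100022404000092004004008481044000088042000000000400000150080b00000100281010001000000000002004000001000080a810006281010406009f000084000000000000000000000000000000000004000000000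
set_option linter.all false
open scoped Cfsg.Agent.FastGrp

-- part: StdL2/FEnd
section
/-!
# S1773, case (f), the end: the wreathed configuration is impossible

`U = V₁ × V₂` elementary abelian of order `q²`, `S` a Sylow 2-subgroup of `G` normalising `U` and
permuting `{V₁, V₂}`, `t ∈ S` interchanges them, no conjugate of `t` in `S` normalises `V₁`, and
`N_S(V₁)` acts on `V₁ ≃ F_q` through field automorphisms.
-/

set_option autoImplicit false
set_option linter.unusedSectionVars false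

open Subgroup

namespace Cfsg.Agent.StdL2.FEnd

open Cfsg.Agent.StdL2.FieldStart (IsSyl exists_isSyl card_le_two_mul exists_normalizer_gt)
open Cfsg.Agent.StdL2.SC (conj_mem_norm norm_conj norm_conj')
open Cfsg.Agent.StdL2.FGal (GalAct)
open Cfsg.Agent.StdL2.FWr Cfsg.Agent.StdL2.FT
open Cfsg.Agent.GH.E (rr mem_rr le_rr self_mem_rr)

variable {G : Type*} [Group G] [Finite G]

/-- The input of the end of case (f). -/
structure Fin5 (t : G) (V T C₀ U V1 V2 S : Subgroup G) : Prop where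
  F : FTD t V T C₀
  W : Wr t U V1 V2 S
  TS : T ≤ S
  Syl : IsSyl ⊤ S
  VU : V ≤ U
  card : Nat.card U = Nat.card V ^ 2
  fix : ∀ u ∈ U, t * u = u * t → u ∈ V
  bad : ∃ u ∈ U, ∃ s ∈ T, s ∉ V ∧ t * s ∉ V ∧ (u * s) * (u * s) = 1 ∧ ∃ g : G, g * t * g⁻¹ = u * s

/-- A field involution in `T ∩ L ∩ N₀`. -/
structure Fu {t : G} {U V1 V2 S : Subgroup G} (W : Wr t U V1 V2 S) (T V L : Subgroup G) (u : G) :
    Prop where
  mT : u ∈ T
  mL : u ∈ L
  mN : u ∈ W.N0
  sq : u * u = 1
  nV : u ∉ V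
  ntV : t * u ∉ V

namespace Fin5

variable {t : G} {V T C₀ U V1 V2 S L : Subgroup G}

/-- `|⟨t⟩X| = 2|X|` -/
theorem card_rr_two {X : Subgroup G} (t2 : t * t = 1) (tn : ∀ x ∈ X, t * x * t⁻¹ ∈ X)
    (htX : t ∉ X) : Nat.card (rr t X) = 2 * Nat.card X := by
  have tinv : t⁻¹ = t := inv_eq_of_mul_eq_one_left t2
  have h1 : X.relIndex (rr t X) = 2 := by
    rw [relIndex_eq_two_iff]
    refine ⟨t, self_mem_rr t X, fun b hb => ?_⟩
    rcases (mem_rr t2 tn).1 hb with hb | hb
    · right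
      refine ⟨hb, fun h => htX ?_⟩
      have := X.mul_mem (X.inv_mem hb) h
      rwa [inv_mul_cancel_left] at this
    · left
      constructor
      · have h2 := tn _ hb
        have h3 : t * (t * b) * t⁻¹ = b * t := by rw [tinv, ← mul_assoc, t2, one_mul]
        rwa [h3] at h2
      · intro h
        apply htX
        have := X.mul_mem hb (X.inv_mem h)
        rwa [mul_inv_cancel_right] at this
  have h2 := relIndex_mul_relIndex ⊥ X (rr t X) bot_le (le_rr t X)
  rw [h1, relIndex_bot_left, relIndex_bot_left] at h2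
  omega

theorem card_V (H : Fin5 t V T C₀ U V1 V2 S) : Nat.card V = Nat.card V1 := by
  have h1 := H.card
  rw [H.W.card_U] at h1
  exact (Nat.pow_left_injective (by norm_num : (2 : ℕ) ≠ 0) h1).symm

/-- **KEY**: elements of `U` commuting with a conjugate `t^g ∈ S` come from `C₀`. -/
theorem key (H : Fin5 t V T C₀ U V1 V2 S) {g w : G} (h : g * t * g⁻¹ ∈ S) (hw : w ∈ U)
    (hc : w * (g * t * g⁻¹) = (g * t * g⁻¹) * w) : g⁻¹ * w * g ∈ C₀ := by
  have W := H.W
  have t2 := H.F.t2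
  set t1 := g * t * g⁻¹ with ht1
  have h11 : t1 * t1 = 1 := by
    rw [ht1]
    have e : g * t * g⁻¹ * (g * t * g⁻¹) = g * (t * t) * g⁻¹ := by group
    rw [e, t2]; group
  have ht1U : t1 ∉ U := fun hU => W.no g h (W.n1 (W.UN0 hU))
  set X : Subgroup G := U ⊓ centralizer {t1} with hX
  have hXc : Nat.card V ≤ Nat.card X := by
    have h1 := EOneFusion.card_le_cent_sq h11 W.usq (W.SU t1 h)
    rw [H.card] at h1
    exact (Nat.pow_le_pow_iff_left (by norm_num)).1 h1
  let X' : Subgroup G := X.map (MulAut.conj g⁻¹).toMonoidHom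
  have hX'c : Nat.card X' = Nat.card X :=
    (Nat.card_congr (X.equivMapOfInjective _ (MulAut.conj g⁻¹).injective).toEquiv).symm
  have hmem : ∀ x ∈ X', ∃ u ∈ U, u * t1 = t1 * u ∧ x = g⁻¹ * u * g := by
    rintro _ ⟨u, ⟨hu, hut⟩, rfl⟩
    refine ⟨u, hu, mem_centralizer_singleton_iff.1 hut, ?_⟩
    change g⁻¹ * u * g⁻¹⁻¹ = _
    rw [inv_inv]
  have hX't : ∀ x ∈ X', t * x = x * t := by
    intro x hx
    obtain ⟨u, hu, hut, rfl⟩ := hmem x hx
    have e1 : t * (g⁻¹ * u * g) = g⁻¹ * (t1 * u) * g := by rw [ht1]; group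
    have e2 : g⁻¹ * u * g * t = g⁻¹ * (u * t1) * g := by rw [ht1]; group
    rw [e1, e2, hut]
  have hX'sq : ∀ x ∈ X', x * x = 1 := by
    intro x hx
    obtain ⟨u, hu, -, rfl⟩ := hmem x hx
    have e : g⁻¹ * u * g * (g⁻¹ * u * g) = g⁻¹ * (u * u) * g := by group
    rw [e, W.usq u hu]; group
  have htn : ∀ x ∈ X', t * x * t⁻¹ ∈ X' := by
    intro x hx
    rw [hX't x hx, mul_inv_cancel_right]; exact hx
  have htX' : t ∉ X' := by
    intro ht
    obtain ⟨u, hu, -, e⟩ := hmem t ht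
    apply ht1U
    have : t1 = u := by rw [ht1, e]; group
    rw [this]; exact hu
  have hA : Nat.card (rr t X') = 2 * Nat.card X' := card_rr_two t2 htn htX'
  obtain ⟨c, hct, hc'⟩ := H.F.elem_conj (A := rr t X') (by
    intro x hx
    rcases (mem_rr t2 htn).1 hx with hx | hx
    · exact hX'sq x hx
    · have h1 := hX'sq _ hx
      have h2 := hX't _ hx
      have h3 : x = t * (t * x) := by rw [← mul_assoc, t2, one_mul]
      calc x * x = (t * (t * x)) * (t * (t * x)) := by rw [← h3]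
        _ = t * ((t * x) * t) * (t * x) := by group
        _ = t * (t * (t * x)) * (t * x) := by rw [h2]
        _ = (t * t) * ((t * x) * (t * x)) := by group
        _ = 1 := by rw [t2, h1, one_mul]) (by
    intro x hx
    rcases (mem_rr t2 htn).1 hx with hx | hx
    · exact hX't x hx
    · have h2 := hX't _ hx
      exact mul_left_cancel (a := t) (by rw [h2, mul_assoc])) (by
    rw [hA, hX'c]
    omega)
  have hmemE : c * (g⁻¹ * w * g) * c⁻¹ ∈ H.F.E := by
    rw [← hc']
    refine ⟨g⁻¹ * w * g, ?_, rfl⟩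
    apply le_rr
    refine ⟨w, ⟨hw, mem_centralizer_singleton_iff.2 hc⟩, ?_⟩
    change g⁻¹ * w * g⁻¹⁻¹ = _
    rw [inv_inv]
  have h5 := H.F.C0E _ hmemE
  have h6 : c⁻¹ * t = t * c⁻¹ := by
    rw [inv_mul_eq_iff_eq_mul, ← mul_assoc, hct, mul_inv_cancel_right]
  have h7 := H.F.C0n c⁻¹ h6 _ h5
  have e : c⁻¹ * (c * (g⁻¹ * w * g) * c⁻¹) * c⁻¹⁻¹ = g⁻¹ * w * g := by group
  rwa [e] at h7

/-- existence of the field involution in `L` -/
theorem exists_fu (H : Fin5 t V T C₀ U V1 V2 S) (Ln : L.Normal) (hL : ∀ x, x ∈ L ∨ t * x ∈ L)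
    (tL : t ∉ L) (UL : U ≤ L) : ∃ u, Fu H.W T V L u := by
  have W := H.W
  have F := H.F
  obtain ⟨u, hu, s, hsT, hsV, htsV, hsq, g, hg⟩ := H.bad
  have hsS := H.TS hsT
  have husS : u * s ∈ S := S.mul_mem (W.US hu) hsS
  have husN : u * s ∉ W.N0 := fun h => W.no g (by rw [hg]; exact husS) (by rw [hg]; exact W.n1 h)
  have hsN : s ∉ W.N0 := fun h => husN (W.N0.mul_mem (W.UN0 hu) h)
  have husL : u * s ∉ L := by
    intro h
    rw [← hg] at h
    have h1 := Ln.conj_mem _ h g⁻¹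
    have e : g⁻¹ * (g * t * g⁻¹) * g⁻¹⁻¹ = t := by group
    rw [e] at h1
    exact tL h1
  have hsL : s ∉ L := fun h => husL (L.mul_mem (UL hu) h)
  have htsL : t * s ∈ L := (hL s).resolve_left hsL
  have htsN : t * s ∈ W.N0 := W.mul_mem_of_sw W.tS hsS W.t_not hsN
  have hst := F.Tt s hsT
  have hssU : s * s ∈ U := by
    have h1 : u * (s * u * s⁻¹) * (s * s) = 1 := by
      rw [← hsq]; group
    have h2 : s * s = (u * (s * u * s⁻¹))⁻¹ := eq_inv_of_mul_eq_one_right h1
    rw [h2]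
    exact U.inv_mem (U.mul_mem hu (W.SU s hsS u hu))
  have hssV : s * s ∈ V := by
    apply H.fix _ hssU
    rw [← mul_assoc, ← hst, mul_assoc, ← hst, mul_assoc]
  have htt : ∀ x, t * (t * x) = x := fun x => by rw [← mul_assoc, F.t2, one_mul]
  set x := t * s with hx
  have hxT : x ∈ T := T.mul_mem F.tT hsT
  have hxx : x * x = s * s := by
    rw [hx, mul_assoc, ← mul_assoc s t s, hst, mul_assoc, htt]
  obtain ⟨y, hy, hyv⟩ := F.fr x hxT htsV (by rw [hx, htt]; exact hsV) (Or.inl (by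
    rw [hxx]; exact hssV)) (x * x) (by rw [hxx]; exact hssV) (by group)
  refine ⟨x * y, T.mul_mem hxT (F.VT hy), L.mul_mem htsL (UL (H.VU hy)),
    W.N0.mul_mem htsN (W.UN0 (H.VU hy)), ?_, ?_, ?_⟩
  · have hxy : x * y * x⁻¹ ∈ V := F.TV x hxT y hy
    have h1 := F.vsq _ (hxx ▸ hssV : x * x ∈ V)
    calc x * y * (x * y) = (x * y * x⁻¹) * (x * x) * y := by group
      _ = (x * x) * (x * y * x⁻¹) * y := by rw [F.Vcomm hxy (hxx ▸ hssV : x * x ∈ V)]
      _ = (x * x) * ((x * y * x⁻¹) * y) := by group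
      _ = (x * x) * (y * (x * y * x⁻¹)) := by rw [F.Vcomm hxy hy]
      _ = (x * x) * (x * x) := by rw [← hyv]
      _ = 1 := h1
  · intro h
    apply htsV
    have := V.mul_mem h (V.inv_mem hy)
    rwa [mul_inv_cancel_right] at this
  · intro h
    apply hsV
    have := V.mul_mem h (V.inv_mem hy)
    rw [hx] at this
    have e : t * (t * s * y) * y⁻¹ = t * (t * s) := by group
    rw [e, htt] at this
    exact this

section

variable {u : G}

theorem fcomm (H : Fin5 t V T C₀ U V1 V2 S) (h : Fu H.W T V L u) :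
    u * t = t * u := H.F.Tt u h.mT

theorem fu_notU (H : Fin5 t V T C₀ U V1 V2 S) (h : Fu H.W T V L u) : u ∉ U := fun hU =>
  h.nV (H.fix u hU (H.fcomm h).symm)

theorem fu_notC (H : Fin5 t V T C₀ U V1 V2 S) (h : Fu H.W T V L u) : u ∉ C₀ := fun hC => by
  rcases H.F.C0T u h.mT hC with h1 | h1
  · exact h.nV h1
  · exact h.ntV h1

/-- an element of `N₀` commuting with a swapping element `t₁ ∈ S` and centralising `V₁` is in `U` -/
theorem mem_of_sw (H : Fin5 t V T C₀ U V1 V2 S) {y t1 : G} (hy : y ∈ H.W.N0) (ht1 : t1 ∈ S)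
    (ht1N : t1 ∉ H.W.N0) (hc : y * t1 = t1 * y) (h : ∀ a ∈ V1, y * a = a * y) : y ∈ U := by
  have W := H.W
  apply W.mem_U (W.N0S hy) h
  intro b hb
  have h1 : t1⁻¹ * b * t1 ∈ V1 := by
    have h2 := (W.sw (S.inv_mem ht1) (fun h => ht1N (by
      have := W.N0.inv_mem h
      rwa [inv_inv] at this))).2 b hb
    rwa [inv_inv] at h2
  have h3 := h _ h1
  have h4 : y * t1⁻¹ = t1⁻¹ * y := by
    rw [eq_inv_mul_iff_mul_eq, ← mul_assoc, ← hc, mul_inv_cancel_right]
  calc y * b = t1 * (y * (t1⁻¹ * b * t1)) * t1⁻¹ := by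
        rw [← mul_assoc, ← mul_assoc, ← mul_assoc, ← hc]; group
    _ = t1 * ((t1⁻¹ * b * t1) * y) * t1⁻¹ := by rw [h3]
    _ = b * (t1 * (y * t1⁻¹)) := by group
    _ = b * y := by rw [h4, mul_inv_cancel_left]

theorem mem_of_sw' (H : Fin5 t V T C₀ U V1 V2 S) {y t1 : G} (hy : y ∈ H.W.N0) (ht1 : t1 ∈ S)
    (ht1N : t1 ∉ H.W.N0) (hc : y * t1 = t1 * y) (h : ∀ b ∈ V2, y * b = b * y) : y ∈ U := by
  have W := H.W
  refine W.mem_U (W.N0S hy) ?_ h
  intro b hb
  have h1 : t1⁻¹ * b * t1 ∈ V2 := by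
    have h2 := (W.sw (S.inv_mem ht1) (fun h => ht1N (by
      have := W.N0.inv_mem h
      rwa [inv_inv] at this))).1 b hb
    rwa [inv_inv] at h2
  have h3 := h _ h1
  have h4 : y * t1⁻¹ = t1⁻¹ * y := by
    rw [eq_inv_mul_iff_mul_eq, ← mul_assoc, ← hc, mul_inv_cancel_right]
  calc y * b = t1 * (y * (t1⁻¹ * b * t1)) * t1⁻¹ := by
        rw [← mul_assoc, ← mul_assoc, ← mul_assoc, ← hc]; group
    _ = t1 * ((t1⁻¹ * b * t1) * y) * t1⁻¹ := by rw [h3]
    _ = b * (t1 * (y * t1⁻¹)) := by group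
    _ = b * y := by rw [h4, mul_inv_cancel_left]

theorem fu_ne1 (H : Fin5 t V T C₀ U V1 V2 S) (h : Fu H.W T V L u) : ∃ a ∈ V1, u * a ≠ a * u := by
  by_contra hcon
  push Not at hcon
  exact H.fu_notU h (H.mem_of_sw h.mN H.W.tS H.W.t_not (H.fcomm h) hcon)

theorem fu_ne2 (H : Fin5 t V T C₀ U V1 V2 S) (h : Fu H.W T V L u) : ∃ b ∈ V2, u * b ≠ b * u := by
  by_contra hcon
  push Not at hcon
  exact H.fu_notU h (H.mem_of_sw' h.mN H.W.tS H.W.t_not (H.fcomm h) hcon)

/-- all elements of type `(f, f)` are congruent to `u` modulo `U`. -/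
theorem type (H : Fin5 t V T C₀ U V1 V2 S) (h : Fu H.W T V L u) {y : G} (hy : y ∈ H.W.N0)
    (hyy : y * y ∈ U) (h1 : ∃ a ∈ V1, y * a ≠ a * y) (h2 : ∃ b ∈ V2, y * b ≠ b * y) :
    u⁻¹ * y ∈ U := by
  have W := H.W
  have hsq : ∀ v ∈ U, (y * y) * v = v * (y * y) := fun v hv => W.ucomm hyy hv
  have husq : ∀ v : G, (u * u) * v = v * (u * u) := fun v => by rw [h.sq, one_mul, mul_one]
  apply W.mem_U (S.mul_mem (S.inv_mem (W.N0S h.mN)) (W.N0S hy))
  · exact W.gal.uniq u (W.N0S h.mN) y (W.N0S hy) (W.n1 h.mN) (W.n1 hy) (fun a _ => husq a)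
      (fun a ha => hsq a (W.V1U ha)) (H.fu_ne1 h) h1
  · exact W.symm.gal.uniq u (W.N0S h.mN) y (W.N0S hy) (W.n2 h.mN) (W.n2 hy) (fun a _ => husq a)
      (fun a ha => hsq a (W.V2U ha)) (H.fu_ne2 h) h2

/-- **fusion**: a conjugate of `(t, u)` in `S × N₀` has `u` of the same type. -/
theorem fused (H : Fin5 t V T C₀ U V1 V2 S) (h : Fu H.W T V L u) {x : G}
    (hy : x⁻¹ * u * x ∈ H.W.N0) (ht : x⁻¹ * t * x ∈ S) : u⁻¹ * (x⁻¹ * u * x) ∈ U := by
  have W := H.W
  set y := x⁻¹ * u * x with hydef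
  set t1 := x⁻¹ * t * x with ht1def
  have e0 : x⁻¹ * t * x⁻¹⁻¹ = t1 := by rw [inv_inv]
  have hc : y * t1 = t1 * y := by
    have e1 : y * t1 = x⁻¹ * (u * t) * x := by rw [hydef, ht1def]; group
    have e2 : t1 * y = x⁻¹ * (t * u) * x := by rw [hydef, ht1def]; group
    rw [e1, e2, H.fcomm h]
  have ht1N : t1 ∉ W.N0 := fun hN => W.no x⁻¹ (by rw [e0]; exact ht) (by rw [e0]; exact W.n1 hN)
  have hyU : y ∉ U := by
    intro hyU
    have h1 := H.key (g := x⁻¹) (w := y) (by rw [e0]; exact ht) hyU (by rw [e0]; exact hc)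
    have e3 : x⁻¹⁻¹ * y * x⁻¹ = u := by rw [hydef]; group
    rw [e3] at h1
    exact H.fu_notC h h1
  have hyy : y * y ∈ U := by
    have e4 : y * y = x⁻¹ * (u * u) * x := by rw [hydef]; group
    rw [e4, h.sq, mul_one, inv_mul_cancel]
    exact U.one_mem
  refine H.type h hy hyy ?_ ?_
  · by_contra hcon
    push Not at hcon
    exact hyU (H.mem_of_sw hy ht ht1N hc hcon)
  · by_contra hcon
    push Not at hcon
    exact hyU (H.mem_of_sw' hy ht ht1N hc hcon)

end

/-! ### Sylow theory -/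

omit [Finite G] in
theorem isPGroup_of_sq {X : Subgroup G} (h : ∀ x ∈ X, x * x = 1) : IsPGroup 2 X := by
  rintro ⟨x, hx⟩
  exact ⟨1, Subtype.ext (by simpa only [pow_two, _root_.pow_one, _root_.MulMemClass.mk_mul_mk, _root_.OneMemClass.coe_one] using h x hx)⟩

/-- intersection of a Sylow 2-subgroup with a normal subgroup -/
theorem _root_.Cfsg.Agent.StdL2.FieldStart.IsSyl.inf_normal {K R L : Subgroup G} (hR : IsSyl K R)
    (Ln : L.Normal) : IsSyl (K ⊓ L) (R ⊓ L) := by
  refine ⟨hR.1.to_le inf_le_left, inf_le_inf_right L hR.2.1, ?_⟩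
  intro Q hQ h1 h2
  obtain ⟨c, hc, hcR⟩ := hR.conj hQ (h2.trans inf_le_left)
  have h3 : Nat.card Q ≤ Nat.card (R ⊓ L : Subgroup G) := by
    refine Nat.card_le_card_of_injective
      (fun y : Q => (⟨c * y * c⁻¹, hcR y y.2, Ln.conj_mem _ (h2 y.2).2 c⟩ :
        (R ⊓ L : Subgroup G))) ?_
    intro a b hab
    have : c * (a : G) * c⁻¹ = c * (b : G) * c⁻¹ :=
      congrArg (fun z : (R ⊓ L : Subgroup G) => (z : G)) hab
    exact Subtype.ext (mul_left_cancel (mul_right_cancel this))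
  exact (Subgroup.eq_of_le_of_card_ge h1 h3).ge

/-- a Sylow 2-subgroup of `G` -/
def toSylow {S : Subgroup G} (h : IsSyl ⊤ S) : Sylow 2 G where
  toSubgroup := S
  isPGroup' := h.1
  is_maximal' := fun {Q} hQ hSQ => le_antisymm (h.2.2 Q hQ hSQ le_top) hSQ

theorem toSylow_coe {S : Subgroup G} (h : IsSyl ⊤ S) : ((toSylow h : Sylow 2 G) : Subgroup G) = S :=
  rfl

theorem odd_index {S : Subgroup G} (h : IsSyl ⊤ S) : Odd S.index := by
  have : Fact (Nat.Prime 2) := ⟨Nat.prime_two⟩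
  have h1 := (toSylow h).not_dvd_index
  rw [toSylow_coe] at h1
  rwa [← Nat.not_even_iff_odd, even_iff_two_dvd]

/-- **ALPHA**: `t ∉ L`. -/
theorem alpha {A : Subgroup G} (H : Fin5 t V T C₀ U V1 V2 S) (C : Setup.Conf L A t) : t ∉ L := by
  have W := H.W
  refine Ends.not_mem (U := W.N0) C (toSylow H.Syl) W.N0S ?_ ?_
  · change W.N0.relIndex S = 2
    rw [relIndex_eq_two_iff]
    refine ⟨t, W.tS, fun b hb => ?_⟩
    by_cases h : b ∈ W.N0
    · right
      refine ⟨h, fun h1 => W.t_not ?_⟩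
      have := W.N0.mul_mem (W.N0.inv_mem h) h1
      rwa [inv_mul_cancel_left] at this
    · left
      exact ⟨W.mul_mem_of_sw hb W.tS h W.t_not, h⟩
  · intro g hg
    exact W.no g (W.N0S hg) (W.n1 hg)

/-- commutators in `N₀` lie in `U` -/
theorem _root_.Cfsg.Agent.StdL2.FWr.Wr.comm_mem (W : Wr t U V1 V2 S) {x y : G} (hx : x ∈ W.N0)
    (hy : y ∈ W.N0) : x * y * x⁻¹ * y⁻¹ ∈ U := by
  have hxS := W.N0S hx
  have hyS := W.N0S hy
  exact W.mem_U (S.mul_mem (S.mul_mem (S.mul_mem hxS hyS) (S.inv_mem hxS)) (S.inv_mem hyS))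
    (W.gal.abel x hxS y hyS (W.n1 hx) (W.n1 hy)) (W.symm.gal.abel x hxS y hyS (W.n2 hx) (W.n2 hy))

theorem _root_.Cfsg.Agent.StdL2.FWr.Wr.N0_symm (W : Wr t U V1 V2 S) : W.symm.N0 = W.N0 := by
  ext x
  rw [W.mem_N0, W.symm.mem_N0]
  tauto

/-- the symmetric input -/
theorem symm (H : Fin5 t V T C₀ U V1 V2 S) : Fin5 t V T C₀ U V2 V1 S where
  F := H.F
  W := H.W.symm
  TS := H.TS
  Syl := H.Syl
  VU := H.VU
  card := H.card
  fix := H.fix
  bad := H.bad

theorem fu_symm (H : Fin5 t V T C₀ U V1 V2 S) {u : G} (h : Fu H.W T V L u) :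
    Fu H.symm.W T V L u where
  mT := h.mT
  mL := h.mL
  mN := by rw [H.W.N0_symm]; exact h.mN
  sq := h.sq
  nV := h.nV
  ntV := h.ntV

/-- lower bound for `C_U(y)` when `y` centralises `V₂` -/
theorem _root_.Cfsg.Agent.StdL2.FWr.Wr.le_cent (W : Wr t U V1 V2 S) {y : G}
    (h2 : ∀ b ∈ V2, y * b = b * y) :
    Nat.card V1 * Nat.card (V1 ⊓ centralizer {y} : Subgroup G) ≤
      Nat.card (U ⊓ centralizer {y} : Subgroup G) := by
  rw [← W.card_V2, mul_comm, ← Nat.card_prod]
  refine Nat.card_le_card_of_injective (fun p : (V1 ⊓ centralizer {y} : Subgroup G) × V2 =>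
    (⟨p.1 * p.2, U.mul_mem (W.V1U p.1.2.1) (W.V2U p.2.2), mem_centralizer_singleton_iff.2 ?_⟩ :
      (U ⊓ centralizer {y} : Subgroup G))) ?_
  · have h3 := mem_centralizer_singleton_iff.1 p.1.2.2
    rw [mul_assoc, ← h2 _ p.2.2, ← mul_assoc, h3, mul_assoc]
  · intro p p' h
    have h3 : (p.1 : G) * p.2 = p'.1 * p'.2 := congrArg
      (fun z : (U ⊓ centralizer {y} : Subgroup G) => (z : G)) h
    obtain ⟨h4, h5⟩ := W.dec p.1.2.1 p'.1.2.1 p.2.2 p'.2.2 h3
    exact Prod.ext (Subtype.ext h4) (Subtype.ext h5)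

/-- `q ≤ c²` for an involution -/
theorem _root_.Cfsg.Agent.StdL2.FWr.Wr.q_le (W : Wr t U V1 V2 S) {y : G} (hy : y ∈ W.N0)
    (hyy : y * y = 1) :
    Nat.card V1 ≤ Nat.card (V1 ⊓ centralizer {y} : Subgroup G) ^ 2 :=
  EOneFusion.card_le_cent_sq hyy (fun v hv => W.usq v (W.V1U hv)) (W.n1 hy)

/-- the order argument of TE -/
theorem te_end (H : Fin5 t V T C₀ U V1 V2 S) {u : G} (h : Fu H.W T V L u) {y z : G}
    (hy : y ∈ H.W.N0) (hyy : y * y = 1) (hyU : y ∉ U) (h2 : ∀ b ∈ V2, y * b = b * y)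
    (hz : ∀ w ∈ U, w * y = y * w → z * w * z⁻¹ ∈ H.W.N0) (hzy : z * y * z⁻¹ ∈ H.W.N0)
    (hu : u⁻¹ * (z * y * z⁻¹) ∈ U) : False := by
  have W := H.W
  have hq := W.card16
  set y0 := z * y * z⁻¹ with hy0
  set X : Subgroup G := U ⊓ centralizer {y} with hX
  have hyX : ∀ x ∈ X, y * x * y⁻¹ ∈ X := by
    intro x hx
    rw [← mem_centralizer_singleton_iff.1 hx.2, mul_inv_cancel_right]; exact hx
  have hXc : ∀ x ∈ X, y * x = x * y := fun x hx => (mem_centralizer_singleton_iff.1 hx.2).symm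
  have hF2 : Nat.card (rr y X) = 2 * Nat.card X := card_rr_two hyy hyX (fun hh => hyU hh.1)
  have hF3 : ∀ x ∈ rr y X, x * x = 1 ∧ x * y = y * x ∧ z * x * z⁻¹ ∈ W.N0 := by
    have key : ∀ x ∈ X, x * x = 1 ∧ x * y = y * x ∧ z * x * z⁻¹ ∈ W.N0 := by
      intro x hx
      exact ⟨W.usq x hx.1, (hXc x hx).symm, hz x hx.1 (hXc x hx).symm⟩
    intro x hx
    rcases (mem_rr hyy hyX).1 hx with hx | hx
    · exact key x hx
    · obtain ⟨k1, k2, k3⟩ := key _ hx
      have e : x = y * (y * x) := by rw [← mul_assoc, hyy, one_mul]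
      have k4 : x * y = y * x := by
        apply mul_left_cancel (a := y)
        rw [← mul_assoc, k2]
      refine ⟨?_, k4, ?_⟩
      · calc x * x = (y * y) * (x * x) := by rw [hyy, one_mul]
          _ = y * (y * x) * x := by group
          _ = y * (x * y) * x := by rw [k4]
          _ = (y * x) * (y * x) := by group
          _ = 1 := k1
      · have e2 : z * x * z⁻¹ = y0 * (z * (y * x) * z⁻¹) := by
          conv_lhs => rw [e]
          rw [hy0]; group
        rw [e2]
        exact W.N0.mul_mem hzy k3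
  let F' : Subgroup G := (rr y X).map (MulAut.conj z).toMonoidHom
  have hF' : F' ≤ W.N0 := by
    rintro _ ⟨x, hx, rfl⟩
    exact (hF3 x hx).2.2
  have hF'c : Nat.card F' = Nat.card (rr y X) :=
    (Nat.card_congr (Subgroup.equivMapOfInjective _ _ (MulAut.conj z).injective).toEquiv).symm
  have hF'sq : ∀ x ∈ F', x * x ∈ U := by
    rintro _ ⟨x, hx, rfl⟩
    have e : (MulAut.conj z).toMonoidHom x * (MulAut.conj z).toMonoidHom x = 1 := by
      rw [← map_mul, (hF3 x hx).1, map_one]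
    rw [e]; exact U.one_mem
  have hF'y : ∀ x ∈ F', x * y0 = y0 * x := by
    rintro _ ⟨x, hx, rfl⟩
    change z * x * z⁻¹ * y0 = y0 * (z * x * z⁻¹)
    have e1 : z * x * z⁻¹ * y0 = z * (x * y) * z⁻¹ := by rw [hy0]; group
    have e2 : y0 * (z * x * z⁻¹) = z * (y * x) * z⁻¹ := by rw [hy0]; group
    rw [e1, e2, (hF3 x hx).2.1]
  have h4 := W.quarter hF' hF'sq
  -- `y0` acts nontrivially on both factors
  have hyu : ∀ v ∈ U, y0 * v = v * y0 → u * v = v * u := by
    intro v hv hyv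
    have h5 := W.ucomm hu hv
    have e : u = y0 * (u⁻¹ * y0)⁻¹ := by group
    have h6 : (u⁻¹ * y0)⁻¹ * v = v * (u⁻¹ * y0)⁻¹ := by
      rw [inv_mul_eq_iff_eq_mul, ← mul_assoc, h5, mul_inv_cancel_right]
    rw [e, mul_assoc, h6, ← mul_assoc, hyv, mul_assoc]
  have hne1 : ∃ a ∈ V1, y0 * a ≠ a * y0 := by
    obtain ⟨a, ha, hne⟩ := H.fu_ne1 h
    exact ⟨a, ha, fun e => hne (hyu a (W.V1U ha) e)⟩
  have hne2 : ∃ b ∈ V2, y0 * b ≠ b * y0 := by
    obtain ⟨b, hb, hne⟩ := H.fu_ne2 h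
    exact ⟨b, hb, fun e => hne (hyu b (W.V2U hb) e)⟩
  have h5 := W.prod_le hzy hzy (X := F' ⊓ U) inf_le_right (fun x hx => hF'y x hx.1)
    (fun x hx => hF'y x hx.1)
  have h6 := W.fix1 hzy hne1
  have h7 := W.fix2 hzy hne2
  have h8 := W.le_cent h2
  have h9 := W.q_le hy hyy
  rw [← hX] at h8
  rw [hF'c, hF2] at h4
  set c1 := Nat.card (V1 ⊓ centralizer {y0} : Subgroup G)
  set c2 := Nat.card (V2 ⊓ centralizer {y0} : Subgroup G)
  set c := Nat.card (V1 ⊓ centralizer {y} : Subgroup G)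
  set q := Nat.card V1
  have h10 : c1 * c2 ≤ q := by
    have : (c1 * c2) ^ 2 ≤ q ^ 2 := by
      calc (c1 * c2) ^ 2 = c1 ^ 2 * c2 ^ 2 := by ring
        _ ≤ q * q := Nat.mul_le_mul h6 h7
        _ = q ^ 2 := by ring
    exact (Nat.pow_le_pow_iff_left (by norm_num)).1 this
  have h11 : 2 * (q * c) ≤ 4 * q := by
    calc 2 * (q * c) ≤ 2 * Nat.card X := Nat.mul_le_mul_left 2 h8
      _ ≤ 4 * Nat.card (F' ⊓ U : Subgroup G) := h4
      _ ≤ 4 * (c1 * c2) := Nat.mul_le_mul_left 4 h5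
      _ ≤ 4 * q := Nat.mul_le_mul_left 4 h10
  have h12 : c ≤ 2 := by
    have h13 : q * (2 * c) ≤ q * 4 := by linarith only [h4, h5, h8, h10]
    have := Nat.le_of_mul_le_mul_left h13 (by omega)
    omega
  have h14 : c ^ 2 ≤ 2 ^ 2 := Nat.pow_le_pow_left h12 2
  omega

/-- **BETA, S ∩ L ≤ N₀**: equivariant transfer. -/
theorem beta_one (H : Fin5 t V T C₀ U V1 V2 S) {u : G} (h : Fu H.W T V L u) (Ln : L.Normal)
    (UL : U ≤ L) (hcase : ∀ s ∈ S, s ∈ L → s ∈ H.W.N0)
    (perf : (⟨u, h.mL⟩ : L) ∈ commutator L) : False := by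
  have W := H.W
  have hcom := H.fcomm h
  obtain ⟨R0, hR0, hTR0⟩ := exists_isSyl (centralizer {u}) (T ⊓ centralizer {u})
    (H.F.T2.to_le inf_le_left) inf_le_right
  have hR0c : ∀ r ∈ R0, r * u = u * r := fun r hr => mem_centralizer_singleton_iff.1 (hR0.2.1 hr)
  have htR0 : t ∈ R0 := hTR0 ⟨H.F.tT, mem_centralizer_singleton_iff.2 hcom.symm⟩
  have huR0 : u ∈ R0 := hTR0 ⟨h.mT, mem_centralizer_singleton_iff.2 rfl⟩
  have hR := hR0.inf_normal Ln
  set R : Subgroup G := R0 ⊓ L with hRdef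
  have hRt : ∀ r ∈ R, t * r * t⁻¹ ∈ R := fun r hr =>
    ⟨R0.mul_mem (R0.mul_mem htR0 hr.1) (R0.inv_mem htR0), Ln.conj_mem _ hr.2 t⟩
  have hodd := Cfsg.Agent.StdU3.TransferTE.odd_index_subgroupOf L S (odd_index H.Syl)
  obtain ⟨x1, hx1L, hx1, hbad⟩ := Cfsg.Agent.StdU3.TransferTE.exists_bad L S U hodd t W.tS W.t2 u
    (H.TS h.mT) h.mL h.sq hcom.symm R inf_le_right hR.1 hRt ⟨huR0, h.mL⟩
    (fun r hr => hR0c r hr.1)
    (fun x hx y hy => W.comm_mem (hcase x hx.1 hx.2) (hcase y hy.1 hy.2))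
    (fun x hx hxu hxt => H.fused h (hcase _ hxu
      (L.mul_mem (L.mul_mem (L.inv_mem hx) h.mL) hx)) hxt)
    (H.fu_notU h) perf
  obtain ⟨x0, hx0L, hx0, hx0t⟩ := Cfsg.Agent.StdU3.TransferTE.exists_fixed_conj L S hodd t W.tS W.t2
    R inf_le_right hR.1 hRt
  set y := x1⁻¹ * u * x1 with hy
  have hyS : y ∈ S := hx1 u ⟨huR0, h.mL⟩
  have hyL : y ∈ L := L.mul_mem (L.mul_mem (L.inv_mem hx1L) h.mL) hx1L
  have hyN := hcase y hyS hyL
  have hyy : y * y = 1 := by
    have e : y * y = x1⁻¹ * (u * u) * x1 := by rw [hy]; group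
    rw [e, h.sq]; group
  have hyU : y ∉ U := fun hU => hbad (U.mul_mem hU (W.SU t W.tS y hU))
  -- `R` conjugated contains the centralizer of `y` in `U`
  have hRU : ∀ w ∈ U, w * y = y * w → x1 * w * x1⁻¹ ∈ R := by
    let X : Subgroup G := (U ⊓ centralizer {y} : Subgroup G).map (MulAut.conj x1).toMonoidHom
    have hX2 : IsPGroup 2 X := by
      apply isPGroup_of_sq
      rintro _ ⟨w, hw, rfl⟩
      rw [← map_mul, W.usq w hw.1, map_one]
    have hXn : R ≤ normalizer (X : Set G) := by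
      intro r hr
      apply conj_mem_norm
      rintro _ ⟨w, ⟨hw, hwy⟩, rfl⟩
      have hwy' := mem_centralizer_singleton_iff.1 hwy
      have hrS := hx1 r hr
      have hry : (x1⁻¹ * r * x1) * y = y * (x1⁻¹ * r * x1) := by
        have e1 : (x1⁻¹ * r * x1) * y = x1⁻¹ * (r * u) * x1 := by rw [hy]; group
        have e2 : y * (x1⁻¹ * r * x1) = x1⁻¹ * (u * r) * x1 := by rw [hy]; group
        rw [e1, e2, hR0c r hr.1]
      refine ⟨(x1⁻¹ * r * x1) * w * (x1⁻¹ * r * x1)⁻¹,
        ⟨W.SU _ hrS w hw, mem_centralizer_singleton_iff.2 ?_⟩, ?_⟩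
      · have h3 : (x1⁻¹ * r * x1)⁻¹ * y = y * (x1⁻¹ * r * x1)⁻¹ := by
          rw [inv_mul_eq_iff_eq_mul, ← mul_assoc, hry, mul_inv_cancel_right]
        calc (x1⁻¹ * r * x1) * w * (x1⁻¹ * r * x1)⁻¹ * y
            = (x1⁻¹ * r * x1) * w * ((x1⁻¹ * r * x1)⁻¹ * y) := by group
          _ = (x1⁻¹ * r * x1) * w * (y * (x1⁻¹ * r * x1)⁻¹) := by rw [h3]
          _ = (x1⁻¹ * r * x1) * (w * y) * (x1⁻¹ * r * x1)⁻¹ := by group
          _ = (x1⁻¹ * r * x1) * (y * w) * (x1⁻¹ * r * x1)⁻¹ := by rw [hwy']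
          _ = ((x1⁻¹ * r * x1) * y) * w * (x1⁻¹ * r * x1)⁻¹ := by group
          _ = y * ((x1⁻¹ * r * x1) * w * (x1⁻¹ * r * x1)⁻¹) := by rw [hry]; group
      · change x1 * ((x1⁻¹ * r * x1) * w * (x1⁻¹ * r * x1)⁻¹) * x1⁻¹ = r * (x1 * w * x1⁻¹) * r⁻¹
        group
    have hsup := FieldStart.isPGroup_sup hX2 hR.1 hXn
    have hle : X ⊔ R ≤ centralizer {u} ⊓ L := by
      refine sup_le ?_ hR.2.1
      rintro _ ⟨w, ⟨hw, hwy⟩, rfl⟩
      have hwy' := mem_centralizer_singleton_iff.1 hwy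
      refine ⟨mem_centralizer_singleton_iff.2 ?_, Ln.conj_mem _ (UL hw) x1⟩
      change x1 * w * x1⁻¹ * u = u * (x1 * w * x1⁻¹)
      have e1 : x1 * w * x1⁻¹ * u = x1 * (w * y) * x1⁻¹ := by rw [hy]; group
      have e2 : u * (x1 * w * x1⁻¹) = x1 * (y * w) * x1⁻¹ := by rw [hy]; group
      rw [e1, e2, hwy']
    have hmax := hR.2.2 _ hsup le_sup_right hle
    intro w hw hwy
    exact hmax (le_sup_left (a := X) ⟨w, ⟨hw, mem_centralizer_singleton_iff.2 hwy⟩, rfl⟩)
  set z := x0⁻¹ * x1 with hz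
  have hzR : ∀ w, x1 * w * x1⁻¹ ∈ R → z * w * z⁻¹ ∈ W.N0 := by
    intro w hw
    have e : z * w * z⁻¹ = x0⁻¹ * (x1 * w * x1⁻¹) * x0 := by rw [hz]; group
    rw [e]
    exact hcase _ (hx0 _ hw) (L.mul_mem (L.mul_mem (L.inv_mem hx0L) hw.2) hx0L)
  have hxy : x1 * y * x1⁻¹ = u := by rw [hy]; group
  have hzy : z * y * z⁻¹ ∈ W.N0 := hzR y (by rw [hxy]; exact ⟨huR0, h.mL⟩)
  have hzU : ∀ w ∈ U, w * y = y * w → z * w * z⁻¹ ∈ W.N0 := fun w hw hwy => hzR w (hRU w hw hwy)
  have hzu : z * y * z⁻¹ = x0⁻¹ * u * x0 := by rw [hz, ← hxy]; group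
  have hu : u⁻¹ * (z * y * z⁻¹) ∈ U := by
    rw [hzu]
    rw [hzu] at hzy
    exact H.fused h hzy hx0t
  by_cases hc1 : ∀ a ∈ V1, y * a = a * y
  · -- `y` centralises `V₁`
    exact H.symm.te_end (H.fu_symm h) (y := y) (z := z) (by rw [W.N0_symm]; exact hyN) hyy hyU hc1
      (by rw [W.N0_symm]; exact hzU) (by rw [W.N0_symm]; exact hzy) hu
  by_cases hc2 : ∀ b ∈ V2, y * b = b * y
  · exact H.te_end h hyN hyy hyU hc2 hzU hzy hu
  -- type `(f, f)`: not bad
  push Not at hc1 hc2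
  apply hbad
  have h3 := H.type h hyN (by rw [hyy]; exact U.one_mem) hc1 hc2
  have h4 := W.SU t W.tS _ h3
  have h5 : t * (u⁻¹ * y) * t⁻¹ = u⁻¹ * (t * y * t⁻¹) := by
    have h6 : t * u⁻¹ = u⁻¹ * t := by
      rw [eq_inv_mul_iff_mul_eq, ← mul_assoc, hcom, mul_inv_cancel_right]
    calc t * (u⁻¹ * y) * t⁻¹ = (t * u⁻¹) * y * t⁻¹ := by group
      _ = u⁻¹ * (t * y * t⁻¹) := by rw [h6]; group
  rw [h5] at h4
  have h6 := W.SU u (H.TS h.mT) _ h3
  have e : y * (t * y * t⁻¹) = (u * (u⁻¹ * y) * u⁻¹) * (u * u) * (u⁻¹ * (t * y * t⁻¹)) := by group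
  rw [e, h.sq, mul_one]
  exact U.mul_mem h6 h4

end Fin5

end Cfsg.Agent.StdL2.FEnd
end

-- part: StdL2/FEndSC
section
/-!
# S1773, case (f), the end, second part: `S ∩ L` contains elements interchanging `V₁` and `V₂`

Then `U` is strongly closed in `S ∩ L` with respect to `L` (LEMMA SC), and the field involution is
not fused into `U`: contradiction to Goldschmidt's theorem.
-/

set_option autoImplicit false
set_option linter.unusedSectionVars false

open Subgroup
open scoped commutatorElement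

namespace Cfsg.Agent.StdL2.FEnd

open Cfsg.Agent.StdL2.FieldStart (IsSyl exists_isSyl card_le_two_mul exists_normalizer_gt)
open Cfsg.Agent.StdL2.SC (conj_mem_norm norm_conj norm_conj')
open Cfsg.Agent.StdL2.FGal (GalAct)
open Cfsg.Agent.StdL2.FWr Cfsg.Agent.StdL2.FT
open Cfsg.Agent.GH.E (rr mem_rr le_rr self_mem_rr)

namespace Fin5

section

variable {G : Type*} [Group G] [Finite G] {t : G} {V T C₀ U V1 V2 S L : Subgroup G}

/-- if `x ∈ S` is fused into `U`, then so by an element conjugating `C_S(x)` into `S`. -/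
theorem extremal (H : Fin5 t V T C₀ U V1 V2 S) {x g0 : G} (hx : g0 * x * g0⁻¹ ∈ U) :
    ∃ g, g * x * g⁻¹ ∈ U ∧ ∀ y ∈ S, y * x = x * y → g * y * g⁻¹ ∈ S := by
  have W := H.W
  set u := g0 * x * g0⁻¹ with hudef
  have hWu : U ≤ centralizer {u} := fun w hw => mem_centralizer_singleton_iff.2 (W.ucomm hw hx)
  obtain ⟨R, hR, hWR⟩ := exists_isSyl (centralizer {u}) U (W.S2.to_le W.US) hWu
  let Q0 : Subgroup G := (S ⊓ centralizer {x} : Subgroup G).map (MulAut.conj g0).toMonoidHom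
  have hQ0 : IsPGroup 2 Q0 := (W.S2.to_le inf_le_left).map _
  have hQ0' : Q0 ≤ centralizer {u} := by
    rintro _ ⟨y, ⟨hy, hyx⟩, rfl⟩
    have hyx' : y * x = x * y := mem_centralizer_singleton_iff.1 hyx
    refine mem_centralizer_singleton_iff.2 ?_
    change g0 * y * g0⁻¹ * u = u * (g0 * y * g0⁻¹)
    rw [hudef]
    have e1 : g0 * y * g0⁻¹ * (g0 * x * g0⁻¹) = g0 * (y * x) * g0⁻¹ := by group
    have e2 : g0 * x * g0⁻¹ * (g0 * y * g0⁻¹) = g0 * (x * y) * g0⁻¹ := by group
    rw [e1, e2, hyx']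
  obtain ⟨c, hc, hcR⟩ := hR.conj hQ0 hQ0'
  obtain ⟨k, -, hkn, hkP⟩ := SC.into H.Syl (fun g _ h => W.wc g h) hR.1 le_top hWR
  have hcu : c * u = u * c := mem_centralizer_singleton_iff.1 hc
  refine ⟨k * c * g0, ?_, ?_⟩
  · have e : k * c * g0 * x * (k * c * g0)⁻¹ = k * (c * u * c⁻¹) * k⁻¹ := by
      rw [hudef]; group
    have e' : c * u * c⁻¹ = u := by rw [hcu]; group
    rw [e, e']
    exact norm_conj hkn hx
  · intro y hy hyx
    have e : k * c * g0 * y * (k * c * g0)⁻¹ = k * (c * (g0 * y * g0⁻¹) * c⁻¹) * k⁻¹ := by group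
    rw [e]
    exact hkP _ (hcR _ ⟨y, ⟨hy, mem_centralizer_singleton_iff.2 hyx⟩, rfl⟩)

variable {u : G}

/-- the field involution is not fused into `U`. -/
theorem not_bad (H : Fin5 t V T C₀ U V1 V2 S) (h : Fu H.W T V L u) (g : G) :
    g * u * g⁻¹ ∉ U := by
  intro hg
  have W := H.W
  obtain ⟨k, hku, hk⟩ := H.extremal hg
  have hkt := hk t W.tS (H.fcomm h).symm
  have hc : k * u * k⁻¹ * (k * t * k⁻¹) = k * t * k⁻¹ * (k * u * k⁻¹) := by
    have e1 : k * u * k⁻¹ * (k * t * k⁻¹) = k * (u * t) * k⁻¹ := by group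
    have e2 : k * t * k⁻¹ * (k * u * k⁻¹) = k * (t * u) * k⁻¹ := by group
    rw [e1, e2, H.fcomm h]
  have h1 := H.key hkt hku hc
  have e : k⁻¹ * (k * u * k⁻¹) * k = u := by group
  rw [e] at h1
  exact H.fu_notC h h1

/-- no involution of type `(f, f)` is fused into `U`. -/
theorem type_not_bad (H : Fin5 t V T C₀ U V1 V2 S) (h : Fu H.W T V L u) {y : G}
    (hy : u⁻¹ * y ∈ U) (g : G) : g * y * g⁻¹ ∉ U := by
  intro hg
  have W := H.W
  have hyy : y * y = 1 := by
    have h1 := W.usq _ hg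
    have e : g * y * g⁻¹ * (g * y * g⁻¹) = g * (y * y) * g⁻¹ := by group
    rw [e] at h1
    exact conj_eq_one_iff.1 h1
  have huS := H.TS h.mT
  have hui : u⁻¹ = u := inv_eq_of_mul_eq_one_left h.sq
  rw [hui] at hy
  have hc : Nat.card (SFive.LeafTools.cq U u) ^ 2 = Nat.card U := by
    apply le_antisymm
    · have h5 := W.prod_le h.mN h.mN (X := U ⊓ centralizer {u}) inf_le_left
        (fun x hx => mem_centralizer_singleton_iff.1 hx.2)
        (fun x hx => mem_centralizer_singleton_iff.1 hx.2)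
      have h6 := W.fix1 h.mN (H.fu_ne1 h)
      have h7 := W.fix2 h.mN (H.fu_ne2 h)
      rw [W.card_U]
      calc Nat.card (SFive.LeafTools.cq U u) ^ 2 ≤
          (Nat.card (V1 ⊓ centralizer {u} : Subgroup G) *
            Nat.card (V2 ⊓ centralizer {u} : Subgroup G)) ^ 2 := Nat.pow_le_pow_left h5 2
        _ = Nat.card (V1 ⊓ centralizer {u} : Subgroup G) ^ 2 *
            Nat.card (V2 ⊓ centralizer {u} : Subgroup G) ^ 2 := by ring
        _ ≤ Nat.card V1 * Nat.card V1 := Nat.mul_le_mul h6 h7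
        _ = Nat.card V1 ^ 2 := by ring
    · exact EOneFusion.card_le_cent_sq h.sq W.usq (W.SU u huS)
  obtain ⟨r, -, hr⟩ := SFive.LeafTools.conj_of_invol W.usq (W.SU u huS) h.sq hc hy hyy
  apply H.not_bad h (g * r)
  have e : g * r * u * (g * r)⁻¹ = g * (r * u * r⁻¹) * g⁻¹ := by group
  rw [e, hr]
  exact hg

/-- an element `y ∈ N₀` such that some `y w`, `w ∈ U`, is fused into `U`, acts trivially on `V₁` or
on `V₂`. -/
theorem bad_cases (H : Fin5 t V T C₀ U V1 V2 S) (h : Fu H.W T V L u) {y : G} (hy : y ∈ H.W.N0)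
    (hyy : y * y ∈ U) (hbad : ∃ w ∈ U, ∃ g : G, g * (y * w) * g⁻¹ ∈ U) :
    (∀ a ∈ V1, y * a = a * y) ∨ ∀ b ∈ V2, y * b = b * y := by
  by_contra hcon
  push Not at hcon
  obtain ⟨h1, h2⟩ := hcon
  have h3 := H.type h hy hyy h1 h2
  obtain ⟨w, hw, g, hg⟩ := hbad
  refine H.type_not_bad h (y := y * w) ?_ g hg
  rw [← mul_assoc]
  exact U.mul_mem h3 hw

/-- the bound for a subgroup commuting with a swapping element and with an element of `N₀`. -/
theorem _root_.Cfsg.Agent.StdL2.FWr.Wr.sw_le' (W : Wr t U V1 V2 S) {y z : G} (hy : y ∈ S)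
    (hyN : y ∉ W.N0) (hz : z ∈ W.N0) {X : Subgroup G} (hX : X ≤ U) (hXy : ∀ x ∈ X, x * y = y * x)
    (hXz : ∀ x ∈ X, x * z = z * x) :
    Nat.card X ≤ Nat.card (V1 ⊓ centralizer {z} : Subgroup G) := by
  classical
  obtain ⟨h1, h2⟩ := W.sw hy hyN
  choose f hf g hg hfg using fun x : X => W.gen x (hX x.2)
  have hfz : ∀ x : X, f x * z = z * f x := by
    intro x
    have h := hXz x x.2
    rw [hfg x] at h
    have h3 : (z * f x * z⁻¹) * (z * g x * z⁻¹) = f x * g x := by
      calc (z * f x * z⁻¹) * (z * g x * z⁻¹) = z * (f x * g x) * z⁻¹ := by group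
        _ = f x * g x := by rw [← h]; group
    have h4 := (W.dec (W.n1 hz _ (hf x)) (hf x) (W.n2 hz _ (hg x)) (hg x) h3).1
    rw [mul_inv_eq_iff_eq_mul] at h4
    exact h4.symm
  refine Nat.card_le_card_of_injective (fun x : X =>
    (⟨f x, hf x, mem_centralizer_singleton_iff.2 (hfz x)⟩ :
      (V1 ⊓ centralizer {z} : Subgroup G))) ?_
  have key : ∀ x : X, g x = y * f x * y⁻¹ := by
    intro x
    have h3 := hXy x x.2
    rw [hfg x] at h3
    have h4 : (y * g x * y⁻¹) * (y * f x * y⁻¹) = f x * g x := by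
      calc (y * g x * y⁻¹) * (y * f x * y⁻¹) = y * (g x * f x) * y⁻¹ := by group
        _ = y * (f x * g x) * y⁻¹ := by rw [W.ucomm (W.V2U (hg x)) (W.V1U (hf x))]
        _ = f x * g x := by rw [← h3]; group
    exact ((W.dec (h2 _ (hg x)) (hf x) (h1 _ (hf x)) (hg x) h4).2).symm
  intro x x' h
  have h3 : f x = f x' := congrArg (fun p : (V1 ⊓ centralizer {z} : Subgroup G) => (p : G)) h
  apply Subtype.ext
  rw [hfg x, hfg x', key x, key x', h3]

/-- (i) of LEMMA SC -/
theorem sc_i (H : Fin5 t V T C₀ U V1 V2 S) (h : Fu H.W T V L u) {F : Subgroup G}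
    (hFS : F ≤ S) (hcomm : ∀ y ∈ F, ∀ z ∈ F, y * z * y⁻¹ * z⁻¹ ∈ U) (hsq : ∀ y ∈ F, y * y ∈ U)
    (hbad : ∀ y ∈ F, y ∉ U → ∃ w ∈ U, ∃ g ∈ L, g * (y * w) * g⁻¹ ∈ U) :
    ∀ y ∈ F, ∀ z ∈ F, y ∉ U → z ∉ U → y⁻¹ * z ∈ U := by
  have W := H.W
  have hcase : ∀ y ∈ F, y ∉ U → y ∈ W.N0 → (∀ a ∈ V1, y * a = a * y) ∨ ∀ b ∈ V2, y * b = b * y := by
    intro y hy hyU hyN
    obtain ⟨w, hw, g, -, hg⟩ := hbad y hy hyU
    exact H.bad_cases h hyN (hsq y hy) ⟨w, hw, g, hg⟩
  intro y hy z hz hyU hzU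
  by_cases hall : ∃ s ∈ F, s ∉ W.N0
  · -- all elements of `F ∩ N₀` are in `U`
    obtain ⟨s, hs, hsN⟩ := hall
    have hsS := hFS hs
    obtain ⟨s1, s2⟩ := W.sw hsS hsN
    have key : ∀ x ∈ F, x ∈ W.N0 → x ∈ U := by
      intro x hx hxN
      by_contra hxU
      have hc := hcomm s hs x hx
      -- `s x s⁻¹ ∈ U x`
      have hsx : ∀ v ∈ U, x * v = v * x → (s * x * s⁻¹) * v = v * (s * x * s⁻¹) := by
        intro v hv hxv
        have e : s * x * s⁻¹ = (s * x * s⁻¹ * x⁻¹) * x := by group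
        rw [e, mul_assoc, hxv, ← mul_assoc, W.ucomm hc hv, mul_assoc]
      have hback : ∀ v, (s * x * s⁻¹) * (s * v * s⁻¹) = (s * v * s⁻¹) * (s * x * s⁻¹) →
          x * v = v * x := by
        intro v hv
        have e1 : (s * x * s⁻¹) * (s * v * s⁻¹) = s * (x * v) * s⁻¹ := by group
        have e2 : (s * v * s⁻¹) * (s * x * s⁻¹) = s * (v * x) * s⁻¹ := by group
        rw [e1, e2] at hv
        exact mul_left_cancel (mul_right_cancel hv)
      rcases hcase x hx hxU hxN with h1 | h2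
      · apply hxU
        refine W.mem_U (hFS hx) h1 fun b hb => hback b ?_
        exact hsx _ (W.V1U (s2 b hb)) (h1 _ (s2 b hb))
      · apply hxU
        refine W.mem_U (hFS hx) (fun a ha => hback a ?_) h2
        exact hsx _ (W.V2U (s1 a ha)) (h2 _ (s1 a ha))
    have hyN : y ∉ W.N0 := fun hN => hyU (key y hy hN)
    have hzN : z ∉ W.N0 := fun hN => hzU (key z hz hN)
    refine key _ (F.mul_mem (F.inv_mem hy) hz) (W.mul_mem_of_sw (S.inv_mem (hFS hy)) (hFS hz) ?_ hzN)
    intro hN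
    apply hyN
    have := W.N0.inv_mem hN
    rwa [inv_inv] at this
  · push Not at hall
    have hsqc : ∀ x ∈ F, ∀ v ∈ U, (x * x) * v = v * (x * x) := fun x hx v hv =>
      W.ucomm (hsq x hx) hv
    have hyN := hall y hy
    have hzN := hall z hz
    have hyS := W.N0S hyN
    have hzS := W.N0S hzN
    have hinvc : ∀ {v : G}, y * v = v * y → z * v = v * z → (y⁻¹ * z) * v = v * (y⁻¹ * z) := by
      intro v hyv hzv
      have h1 : y⁻¹ * v = v * y⁻¹ := by
        rw [inv_mul_eq_iff_eq_mul, ← mul_assoc, hyv, mul_inv_cancel_right]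
      rw [mul_assoc, hzv, ← mul_assoc, h1, mul_assoc]
    -- the mixed case
    have hmix : ∀ x ∈ F, ∀ x' ∈ F, x ∉ U → x' ∉ U → (∀ a ∈ V1, x * a = a * x) →
        ¬ ∀ b ∈ V2, x' * b = b * x' := by
      intro x hx x' hx' hxU hxU' h1 h2
      have hxN := hall x hx
      have hxN' := hall x' hx'
      have hxxF := F.mul_mem hx hx'
      have h3 : ¬ ∀ b ∈ V2, x * b = b * x := fun h3 => hxU (W.mem_U (hFS hx) h1 h3)
      have h4 : ¬ ∀ a ∈ V1, x' * a = a * x' := fun h4 => hxU' (W.mem_U (hFS hx') h4 h2)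
      have h5 : ¬ ∀ a ∈ V1, (x * x') * a = a * (x * x') := by
        intro h5
        apply h4
        intro a ha
        have h6 := h5 a ha
        have h7 := h1 (x' * a * x'⁻¹) (W.n1 hxN' a ha)
        have h8 : x * (x' * a * x'⁻¹) = a * x := by
          calc x * (x' * a * x'⁻¹) = (x * x' * a) * x'⁻¹ := by group
            _ = (a * (x * x')) * x'⁻¹ := by rw [h6]
            _ = a * x := by group
        rw [h7, ← h1 a ha] at h8
        rw [h1 a ha] at h8
        have h9 := mul_right_cancel h8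
        rwa [mul_inv_eq_iff_eq_mul] at h9
      have h6 : ¬ ∀ b ∈ V2, (x * x') * b = b * (x * x') := by
        intro h6
        apply h3
        intro b hb
        have h7 := h6 b hb
        rw [mul_assoc, h2 b hb] at h7
        have h8 : (x * b) * x' = (b * x) * x' := by
          rw [mul_assoc, h7, mul_assoc]
        exact mul_right_cancel h8
      have hU : x * x' ∉ U := by
        intro hU
        exact h5 fun a ha => W.ucomm hU (W.V1U ha)
      rcases hcase _ hxxF hU (hall _ hxxF) with h7 | h7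
      · exact h5 h7
      · exact h6 h7
    rcases hcase y hy hyU hyN with h1 | h1
    · rcases hcase z hz hzU hzN with h2 | h2
      · -- both centralise `V₁`
        have h3 : ∃ b ∈ V2, y * b ≠ b * y := by
          by_contra hcon
          push Not at hcon
          exact hyU (W.mem_U hyS h1 hcon)
        have h4 : ∃ b ∈ V2, z * b ≠ b * z := by
          by_contra hcon
          push Not at hcon
          exact hzU (W.mem_U hzS h2 hcon)
        refine W.mem_U (S.mul_mem (S.inv_mem hyS) hzS) (fun a ha => hinvc (h1 a ha) (h2 a ha)) ?_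
        exact W.symm.gal.uniq y hyS z hzS (W.n2 hyN) (W.n2 hzN)
          (fun b hb => hsqc y hy b (W.V2U hb)) (fun b hb => hsqc z hz b (W.V2U hb)) h3 h4
      · exact absurd h2 (hmix y hy z hz hyU hzU h1)
    · rcases hcase z hz hzU hzN with h2 | h2
      · exact absurd h1 (hmix z hz y hy hzU hyU h2)
      · have h3 : ∃ a ∈ V1, y * a ≠ a * y := by
          by_contra hcon
          push Not at hcon
          exact hyU (W.mem_U hyS hcon h1)
        have h4 : ∃ a ∈ V1, z * a ≠ a * z := by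
          by_contra hcon
          push Not at hcon
          exact hzU (W.mem_U hzS hcon h2)
        refine W.mem_U (S.mul_mem (S.inv_mem hyS) hzS) ?_ (fun a ha => hinvc (h1 a ha) (h2 a ha))
        exact W.gal.uniq y hyS z hzS (W.n1 hyN) (W.n1 hzN)
          (fun b hb => hsqc y hy b (W.V1U hb)) (fun b hb => hsqc z hz b (W.V1U hb)) h3 h4

/-- the cardinality hypothesis of LEMMA SC -/
theorem sc_card (H : Fin5 t V T C₀ U V1 V2 S) {x : G} (hx : x ∈ S) (hxU : x ∉ U) :
    2 * Nat.card (U ⊓ centralizer {x} : Subgroup G) < Nat.card U := by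
  have W := H.W
  have hq := W.card16
  rw [W.card_U]
  set X : Subgroup G := U ⊓ centralizer {x}
  have hXx : ∀ y ∈ X, y * x = x * y := fun y hy => mem_centralizer_singleton_iff.1 hy.2
  set q := Nat.card V1
  by_cases hN : x ∈ W.N0
  · have h1 := W.lt_of_not_mem hN hxU (X := X) inf_le_left hXx
    by_contra hcon
    push Not at hcon
    have h7 : (q ^ 2) ^ 2 ≤ (2 * Nat.card X) ^ 2 := Nat.pow_le_pow_left hcon 2
    have h11 : q ^ 3 * q ≤ q ^ 3 * 4 := by
      calc q ^ 3 * q = (q ^ 2) ^ 2 := by ring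
        _ ≤ (2 * Nat.card X) ^ 2 := h7
        _ = 4 * Nat.card X ^ 2 := by ring
        _ ≤ 4 * q ^ 3 := Nat.mul_le_mul_left 4 h1
        _ = q ^ 3 * 4 := by ring
    have h12 := Nat.le_of_mul_le_mul_left h11 (by positivity)
    omega
  · have h1 := W.sw_le hx hN (X := X) inf_le_left hXx
    nlinarith

/-- `x` acts trivially on `V₂`, nontrivially on `V₁`; the case `x ∈ N₀` of (ii). -/
theorem sc_ii_aux (H : Fin5 t V T C₀ U V1 V2 S) (Ln : L.Normal) (tL : t ∉ L) (UL : U ≤ L)
    (hcase : ∃ s ∈ S, s ∈ L ∧ s ∉ H.W.N0) {x : G}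
    (hxN : x ∈ H.W.N0) (hxU : x ∉ U) (hxx : x * x = 1) (h2 : ∀ b ∈ V2, x * b = b * x)
    {B : Subgroup G} (hB : B ≤ U ⊓ centralizer {x})
    (hc : Nat.card (U ⊓ centralizer {x} : Subgroup G) ≤ 2 * Nat.card B) {y : G} (hy : y ∈ S)
    (hyL : y ∈ L) (hyB : ∀ b ∈ B, y * b = b * y) : y ∈ U ∨ x * y ∈ U := by
  have W := H.W
  have hq := W.card16
  have hBx : ∀ b ∈ B, b * x = x * b := fun b hb => mem_centralizer_singleton_iff.1 (hB hb).2
  have hBU : B ≤ U := hB.trans inf_le_left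
  have h1 : ∃ a ∈ V1, x * a ≠ a * x := by
    by_contra hcon
    push Not at hcon
    exact hxU (W.mem_U (W.N0S hxN) hcon h2)
  have hlow := W.le_cent h2
  have hfx := W.fix1 hxN h1
  have hqx := W.q_le hxN hxx
  set q := Nat.card V1 with hqdef
  set c := Nat.card (V1 ⊓ centralizer {x} : Subgroup G) with hcdef
  have hcc : c ^ 2 = q := le_antisymm hfx hqx
  have hqcB : q * c ≤ 2 * Nat.card B := hlow.trans hc
  have hc4 : 4 ≤ c := by
    by_contra hcon
    have h3 : c ≤ 3 := by omega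
    have h4 : c ^ 2 ≤ 3 ^ 2 := Nat.pow_le_pow_left h3 2
    omega
  by_cases hyN : y ∈ W.N0
  · -- `y` centralises `V₂`
    have hy2 : ∀ b ∈ V2, y * b = b * y := by
      by_contra hcon
      push Not at hcon
      have h3 := W.fix2 hyN hcon
      have h4 := W.prod_le hxN hyN hBU hBx (fun b hb => (hyB b hb).symm)
      set c2 := Nat.card (V2 ⊓ centralizer {y} : Subgroup G)
      have h5 : c * q ≤ c * (2 * c2) := by
        calc c * q = q * c := by ring
          _ ≤ 2 * Nat.card B := hqcB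
          _ ≤ 2 * (c * c2) := Nat.mul_le_mul_left 2 h4
          _ = c * (2 * c2) := by ring
      have h6 := Nat.le_of_mul_le_mul_left h5 (by omega)
      have h7 : q ^ 2 ≤ (2 * c2) ^ 2 := Nat.pow_le_pow_left h6 2
      have h8 : (2 * c2) ^ 2 = 4 * c2 ^ 2 := by ring
      rw [h8] at h7
      nlinarith only [hq, h3, h7]
    by_cases hyy : ∀ a ∈ V1, (y * y) * a = a * (y * y)
    · by_cases hy1 : ∀ a ∈ V1, y * a = a * y
      · exact Or.inl (W.mem_U hy hy1 hy2)
      · push Not at hy1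
        right
        have h3 := W.gal.uniq x (W.N0S hxN) y hy (W.n1 hxN) (W.n1 hyN)
          (fun a _ => by rw [hxx, one_mul, mul_one]) hyy h1 hy1
        have hxi : x⁻¹ = x := inv_eq_of_mul_eq_one_left hxx
        rw [hxi] at h3
        refine W.mem_U (S.mul_mem (W.N0S hxN) hy) h3 fun b hb => ?_
        rw [mul_assoc, hy2 b hb, ← mul_assoc, h2 b hb, mul_assoc]
    · -- the exceptional case `q = 16`
      exfalso
      push Not at hyy
      have h3 := W.gal.fix4 y hy (W.n1 hyN) hyy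
      have h4 := W.prod_le hyN hxN hBU (fun b hb => (hyB b hb).symm) hBx
      have h5 := W.card_cent_le2 x
      set c1 := Nat.card (V1 ⊓ centralizer {y} : Subgroup G) with hc1def
      have h6 : q * c ≤ q * (2 * c1) := by
        calc q * c ≤ 2 * Nat.card B := hqcB
          _ ≤ 2 * (c1 * Nat.card (V2 ⊓ centralizer {x} : Subgroup G)) := Nat.mul_le_mul_left 2 h4
          _ ≤ 2 * (c1 * q) := Nat.mul_le_mul_left 2 (Nat.mul_le_mul_left c1 h5)
          _ = q * (2 * c1) := by ring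
      have h7 := Nat.le_of_mul_le_mul_left h6 (by omega)
      have h8 : c1 ≤ 2 := by
        by_contra hcon
        have h9 : 3 ≤ c1 := by omega
        have h10 : c1 ^ 4 ≤ (2 * c1) ^ 2 := by
          calc c1 ^ 4 ≤ q := h3
            _ = c ^ 2 := hcc.symm
            _ ≤ (2 * c1) ^ 2 := Nat.pow_le_pow_left h7 2
        have h11 : c1 ^ 2 * c1 ^ 2 ≤ c1 ^ 2 * 4 := by
          calc c1 ^ 2 * c1 ^ 2 = c1 ^ 4 := by ring
            _ ≤ (2 * c1) ^ 2 := h10
            _ = c1 ^ 2 * 4 := by ring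
        have h12 := Nat.le_of_mul_le_mul_left h11 (by (clear * - h9; positivity))
        have h13 : 3 ^ 2 ≤ c1 ^ 2 := Nat.pow_le_pow_left h9 2
        omega
      -- `N₀ ≤ L`
      have hN0L : ∀ s ∈ W.N0, s ∈ L := by
        intro s hs
        have hsS := W.N0S hs
        obtain ⟨n, hn⟩ := W.gal.gen2 y hy (W.n1 hyN) h8 s hsS (W.n1 hs)
        have hts := W.conj_t_N0 hs
        obtain ⟨m, hm⟩ := W.gal.gen2 y hy (W.n1 hyN) h8 _ (W.N0S hts) (W.n1 hts)
        -- `y₂ = t⁻¹ y t`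
        have ht' : ∀ a ∈ V1, t⁻¹ * a * t ∈ V2 := by
          intro a ha
          have := W.tsw a ha
          rw [W.tinv] at this ⊢
          exact this
        have ht'' : ∀ b ∈ V2, t⁻¹ * b * t ∈ V1 := by
          intro b hb
          have := W.tsw' b hb
          rw [W.tinv] at this ⊢
          exact this
        set y2 := t⁻¹ * y * t with hy2def
        have hy2L : y2 ∈ L := by
          have := Ln.conj_mem _ hyL t⁻¹
          rwa [inv_inv] at this
        have hy2S : y2 ∈ S := S.mul_mem (S.mul_mem (S.inv_mem W.tS) hy) W.tS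
        have hy2c : ∀ a ∈ V1, y2 * a = a * y2 := by
          intro a ha
          have h9 := hy2 (t * a * t⁻¹) (W.tsw a ha)
          have e1 : y * (t * a * t⁻¹) = t * (y2 * a) * t⁻¹ := by rw [hy2def]; group
          have e2 : (t * a * t⁻¹) * y = t * (a * y2) * t⁻¹ := by rw [hy2def]; group
          rw [e1, e2] at h9
          exact mul_left_cancel (mul_right_cancel h9)
        have hpow : ∀ (z v : G) (k : ℕ), z * v = v * z → z ^ k * v = v * z ^ k := by
          intro z v k hzv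
          exact (Commute.pow_left (show Commute z v from hzv) k)
        have hsU : y ^ n * y2 ^ m * s ∈ U := by
          apply W.mem_U (S.mul_mem (S.mul_mem (S.pow_mem hy n) (S.pow_mem hy2S m)) hsS)
          · intro a ha
            have h9 := hn a ha
            have h10 := hpow y2 _ m (hy2c _ (W.n1 hs a ha))
            calc y ^ n * y2 ^ m * s * a = y ^ n * (y2 ^ m * (s * a * s⁻¹)) * s := by group
              _ = y ^ n * ((s * a * s⁻¹) * y2 ^ m) * s := by rw [h10]
              _ = (y ^ n * s * a) * (s⁻¹ * y2 ^ m * s) := by group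
              _ = (a * (y ^ n * s)) * (s⁻¹ * y2 ^ m * s) := by rw [h9]
              _ = a * (y ^ n * y2 ^ m * s) := by group
          · intro b hb
            have h9 := hm (t * b * t⁻¹) (W.tsw' b hb)
            have e1 : (y ^ m * (t * s * t⁻¹)) * (t * b * t⁻¹) = t * ((y2 ^ m * s) * b) * t⁻¹ := by
              have : y ^ m = t * y2 ^ m * t⁻¹ := by
                rw [hy2def, ← conj_pow]
                congr 1
                group
              rw [this]; group
            have e2 : (t * b * t⁻¹) * (y ^ m * (t * s * t⁻¹)) = t * (b * (y2 ^ m * s)) * t⁻¹ := by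
              have : y ^ m = t * y2 ^ m * t⁻¹ := by
                rw [hy2def, ← conj_pow]
                congr 1
                group
              rw [this]; group
            rw [e1, e2] at h9
            have h10 : (y2 ^ m * s) * b = b * (y2 ^ m * s) := mul_left_cancel (mul_right_cancel h9)
            have h11 := hpow y b n (hy2 b hb)
            calc y ^ n * y2 ^ m * s * b = y ^ n * ((y2 ^ m * s) * b) := by group
              _ = y ^ n * (b * (y2 ^ m * s)) := by rw [h10]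
              _ = (y ^ n * b) * (y2 ^ m * s) := by group
              _ = (b * y ^ n) * (y2 ^ m * s) := by rw [h11]
              _ = b * (y ^ n * y2 ^ m * s) := by group
        have h9 := UL hsU
        have h10 : y ^ n * y2 ^ m ∈ L := L.mul_mem (L.pow_mem hyL n) (L.pow_mem hy2L m)
        have h11 := L.mul_mem (L.inv_mem h10) h9
        rwa [inv_mul_cancel_left] at h11
      obtain ⟨s, hsS, hsL, hsN⟩ := hcase
      have h9 := hN0L _ (W.mul_mem_of_sw W.tS hsS W.t_not hsN)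
      apply tL
      have h10 := L.mul_mem h9 (L.inv_mem hsL)
      rwa [mul_inv_cancel_right] at h10
  · exfalso
    have h3 := W.sw_le hy hyN hBU (fun b hb => (hyB b hb).symm)
    have h4 : q * c ≤ q * 2 := by
      calc q * c ≤ 2 * Nat.card B := hqcB
        _ ≤ 2 * q := Nat.mul_le_mul_left 2 h3
        _ = q * 2 := by ring
    have h5 := Nat.le_of_mul_le_mul_left h4 (by omega)
    omega

/-- (ii) of LEMMA SC inside `S ∩ L`. -/
theorem sc_ii (H : Fin5 t V T C₀ U V1 V2 S) (h : Fu H.W T V L u) (Ln : L.Normal) (tL : t ∉ L)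
    (UL : U ≤ L) (hcase : ∃ s ∈ S, s ∈ L ∧ s ∉ H.W.N0) {x : G}
    (hxS : x ∈ S) (hxU : x ∉ U) (hbad : ∃ g : G, g * x * g⁻¹ ∈ U)
    {B : Subgroup G} (hB : B ≤ U ⊓ centralizer {x})
    (hc : Nat.card (U ⊓ centralizer {x} : Subgroup G) ≤ 2 * Nat.card B) {y : G} (hy : y ∈ S)
    (hyL : y ∈ L) (hyB : ∀ b ∈ B, y * b = b * y) : y ∈ U ∨ x * y ∈ U := by
  have W := H.W
  have hq := W.card16
  have hBx : ∀ b ∈ B, b * x = x * b := fun b hb => mem_centralizer_singleton_iff.1 (hB hb).2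
  have hBU : B ≤ U := hB.trans inf_le_left
  have hxx : x * x = 1 := by
    obtain ⟨g, hg⟩ := hbad
    have h1 := W.usq _ hg
    have e : g * x * g⁻¹ * (g * x * g⁻¹) = g * (x * x) * g⁻¹ := by group
    rw [e] at h1
    exact conj_eq_one_iff.1 h1
  by_cases hxN : x ∈ W.N0
  · rcases H.bad_cases h hxN (by rw [hxx]; exact U.one_mem)
      ⟨1, U.one_mem, by simpa only [_root_.mul_one] using hbad⟩ with h1 | h2
    · exact H.symm.sc_ii_aux Ln tL UL (by rw [W.N0_symm]; exact hcase)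
        (by rw [W.N0_symm]; exact hxN) hxU hxx h1 hB hc hy hyL hyB
    · exact H.sc_ii_aux Ln tL UL hcase hxN hxU hxx h2 hB hc hy hyL hyB
  · -- `x` interchanges `V₁` and `V₂`
    have hqB : Nat.card V1 ≤ 2 * Nat.card B := by
      refine le_trans ?_ hc
      have h1 := EOneFusion.card_le_cent_sq hxx W.usq (W.SU x hxS)
      rw [W.card_U] at h1
      exact (Nat.pow_le_pow_iff_left (by norm_num)).1 h1
    have key : ∀ y ∈ W.N0, (∀ b ∈ B, y * b = b * y) → y ∈ U := by
      intro y hyN hyB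
      have hgen : ∀ c : ℕ, Nat.card B ≤ c → c ^ 2 ≤ Nat.card V1 → False := by
        intro c h3 h4
        have h5 : Nat.card V1 ≤ 2 * c := hqB.trans (Nat.mul_le_mul_left 2 h3)
        have h6 : Nat.card V1 ^ 2 ≤ (2 * c) ^ 2 := Nat.pow_le_pow_left h5 2
        have h7 : (2 * c) ^ 2 = 4 * c ^ 2 := by ring
        rw [h7] at h6
        nlinarith only [hq, h4, h6]
      apply W.mem_U (W.N0S hyN)
      · by_contra hcon
        push Not at hcon
        exact hgen _ (W.sw_le' hxS hxN hyN hBU hBx (fun b hb => (hyB b hb).symm))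
          (W.fix1 hyN hcon)
      · by_contra hcon
        push Not at hcon
        exact hgen _ (W.symm.sw_le' hxS (by rw [W.N0_symm]; exact hxN)
          (by rw [W.N0_symm]; exact hyN) hBU hBx (fun b hb => (hyB b hb).symm))
          (W.fix2 hyN hcon)
    by_cases hyN : y ∈ W.N0
    · exact Or.inl (key y hyN hyB)
    · right
      refine key _ (W.mul_mem_of_sw hxS hy hxN hyN) fun b hb => ?_
      rw [mul_assoc, hyB b hb, ← mul_assoc, ← hBx b hb, mul_assoc]

/-- `U` is strongly closed in `S ∩ L` with respect to `L`. -/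
theorem strongly_closed (H : Fin5 t V T C₀ U V1 V2 S) (h : Fu H.W T V L u) (Ln : L.Normal)
    (tL : t ∉ L) (UL : U ≤ L) (hcase : ∃ s ∈ S, s ∈ L ∧ s ∉ H.W.N0) :
    ∀ w ∈ U, ∀ g ∈ L, g * w * g⁻¹ ∈ S ⊓ L → g * w * g⁻¹ ∈ U := by
  have W := H.W
  have hSyl : IsSyl L (S ⊓ L) := by
    have := H.Syl.inf_normal Ln
    rwa [top_inf_eq] at this
  have wc : ∀ g ∈ L, (∀ w ∈ U, g * w * g⁻¹ ∈ S ⊓ L) → ∀ w ∈ U, g * w * g⁻¹ ∈ U :=
    fun g _ hg => W.wc g fun w hw => (hg w hw).1
  refine SC.strong hSyl (le_inf W.US UL) W.usq wc ?_ ?_ ?_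
  · intro F _ hFS hcomm hsq hbad
    exact H.sc_i (L := L) h (hFS.trans inf_le_left) hcomm hsq hbad
  · intro x hx hxU _
    exact H.sc_card hx.1 hxU
  · intro x hx hxU hbad B hB hc Q hQ hQL hUQ hxQ hQB _ y hy
    obtain ⟨k, hkL, hkn, hkP⟩ := SC.into hSyl wc hQ hQL hUQ
    -- transport with `k`
    let B' : Subgroup G := B.map (MulAut.conj k).toMonoidHom
    have hB'c : Nat.card B' = Nat.card B :=
      (Nat.card_congr (B.equivMapOfInjective _ (MulAut.conj k).injective).toEquiv).symm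
    have hmap : (U ⊓ centralizer {x} : Subgroup G).map (MulAut.conj k).toMonoidHom =
        U ⊓ centralizer {k * x * k⁻¹} := by
      apply le_antisymm
      · rintro _ ⟨w, ⟨hw, hwx⟩, rfl⟩
        have hwx' := mem_centralizer_singleton_iff.1 hwx
        refine ⟨norm_conj hkn hw, mem_centralizer_singleton_iff.2 ?_⟩
        change k * w * k⁻¹ * (k * x * k⁻¹) = k * x * k⁻¹ * (k * w * k⁻¹)
        have e1 : k * w * k⁻¹ * (k * x * k⁻¹) = k * (w * x) * k⁻¹ := by group
        have e2 : k * x * k⁻¹ * (k * w * k⁻¹) = k * (x * w) * k⁻¹ := by group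
        rw [e1, e2, hwx']
      · rintro w ⟨hw, hwx⟩
        have hwx' := mem_centralizer_singleton_iff.1 hwx
        refine ⟨k⁻¹ * w * k, ⟨norm_conj' hkn hw, mem_centralizer_singleton_iff.2 ?_⟩, ?_⟩
        · have e1 : k⁻¹ * w * k * x = k⁻¹ * (w * (k * x * k⁻¹)) * k := by group
          have e2 : x * (k⁻¹ * w * k) = k⁻¹ * ((k * x * k⁻¹) * w) * k := by group
          rw [e1, e2, hwx']
        · change k * (k⁻¹ * w * k) * k⁻¹ = w
          group
    have hcard : Nat.card (U ⊓ centralizer {k * x * k⁻¹} : Subgroup G) =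
        Nat.card (U ⊓ centralizer {x} : Subgroup G) := by
      rw [← hmap]
      exact (Nat.card_congr (Subgroup.equivMapOfInjective _ _
        (MulAut.conj k).injective).toEquiv).symm
    have hxk := hkP x hxQ
    have hyk := hkP y hy
    have hback : ∀ z : G, k * z * k⁻¹ ∈ U → z ∈ U := by
      intro z hz
      have h1 := norm_conj' hkn hz
      have e : k⁻¹ * (k * z * k⁻¹) * k = z := by group
      rwa [e] at h1
    have hres := H.sc_ii h Ln tL UL hcase (x := k * x * k⁻¹) hxk.1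
      (fun hU => hxU (hback x hU)) (by
        obtain ⟨g, -, hg⟩ := hbad
        refine ⟨g * k⁻¹, ?_⟩
        have e : g * k⁻¹ * (k * x * k⁻¹) * (g * k⁻¹)⁻¹ = g * x * g⁻¹ := by group
        rw [e]; exact hg) (B := B') (by
        rw [← hmap]
        exact Subgroup.map_mono hB) (by rw [hcard, hB'c]; exact hc) hyk.1 hyk.2 (by
        rintro _ ⟨b, hb, rfl⟩
        change k * y * k⁻¹ * (k * b * k⁻¹) = k * b * k⁻¹ * (k * y * k⁻¹)
        have e1 : k * y * k⁻¹ * (k * b * k⁻¹) = k * (y * b) * k⁻¹ := by group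
        have e2 : k * b * k⁻¹ * (k * y * k⁻¹) = k * (b * y) * k⁻¹ := by group
        rw [e1, e2, hQB y hy b hb])
    rcases hres with h1 | h1
    · exact Or.inl (hback y h1)
    · right
      apply hback
      have e : k * (x * y) * k⁻¹ = k * x * k⁻¹ * (k * y * k⁻¹) := by group
      rw [e]; exact h1

end

end Fin5

open Cfsg.Agent.StdSz.EndClosed (Gold)

universe u

/-- a strongly closed elementary abelian subgroup and an involution outside. -/
theorem false_of_closed {L : Type u} [Group L] [Finite L] [IsSimpleGroup L] (gold : Gold.{u})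
    (X : Sylow 2 L) (Z : Subgroup L) (hsc : Cfsg.IsStronglyClosed Z (X : Subgroup L))
    (hZ2 : ∀ z ∈ Z, z * z = 1) (hZne : ∃ z ∈ Z, z ≠ 1)
    (hnc : ¬ IsMulCommutative (X : Subgroup L))
    (hy : ∃ y ∈ X, y ∉ Z ∧ y * y = 1) : False := by
  obtain ⟨z, hz, hz1⟩ := hZne
  obtain ⟨y, hyX, hyZ, hy2⟩ := hy
  have hy1 : y ≠ 1 := by rintro rfl; exact hyZ (one_mem _)
  have hoz : orderOf z = 2 := orderOf_eq_prime (by rw [pow_two]; exact hZ2 z hz) hz1
  have hoy : orderOf y = 2 := orderOf_eq_prime (by rw [pow_two]; exact hy2) hy1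
  have hne : Z ≠ ⊥ := by
    intro h
    rw [h, mem_bot] at hz
    exact hz1 hz
  have hcomm : IsMulCommutative Z := by
    refine ⟨⟨fun a b => Subtype.ext ?_⟩⟩
    have ha := hZ2 a a.2
    have hb := hZ2 b b.2
    have hab := hZ2 _ (mul_mem a.2 b.2)
    show (a : L) * b = b * a
    have ha' : (a : L)⁻¹ = a := inv_eq_of_mul_eq_one_left ha
    have hb' : (b : L)⁻¹ = b := inv_eq_of_mul_eq_one_left hb
    have h1 : ((a : L) * b)⁻¹ = a * b := inv_eq_of_mul_eq_one_left hab
    rw [mul_inv_rev, ha', hb'] at h1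
    exact h1.symm
  rcases gold X Z hne hcomm hsc with h | ⟨H, hH⟩
  · exact hnc h
  · -- all involutions are conjugate
    have hone : ∀ a b : L, orderOf a = 2 → orderOf b = 2 → IsConj a b := by
      have hfact : Fact (Nat.Prime 2) := ⟨Nat.prime_two⟩
      have h2 : 2 ∣ Nat.card H := hH.2.1.two_dvd
      obtain ⟨s, hs⟩ := exists_prime_orderOf_dvd_card' 2 h2
      have hs' : orderOf (s : L) = 2 := by rw [orderOf_coe]; exact hs
      obtain ⟨u, hu, huH⟩ : ∃ u : L, orderOf u = 2 ∧ u ∉ H := by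
        by_contra hcon
        push Not at hcon
        have h3 : normalClosure ({(s : L)} : Set L) ≤ H := by
          rw [normalClosure, closure_le]
          intro x hx
          rw [Group.mem_conjugatesOfSet_iff] at hx
          obtain ⟨a, ha, hax⟩ := hx
          rw [Set.mem_singleton_iff] at ha
          subst ha
          obtain ⟨c, hc⟩ := isConj_iff.mp hax
          apply hcon
          rw [← hc]
          have : orderOf (c * (s : L) * c⁻¹) = orderOf (s : L) := (MulAut.conj c).orderOf_eq (s : L)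
          rw [this, hs']
        have h4 : (normalClosure ({(s : L)} : Set L)).Normal := normalClosure_normal
        rcases h4.eq_bot_or_eq_top with h5 | h5
        · have h6 : (s : L) ∈ normalClosure ({(s : L)} : Set L) :=
            subset_normalClosure (Set.mem_singleton _)
          rw [h5, mem_bot] at h6
          rw [h6, orderOf_one] at hs'
          omega
        · rw [h5] at h3
          exact hH.1 (top_le_iff.mp h3)
      exact (Cfsg.Agent.S1225.result H hH u hu huH s s hs' s.2 hs' s.2).2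
    obtain ⟨c, hc⟩ := isConj_iff.mp (hone z y hoz hoy)
    have h1 := hsc.2 z hz c (by rw [hc]; exact hyX)
    rw [hc] at h1
    exact hyZ h1

/-- **The end of case (f).** -/
theorem Fin5.main {G : Type u} [Group G] [Finite G] {t : G} {V T C₀ U V1 V2 S L A : Subgroup G}
    (gold : Gold.{u}) (C : Setup.Conf L A t) (H : Fin5 t V T C₀ U V1 V2 S)
    (UG : U ≤ commutator G) : False := by
  have W := H.W
  have Ln := C.normal
  have tL := H.alpha C
  have UL : U ≤ L := UG.trans (Ends.commutator_le_L C)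
  have ht2 := W.t2
  have hLt : ∀ x, x ∈ L ∨ t * x ∈ L := by
    intro x
    have hx : x ∈ L ⊔ zpowers t := by rw [C.gen]; exact mem_top x
    obtain ⟨l, hl, z, hz, rfl⟩ := mem_sup_of_normal_left.1 hx
    obtain ⟨n, rfl⟩ := mem_zpowers_iff.1 hz
    have ht2' : t ^ (2 : ℤ) = 1 := by rw [zpow_two]; exact ht2
    rcases Int.even_or_odd' n with ⟨k, rfl | rfl⟩
    · left
      rw [zpow_mul, ht2', one_zpow, mul_one]; exact hl
    · right
      rw [zpow_add, zpow_mul, ht2', one_zpow, one_mul, zpow_one, ← mul_assoc]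
      have h1 := Ln.conj_mem l hl t
      rwa [W.tinv] at h1
  obtain ⟨u, hu⟩ := H.exists_fu Ln hLt tL UL
  by_cases hcase : ∀ s ∈ S, s ∈ L → s ∈ W.N0
  · refine H.beta_one hu Ln UL hcase ?_
    have hs := C.simple
    have h1 : commutator L = ⊤ := by
      rcases (inferInstance : (commutator L).Normal).eq_bot_or_eq_top with h | h
      · exfalso
        apply C.not_comm
        refine ⟨⟨fun x y => ?_⟩⟩
        have h2 : ⁅x, y⁆ ∈ commutator L := commutator_mem_commutator (mem_top x) (mem_top y)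
        rw [h, mem_bot, commutatorElement_eq_one_iff_mul_comm] at h2
        exact h2
      · exact h
    rw [h1]
    exact mem_top _
  · push Not at hcase
    have hsc := H.strongly_closed hu Ln tL UL hcase
    have hSyl : IsSyl L (S ⊓ L) := by
      have := H.Syl.inf_normal Ln
      rwa [top_inf_eq] at this
    have hs := C.simple
    let X : Sylow 2 L :=
      { toSubgroup := (S ⊓ L).subgroupOf L
        isPGroup' := hSyl.1.comap_subtype
        is_maximal' := by
          intro Q hQ hTQ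
          refine le_antisymm ?_ hTQ
          intro q hq
          have h1 : S ⊓ L ≤ Q.map L.subtype := by
            intro x hx
            exact ⟨⟨x, hx.2⟩, hTQ (mem_subgroupOf.2 hx), rfl⟩
          exact mem_subgroupOf.2
            (hSyl.2.2 (Q.map L.subtype) (hQ.map L.subtype) h1 (map_subtype_le _) ⟨q, hq, rfl⟩) }
    have hX : ∀ x : L, x ∈ (X : Subgroup L) ↔ (x : G) ∈ S ⊓ L := fun x => mem_subgroupOf
    obtain ⟨s, hsS, hsL, hsN⟩ := hcase
    obtain ⟨a, ha, ha1⟩ := W.exists_ne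
    have haL := UL (W.V1U ha)
    refine false_of_closed gold X (U.subgroupOf L) ⟨?_, ?_⟩ ?_ ?_ ?_ ?_
    · intro x hx
      exact (hX x).2 ⟨W.US (mem_subgroupOf.1 hx), x.2⟩
    · intro x hx g hg
      exact mem_subgroupOf.2 (hsc x (mem_subgroupOf.1 hx) g g.2 ((hX _).1 hg))
    · intro z hz
      exact Subtype.ext (W.usq z (mem_subgroupOf.1 hz))
    · exact ⟨⟨a, haL⟩, mem_subgroupOf.2 (W.V1U ha), fun e => ha1 (congrArg Subtype.val e)⟩
    · intro hcomm
      have h1 := hcomm.is_comm.comm (⟨⟨s, hsL⟩, (hX _).2 ⟨hsS, hsL⟩⟩ : (X : Subgroup L))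
        ⟨⟨a, haL⟩, (hX _).2 ⟨W.US (W.V1U ha), haL⟩⟩
      have h2 : s * a = a * s := congrArg (fun z : (X : Subgroup L) => ((z : L) : G)) h1
      have h3 := (W.sw hsS hsN).1 a ha
      rw [h2, mul_inv_cancel_right] at h3
      exact ha1 (W.disj a ha h3)
    · refine ⟨⟨u, hu.mL⟩, (hX _).2 ⟨H.TS hu.mT, hu.mL⟩, fun h => ?_, Subtype.ext hu.sq⟩
      exact H.fu_notU hu (mem_subgroupOf.1 h)

/-- The end of case (f), from the output of the tower. -/
theorem false_of_wr {G : Type u} [Group G] [Finite G] {t d : G}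
    {V T C₀ U V1 V2 S L A : Subgroup G} (gold : Gold.{u}) (C : Setup.Conf L A t)
    (F : FTD t V T C₀) (O : FOut t V T d U) (W : Wr t U V1 V2 S) (hTS : T ≤ S)
    (hS : IsSyl ⊤ S) : False :=
  Fin5.main gold C ⟨F, W, hTS, hS, O.VU, O.card, O.fix, O.bad⟩ O.gU

end Cfsg.Agent.StdL2.FEnd
end

-- part: StdL2/FIdem
section
/-!
# S1773, case (f): the idempotent

`exists_norm` (P0), `exists_e` (P1), `yf` (P2), `exists_YC` (helper111's input `YC`).
-/

set_option autoImplicit false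
set_option linter.unusedSectionVars false
set_option linter.style.haveILetI false

namespace Cfsg.Agent.StdL2.FIdem

open Cfsg.Agent.StdL2.F Cfsg.Agent.StdL2.F.XC Cfsg.Agent.StdL2.FRel
open Cfsg.Agent.StdL2.FFour (IsTau exists_tau isTau_f isTau_t sigma_mul sigma_ne comm_d d_sq t_ne_d
  odd_units YC lin_inv)

variable {X W F : Type*} [Group X] [Finite X] [AddCommGroup W] [DistribMulAction X W] [Field F]
  [Finite F] {κ : F →+* AddMonoid.End W} {d : Fˣ →* X} {σ : F ≃+* F} {t f : X} {w₁ : W}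

theorem tf_sq (C : XC κ d σ t f w₁) : t * f * (t * f) = 1 := by
  rw [mul_assoc, ← mul_assoc f, ← C.tf, mul_assoc t f, C.ff, mul_one, C.tt]

/-- (P0) -/
theorem exists_norm (C : XC κ d σ t f w₁) {y : X} (hyt : y * t * y⁻¹ = t * f) :
    ∃ y' : X, y' * t * y'⁻¹ = t * f ∧ (y' * f * y'⁻¹ = f ∨ y' * f * y'⁻¹ = t) ∧
      ∃ c : Fˣ, y' = y * d c := by
  obtain ⟨f', hf'⟩ : ∃ f', f' = y⁻¹ * f * y := ⟨_, rfl⟩
  have hyf' : y * f' * y⁻¹ = f := by rw [hf']; group
  have hft : f' * t = t * f' := by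
    have h1 : y * (f' * t) * y⁻¹ = y * (t * f') * y⁻¹ := by
      calc y * (f' * t) * y⁻¹ = (y * f' * y⁻¹) * (y * t * y⁻¹) := by group
        _ = f * (t * f) := by rw [hyf', hyt]
        _ = t := by rw [← mul_assoc, ← C.tf, mul_assoc, C.ff, mul_one]
        _ = (t * f) * f := by rw [mul_assoc, C.ff, mul_one]
        _ = (y * t * y⁻¹) * (y * f' * y⁻¹) := by rw [hyf', hyt]
        _ = _ := by group
    exact mul_left_cancel (mul_right_cancel h1)
  have hff : f' * f' = 1 := by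
    rw [hf']
    calc y⁻¹ * f * y * (y⁻¹ * f * y) = y⁻¹ * (f * f) * y := by group
      _ = 1 := by rw [C.ff]; group
  obtain ⟨τ, hτ⟩ := exists_tau C hft
  have hττ : τ * τ = 1 := by
    have h2 := hτ.mul hτ
    rw [hff] at h2
    exact h2.uniq C IsTau.one
  by_cases h1 : τ = 1
  · exfalso
    subst h1
    rcases lin_inv C hft hτ hff with h | h
    · apply C.f_ne_one
      rw [← hyf', h]; group
    · apply C.t_ne_one
      have h2 : t * f = f := by rw [← hyt, ← h, hyf']
      have h3 : t * f = 1 * f := by rw [h2, one_mul]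
      exact mul_right_cancel h3
  have h2 : τ = σ := _root_.Cfsg.Agent.StdL2.FRel.inv_unique C.two hττ (sigma_mul C) h1 (sigma_ne C)
  subst h2
  have h3 : IsTau κ (f' * f) 1 := by
    have := hτ.mul (isTau_f C)
    rwa [sigma_mul C] at this
  obtain ⟨a, ha⟩ := C.centD (f' * f) (by rw [mul_assoc, ← C.tf, ← mul_assoc, hft, mul_assoc])
    (comm_d C h3)
  -- `u = d a f`
  obtain ⟨u, hu, huu, huf⟩ : ∃ u : X, (u = f' ∨ u = t * f') ∧ u * u = 1 ∧ u = d a * f := by
    rcases ha with h | h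
    · refine ⟨f', Or.inl rfl, hff, ?_⟩
      rw [← h, mul_assoc, C.ff, mul_one]
    · refine ⟨t * f', Or.inr rfl, ?_, ?_⟩
      · rw [mul_assoc, ← mul_assoc f', hft, mul_assoc t f', hff, mul_one, C.tt]
      · have h4 : t * (f' * f) = d a := by rw [h, ← mul_assoc, C.tt, one_mul]
        rw [← h4, mul_assoc, mul_assoc, C.ff, mul_one]
  have ha1 : Units.map (τ : F →* F) a * a = 1 := by
    apply C.d_inj
    rw [map_one, ← huu, huf, map_mul]
    calc d (Units.map (τ : F →* F) a) * d a = d a * d (Units.map (τ : F →* F) a) := by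
          rw [← map_mul, mul_comm, map_mul]
      _ = d a * (d (Units.map (τ : F →* F) a) * f) * f := by
          rw [mul_assoc, mul_assoc (d (Units.map (τ : F →* F) a)), C.ff, mul_one]
      _ = d a * f * (d a * f) := by rw [← C.fd]; simp only [mul_assoc]
  obtain ⟨n, hn⟩ := odd_units C
  obtain ⟨c, hc⟩ : ∃ c, c = a ^ (n + 1) := ⟨_, rfl⟩
  have hcc : c * c = a := by
    rw [hc, ← pow_add, show n + 1 + (n + 1) = Nat.card Fˣ + 1 by omega, pow_succ,
      pow_card_eq_one', one_mul]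
  have hσc : Units.map (τ : F →* F) c⁻¹ = c := by
    have h4 : Units.map (τ : F →* F) c * c = 1 := by
      rw [hc, map_pow, ← mul_pow, ha1, one_pow]
    rw [map_inv, inv_eq_iff_mul_eq_one, h4]
  have hconj : d c * f * (d c)⁻¹ = u := by
    rw [mul_assoc, ← map_inv, C.fd, hσc, ← mul_assoc, ← map_mul, hcc, huf]
  refine ⟨y * d c, ?_, ?_, c, rfl⟩
  · have h4 : d c * t * (d c)⁻¹ = t := by rw [← C.td, mul_inv_cancel_right]
    calc y * d c * t * (y * d c)⁻¹ = y * (d c * t * (d c)⁻¹) * y⁻¹ := by group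
      _ = t * f := by rw [h4, hyt]
  · have h4 : y * d c * f * (y * d c)⁻¹ = y * u * y⁻¹ := by rw [← hconj]; group
    rw [h4]
    rcases hu with h | h
    · left; rw [h, hyf']
    · right
      calc y * u * y⁻¹ = (y * t * y⁻¹) * (y * f' * y⁻¹) := by rw [h]; group
        _ = t := by rw [hyt, hyf', mul_assoc, C.ff, mul_one]

/-- Artin-Schreier: the image of `r ↦ r ^ 2 + r` on the fixed field has index 2 -/
theorem exists_AS (C : XC κ d σ t f w₁) {c c' : F} (hc : σ c = c) (hc' : σ c' = c')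
    (h : ∀ r, σ r = r → r * r + r ≠ c) (h' : ∀ r, σ r = r → r * r + r ≠ c') :
    ∃ r, σ r = r ∧ r * r + r = c + c' := by
  classical
  let A : AddSubgroup F :=
    { carrier := {a | σ a = a}
      add_mem' := fun {a b} ha hb => by
        change σ (a + b) = a + b
        rw [map_add, (show σ a = a from ha), (show σ b = b from hb)]
      zero_mem' := map_zero σ
      neg_mem' := fun {a} ha => by
        change σ (-a) = -a
        rw [map_neg, (show σ a = a from ha)] }
  have hA : ∀ a, a ∈ A ↔ σ a = a := fun _ => Iff.rfl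
  let P : A →+ A :=
    { toFun := fun r => ⟨r * r + r, by
        rw [hA, map_add, map_mul, (hA _).1 r.2]⟩
      map_zero' := Subtype.ext (by
        change (0 : F) * 0 + 0 = 0
        ring)
      map_add' := fun a b => Subtype.ext (by
        change ((a : F) + b) * (a + b) + (a + b) = (a * a + a) + (b * b + b)
        have := C.add_self_F ((a : F) * b)
        linear_combination this) }
  have hP : ∀ r : A, ((P r : A) : F) = r * r + r := fun _ => rfl
  have hker : Nat.card P.ker = 2 := by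
    rw [Nat.card_eq_two_iff]
    have h1A : (1 : F) ∈ A := map_one σ
    have h1 : (⟨1, h1A⟩ : A) ∈ P.ker := by
      rw [AddMonoidHom.mem_ker]
      apply Subtype.ext
      rw [hP]
      change (1 : F) * 1 + 1 = 0
      have := C.add_self_F (1 : F)
      linear_combination this
    refine ⟨⟨0, P.ker.zero_mem⟩, ⟨⟨1, h1A⟩, h1⟩, ?_, ?_⟩
    · intro e
      have e1 : (0 : F) = 1 := congrArg (fun z : P.ker => ((z : A) : F)) e
      exact zero_ne_one e1
    · ext x
      simp only [Set.mem_insert_iff, Set.mem_singleton_iff, Set.mem_univ, iff_true]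
      have hx : P (x : A) = 0 := x.2
      have hx2 : ((x : A) : F) * ((x : A) : F) + ((x : A) : F) = 0 :=
        congrArg (fun z : A => (z : F)) hx
      have hx3 : ((x : A) : F) * (((x : A) : F) + 1) = 0 := by linear_combination hx2
      rcases mul_eq_zero.1 hx3 with h0 | h0
      · left; exact Subtype.ext (Subtype.ext h0)
      · right
        apply Subtype.ext
        apply Subtype.ext
        have := eq_neg_of_add_eq_zero_left h0
        rw [C.neg_F] at this
        exact this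
  have hidx : P.range.index = 2 := by
    have e1 := P.ker.card_mul_index
    rw [AddSubgroup.index_ker] at e1
    have e2 := P.range.index_mul_card
    rw [← e1] at e2
    rw [← hker]
    exact Nat.eq_of_mul_eq_mul_right Nat.card_pos e2
  have h1 : (⟨c, hc⟩ : A) ∉ P.range := by
    rintro ⟨r, hr⟩
    exact h r r.2 (congrArg (fun z : A => (z : F)) hr)
  have h2 : (⟨c', hc'⟩ : A) ∉ P.range := by
    rintro ⟨r, hr⟩
    exact h' r r.2 (congrArg (fun z : A => (z : F)) hr)
  obtain ⟨r, hr⟩ := (AddSubgroup.add_mem_iff_of_index_two hidx (a := ⟨c, hc⟩) (b := ⟨c', hc'⟩)).2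
    (iff_of_false h1 h2)
  exact ⟨r, r.2, congrArg (fun z : A => (z : F)) hr⟩

/-- conjugation by `y` on the fixed field -/
theorem conj_K0 (C : XC κ d σ t f w₁) {y : X}
    (hyt : y * t * y⁻¹ = t ∨ y * t * y⁻¹ = f ∨ y * t * y⁻¹ = t * f)
    (hyf : y * f * y⁻¹ = t ∨ y * f * y⁻¹ = f ∨ y * f * y⁻¹ = t * f) {a : F} (ha : σ a = a) :
    ∃ b, σ b = b ∧ rho X W y * κ a * rho X W y⁻¹ = κ b := by
  by_cases h0 : a = 0
  · exact ⟨0, map_zero σ, by rw [h0, map_zero, mul_zero, zero_mul]⟩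
  obtain ⟨b, hb, h⟩ := C.norm_K0 hyt hyf (Units.mk0 a h0) ha
  refine ⟨b, hb, ?_⟩
  have h1 := congrArg (rho X W) h
  rw [map_mul, map_mul, C.rho_d, C.rho_d] at h1
  have h2 : rho X W y * κ a = κ (b : F) * rho X W y := h1
  rw [h2, mul_assoc, XC.rho_mul_inv, mul_one]

/-- (P1), with the form of `e` -/
theorem exists_e' (C : XC κ d σ t f w₁) {y : X} (hyt : y * t * y⁻¹ = t * f)
    (hyf : y * f * y⁻¹ = f ∨ y * f * y⁻¹ = t)
    (kk' : ∀ a b, κ a * (rho X W y * κ b * rho X W y⁻¹) = rho X W y * κ b * rho X W y⁻¹ * κ a)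
    {ω : F} (hω : σ ω = ω + 1) :
    ∃ r : F, σ r = r ∧ ∃ e : AddMonoid.End W,
      e = κ ω + rho X W y * κ ω * rho X W y⁻¹ + κ r ∧ e * e = e ∧ (∀ a, e * κ a = κ a * e) ∧
      (∀ a, e * (rho X W y * κ a * rho X W y⁻¹) = rho X W y * κ a * rho X W y⁻¹ * e) ∧
      e * rho X W f = rho X W f * e ∧ rho X W t * e = (e + 1) * rho X W t := by
  have h2 : ∀ x : AddMonoid.End W, x + x = 0 := C.add_self_R
  have hyf3 : y * f * y⁻¹ = t ∨ y * f * y⁻¹ = f ∨ y * f * y⁻¹ = t * f := by
    rcases hyf with h | h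
    · exact Or.inr (Or.inl h)
    · exact Or.inl h
  have hyt3 : y * t * y⁻¹ = t ∨ y * t * y⁻¹ = f ∨ y * t * y⁻¹ = t * f := Or.inr (Or.inr hyt)
  obtain ⟨O', hO'⟩ : ∃ O', O' = rho X W y * κ ω * rho X W y⁻¹ := ⟨_, rfl⟩
  -- multiplicativity of conjugation
  have hcm : ∀ x z : AddMonoid.End W, rho X W y * (x * z) * rho X W y⁻¹ =
      (rho X W y * x * rho X W y⁻¹) * (rho X W y * z * rho X W y⁻¹) := by
    intro x z
    calc rho X W y * (x * z) * rho X W y⁻¹ =
        rho X W y * x * 1 * (z * rho X W y⁻¹) := by rw [mul_one]; simp only [mul_assoc]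
      _ = rho X W y * x * (rho X W y⁻¹ * rho X W y) * (z * rho X W y⁻¹) := by
        rw [XC.rho_inv_mul]
      _ = _ := by simp only [mul_assoc]
  have hca : ∀ x z : AddMonoid.End W, rho X W y * (x + z) * rho X W y⁻¹ =
      (rho X W y * x * rho X W y⁻¹) + (rho X W y * z * rho X W y⁻¹) := by
    intro x z; rw [mul_add, add_mul]
  obtain ⟨c, hcdef⟩ : ∃ c, c = ω * ω + ω := ⟨_, rfl⟩
  have hcσ : σ c = c := by rw [hcdef]; exact C.omega_sq hω
  obtain ⟨c', hc'σ, hc'⟩ := conj_K0 C hyt3 hyf3 hcσ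
  have hO'2 : O' * O' = O' + κ c' := by
    have e1 : O' * O' + O' = κ c' := by
      rw [← hc', hcdef, map_add, map_mul, hca, hcm, ← hO']
    calc O' * O' = (O' * O' + O') + O' := by rw [add_assoc, h2, add_zero]
      _ = O' + κ c' := by rw [e1, add_comm]
  have hO2 : κ ω * κ ω = κ ω + κ c := by
    rw [hcdef, map_add, map_mul, ← add_assoc, add_comm (κ ω) (κ ω * κ ω), add_assoc, h2, add_zero]
  -- `c` and `c'` are not of the form `r ^ 2 + r`
  have hcne : ∀ r, σ r = r → r * r + r ≠ c := by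
    intro r hr e
    have e1 : (ω - r) * (ω - r - 1) = 0 := by
      have e2 := C.add_self_F r
      have e3 := C.add_self_F (r * ω)
      rw [hcdef] at e
      have e4 := C.add_self_F ω
      linear_combination -e + (r + 1) * e2 - e3 - ω * C.two + ω * C.two - e4
    rcases mul_eq_zero.1 e1 with h | h
    · have : ω = r := sub_eq_zero.1 h
      rw [this, hr] at hω
      have h3 : (1 : F) = 0 := by linear_combination -hω
      exact one_ne_zero h3
    · have h3 : ω = r + 1 := by linear_combination h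
      rw [h3, map_add, map_one, hr] at hω
      have h4 : (1 : F) = 0 := by linear_combination -hω
      exact one_ne_zero h4
  have hc'ne : ∀ r, σ r = r → r * r + r ≠ c' := by
    intro r hr e
    -- the automorphism of the fixed field is onto
    obtain ⟨s, hsσ, hs⟩ : ∃ s, σ s = s ∧ rho X W y * κ s * rho X W y⁻¹ = κ r := by
      let A := {a : F // σ a = a}
      have hex : ∀ a : A, ∃ b : A, rho X W y * κ (a : F) * rho X W y⁻¹ = κ (b : F) := by
        intro a
        obtain ⟨b, hb, h⟩ := conj_K0 C hyt3 hyf3 a.2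
        exact ⟨⟨b, hb⟩, h⟩
      choose g hg using hex
      have hinj : Function.Injective g := by
        intro a b hab
        have e1 : rho X W y * κ (a : F) * rho X W y⁻¹ = rho X W y * κ (b : F) * rho X W y⁻¹ := by
          rw [hg, hg, hab]
        have e2 : κ (a : F) = κ (b : F) := by
          calc κ (a : F) = (rho X W y⁻¹ * rho X W y) * κ (a : F) * (rho X W y⁻¹ * rho X W y) := by
                rw [XC.rho_inv_mul, one_mul, mul_one]
            _ = rho X W y⁻¹ * (rho X W y * κ (a : F) * rho X W y⁻¹) * rho X W y := by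
                simp only [mul_assoc]
            _ = rho X W y⁻¹ * (rho X W y * κ (b : F) * rho X W y⁻¹) * rho X W y := by rw [e1]
            _ = (rho X W y⁻¹ * rho X W y) * κ (b : F) * (rho X W y⁻¹ * rho X W y) := by
                simp only [mul_assoc]
            _ = κ (b : F) := by rw [XC.rho_inv_mul, one_mul, mul_one]
        exact Subtype.ext (C.kappa_injective e2)
      obtain ⟨s, hs⟩ := Finite.injective_iff_surjective.1 hinj ⟨r, hr⟩
      exact ⟨s, s.2, by rw [hg, hs]⟩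
    apply hcne s hsσ
    apply C.kappa_injective
    have e1 : rho X W y * κ (s * s + s) * rho X W y⁻¹ = rho X W y * κ c * rho X W y⁻¹ := by
      rw [map_add, map_mul, hca, hcm, hs, hc', ← e, map_add, map_mul]
    calc κ (s * s + s) = (rho X W y⁻¹ * rho X W y) * κ (s * s + s) *
          (rho X W y⁻¹ * rho X W y) := by rw [XC.rho_inv_mul, one_mul, mul_one]
      _ = rho X W y⁻¹ * (rho X W y * κ (s * s + s) * rho X W y⁻¹) * rho X W y := by
          simp only [mul_assoc]
      _ = rho X W y⁻¹ * (rho X W y * κ c * rho X W y⁻¹) * rho X W y := by rw [e1]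
      _ = (rho X W y⁻¹ * rho X W y) * κ c * (rho X W y⁻¹ * rho X W y) := by
          simp only [mul_assoc]
      _ = κ c := by rw [XC.rho_inv_mul, one_mul, mul_one]
  obtain ⟨r, hr, hrr⟩ := exists_AS C hcσ hc'σ hcne hc'ne
  have hkO' : ∀ a, κ a * O' = O' * κ a := by
    intro a; rw [hO']; exact kk' a ω
  -- conjugation by `f` and `t` of `O'`
  have hshift : ∀ g g' : X, g * y = y * g' → rho X W g' * κ ω = κ (ω + 1) * rho X W g' →
      rho X W g * O' = (O' + 1) * rho X W g := by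
    intro g g' hgg hg'
    have e1 : rho X W g * rho X W y = rho X W y * rho X W g' := by
      rw [← map_mul, ← map_mul, hgg]
    have e2 : rho X W g' * rho X W y⁻¹ = rho X W y⁻¹ * rho X W g := by
      rw [← map_mul, ← map_mul]
      congr 1
      calc g' * y⁻¹ = y⁻¹ * (y * g') * y⁻¹ := by group
        _ = y⁻¹ * (g * y) * y⁻¹ := by rw [hgg]
        _ = y⁻¹ * g := by group
    rw [hO']
    calc rho X W g * (rho X W y * κ ω * rho X W y⁻¹)
        = (rho X W g * rho X W y) * κ ω * rho X W y⁻¹ := by simp only [mul_assoc]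
      _ = rho X W y * (rho X W g' * κ ω) * rho X W y⁻¹ := by rw [e1]; simp only [mul_assoc]
      _ = rho X W y * κ (ω + 1) * (rho X W g' * rho X W y⁻¹) := by
          rw [hg']; simp only [mul_assoc]
      _ = (rho X W y * κ (ω + 1) * rho X W y⁻¹) * rho X W g := by
          rw [e2]; simp only [mul_assoc]
      _ = _ := by
          rw [map_add, map_one, hca, mul_one, XC.rho_mul_inv]
  have hfω : rho X W f * κ ω = κ (ω + 1) * rho X W f := by rw [C.f_kappa, hω]
  have htfω : rho X W (t * f) * κ ω = κ (ω + 1) * rho X W (t * f) := by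
    rw [map_mul, mul_assoc, hfω, ← mul_assoc, C.t_kappa, mul_assoc]
  have hO'f : rho X W f * O' = (O' + 1) * rho X W f := by
    rcases hyf with h | h
    · refine hshift f f ?_ hfω
      calc f * y = (y * f * y⁻¹) * y := by rw [h]
        _ = y * f := by group
    · refine hshift f (t * f) ?_ htfω
      have e1 : y * (t * f) * y⁻¹ = f := by
        calc y * (t * f) * y⁻¹ = (y * t * y⁻¹) * (y * f * y⁻¹) := by group
          _ = f := by rw [hyt, h, C.tf, mul_assoc, C.tt, mul_one]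
      calc f * y = (y * (t * f) * y⁻¹) * y := by rw [e1]
        _ = y * (t * f) := by group
  have hO't : rho X W t * O' = (O' + 1) * rho X W t := by
    rcases hyf with h | h
    · refine hshift t (t * f) ?_ htfω
      have e1 : y * (t * f) * y⁻¹ = t := by
        calc y * (t * f) * y⁻¹ = (y * t * y⁻¹) * (y * f * y⁻¹) := by group
          _ = t := by rw [hyt, h, mul_assoc, C.ff, mul_one]
      calc t * y = (y * (t * f) * y⁻¹) * y := by rw [e1]
        _ = y * (t * f) := by group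
    · refine hshift t f ?_ hfω
      calc t * y = (y * f * y⁻¹) * y := by rw [h]
        _ = y * f := by group
  refine ⟨r, hr, κ ω + O' + κ r, by rw [hO'], ?_, ?_, ?_, ?_, ?_⟩
  · -- idempotent
    have e1 : (κ ω + O' + κ r) * (κ ω + O' + κ r) =
        κ ω * κ ω + O' * O' + κ r * κ r + (κ ω * O' + κ ω * O') + (κ ω * κ r + κ ω * κ r) +
          (O' * κ r + O' * κ r) := by
      have a1 : O' * κ ω = κ ω * O' := (hkO' ω).symm
      have a2 : κ r * κ ω = κ ω * κ r := by rw [← map_mul, mul_comm, map_mul]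
      have a3 : κ r * O' = O' * κ r := hkO' r
      simp only [mul_add, add_mul, a1, a2, a3]
      abel
    rw [e1, h2, h2, h2, add_zero, add_zero, add_zero, hO2, hO'2, ← map_mul]
    have e2 : r * r = r + (c + c') := by
      have := C.add_self_F r
      linear_combination hrr - this
    rw [e2, map_add, map_add]
    have a4 := h2 (κ c)
    have a5 := h2 (κ c')
    calc κ ω + κ c + (O' + κ c') + (κ r + (κ c + κ c')) =
        κ ω + O' + κ r + (κ c + κ c) + (κ c' + κ c') := by abel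
      _ = κ ω + O' + κ r := by rw [a4, a5, add_zero, add_zero]
  · intro a
    have a2 : ∀ b, κ b * κ a = κ a * κ b := fun b => by rw [← map_mul, mul_comm, map_mul]
    rw [add_mul, add_mul, mul_add, mul_add, a2 ω, a2 r, hkO' a]
  · intro a
    have a1 : O' * (rho X W y * κ a * rho X W y⁻¹) = rho X W y * κ a * rho X W y⁻¹ * O' := by
      rw [hO', ← hcm, ← hcm, ← map_mul, ← map_mul, mul_comm]
    rw [add_mul, add_mul, mul_add, mul_add, kk' ω a, kk' r a, a1]
  · have a1 : κ ω * rho X W f = rho X W f * κ ω + rho X W f := by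
      rw [hfω, map_add, map_one, add_mul, one_mul, add_assoc, h2, add_zero]
    have a2 : O' * rho X W f = rho X W f * O' + rho X W f := by
      rw [hO'f, add_mul, one_mul, add_assoc, h2, add_zero]
    have a3 : κ r * rho X W f = rho X W f * κ r := by rw [C.f_kappa, hr]
    rw [add_mul, add_mul, mul_add, mul_add, a1, a2, a3]
    have a4 := h2 (rho X W f)
    calc rho X W f * κ ω + rho X W f + (rho X W f * O' + rho X W f) + rho X W f * κ r =
        rho X W f * κ ω + rho X W f * O' + rho X W f * κ r + (rho X W f + rho X W f) := by abel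
      _ = _ := by rw [a4, add_zero]
  · rw [mul_add, mul_add, C.t_kappa, C.t_kappa, hO't, add_mul, add_mul, add_mul, add_mul,
      one_mul]
    abel

/-- (P1) -/
theorem exists_e (C : XC κ d σ t f w₁) {y : X} (hyt : y * t * y⁻¹ = t * f)
    (hyf : y * f * y⁻¹ = f ∨ y * f * y⁻¹ = t)
    (kk' : ∀ a b, κ a * (rho X W y * κ b * rho X W y⁻¹) =
      rho X W y * κ b * rho X W y⁻¹ * κ a) :
    ∃ e : AddMonoid.End W, e * e = e ∧ (∀ a, e * κ a = κ a * e) ∧
      (∀ a, e * (rho X W y * κ a * rho X W y⁻¹) = rho X W y * κ a * rho X W y⁻¹ * e) ∧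
      e * rho X W f = rho X W f * e ∧ rho X W t * e = (e + 1) * rho X W t := by
  obtain ⟨ω, hω⟩ := C.exists_omega
  obtain ⟨r, _, e, _, h⟩ := exists_e' C hyt hyf kk' hω
  exact ⟨e, h⟩

/-- the structure with `t f` in place of `f` -/
theorem swap (C : XC κ d σ t f w₁) {ω : F} (hω : σ ω = ω + 1) :
    XC κ d σ t (t * f) (w₁ + κ ω (t • w₁ + w₁)) := by
  have htw : t • (w₁ + κ ω (t • w₁ + w₁)) + (w₁ + κ ω (t • w₁ + w₁)) = t • w₁ + w₁ := by
    rw [smul_add, C.t_smul_kappa, C.t_v]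
    have h1 := C.add_self_W (κ ω (t • w₁ + w₁))
    calc t • w₁ + κ ω (t • w₁ + w₁) + (w₁ + κ ω (t • w₁ + w₁)) =
        (t • w₁ + w₁) + (κ ω (t • w₁ + w₁) + κ ω (t • w₁ + w₁)) := by abel
      _ = t • w₁ + w₁ := by rw [h1, add_zero]
  refine ⟨C.faithful, C.two, C.sig, C.sig1, C.four, C.act, C.tt, tf_sq C, ?_, C.td, ?_, ?_, ?_, ?_,
    C.normD, C.centD⟩
  · rw [← mul_assoc, C.tt, one_mul, mul_assoc, ← C.tf, ← mul_assoc, C.tt, one_mul]
  · intro a
    rw [mul_assoc, C.fd, ← mul_assoc, C.td, mul_assoc]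
  · rw [mul_smul, smul_add, C.fw, C.f_smul_kappa, C.f_v, smul_add, C.t_smul_kappa, C.t_v, hω]
    rw [XC.k_add, XC.k_one]
    have h1 := C.add_self_W w₁
    calc t • w₁ + (κ ω (t • w₁ + w₁) + (t • w₁ + w₁)) =
        (t • w₁ + t • w₁) + (w₁ + κ ω (t • w₁ + w₁)) := by abel
      _ = w₁ + κ ω (t • w₁ + w₁) := by rw [C.add_self_W, zero_add]
  · intro w
    obtain ⟨a, b, rfl⟩ := C.span w
    refine ⟨a, b + a * ω, ?_⟩
    rw [htw, XC.k_add, XC.k_vadd a w₁ (κ ω (t • w₁ + w₁)), XC.k_mul]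
    have h1 := C.add_self_W (κ a (κ ω (t • w₁ + w₁)))
    calc κ a w₁ + κ b (t • w₁ + w₁) = κ a w₁ + κ b (t • w₁ + w₁) +
        (κ a (κ ω (t • w₁ + w₁)) + κ a (κ ω (t • w₁ + w₁))) := by rw [h1, add_zero]
      _ = _ := by abel
  · intro a b h
    rw [htw, XC.k_vadd, ← XC.k_mul, add_assoc, ← XC.k_add] at h
    obtain ⟨h1, h3⟩ := C.indep a (a * ω + b) h
    refine ⟨h1, ?_⟩
    rwa [h1, zero_mul, zero_add] at h3

/-- the square of the order of `F` is the order of `W` -/
theorem card_W (C : XC κ d σ t f w₁) : Nat.card W = Nat.card F * Nat.card F := by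
  rw [← Nat.card_prod]
  refine (Nat.card_congr (Equiv.ofBijective
    (fun p : F × F => κ p.1 w₁ + κ p.2 (t • w₁ + w₁)) ⟨?_, ?_⟩)).symm
  · rintro ⟨a, b⟩ ⟨a', b'⟩ h
    have h1 : κ (a - a') w₁ + κ (b - b') (t • w₁ + w₁) = 0 := by
      rw [map_sub, map_sub]
      change (κ a w₁ - κ a' w₁) + (κ b (t • w₁ + w₁) - κ b' (t • w₁ + w₁)) = 0
      have h' : κ a w₁ + κ b (t • w₁ + w₁) = κ a' w₁ + κ b' (t • w₁ + w₁) := h
      calc (κ a w₁ - κ a' w₁) + (κ b (t • w₁ + w₁) - κ b' (t • w₁ + w₁)) =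
          (κ a w₁ + κ b (t • w₁ + w₁)) - (κ a' w₁ + κ b' (t • w₁ + w₁)) := by abel
        _ = 0 := by rw [h', sub_self]
    obtain ⟨h2, h3⟩ := C.indep _ _ h1
    exact Prod.ext (sub_eq_zero.1 h2) (sub_eq_zero.1 h3)
  · intro w
    obtain ⟨a, b, h⟩ := C.span w
    exact ⟨(a, b), h.symm⟩

/-- the line `e W` -/
theorem line (C : XC κ d σ t f w₁) {e : AddMonoid.End W} (e2 : e * e = e)
    (ek : ∀ a, e * κ a = κ a * e) (te : rho X W t * e = (e + 1) * rho X W t) :
    ∃ l : W, l ≠ 0 ∧ e l = l ∧ ∀ x, e x = x → ∃ a, x = κ a l := by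
  have he : ∀ w, e (e w) = e w := fun w => DFunLike.congr_fun e2 w
  have hek : ∀ a w, e (κ a w) = κ a (e w) := fun a w => DFunLike.congr_fun (ek a) w
  have hte : ∀ w, t • e w = e (t • w) + t • w := fun w => DFunLike.congr_fun te w
  obtain ⟨l, hl0, hl⟩ : ∃ l : W, l ≠ 0 ∧ e l = l := by
    by_contra hcon
    push Not at hcon
    have h0 : ∀ w, e w = 0 := by
      intro w
      by_contra h
      exact hcon (e w) h (he w)
    have h1 := hte w₁
    rw [h0, h0, smul_zero, zero_add] at h1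
    have h2 : w₁ = 0 := by
      have := congrArg (t • ·) h1
      simp only [smul_zero, smul_smul, C.tt, one_smul] at this
      exact this.symm
    have h3 := C.indep 1 0 (by rw [h2]; simp)
    exact one_ne_zero h3.1
  refine ⟨l, hl0, hl, ?_⟩
  have hetl : e (t • l) = 0 := by
    have h1 := hte l
    rw [hl] at h1
    have h2 : e (t • l) + t • l = 0 + t • l := by rw [← h1, zero_add]
    exact add_right_cancel h2
  have hinj : Function.Injective (fun p : F × F => κ p.1 l + κ p.2 (t • l)) := by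
    rintro ⟨a, b⟩ ⟨a', b'⟩ h
    have h' : κ a l + κ b (t • l) = κ a' l + κ b' (t • l) := h
    have h1 := congrArg e h'
    rw [map_add, map_add, hek, hek, hek, hek, hl, hetl, map_zero, map_zero, add_zero,
      add_zero] at h1
    have h2 : a = a' := FFour.kappa_uniq κ hl0 h1
    subst h2
    have h3 := add_left_cancel h'
    have h4 : t • l ≠ 0 := by
      intro h
      rw [smul_eq_zero_iff_eq] at h
      exact hl0 h
    rw [FFour.kappa_uniq κ h4 h3]
  haveI : Finite W := Nat.finite_of_card_ne_zero (by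
    rw [card_W C]
    exact (Nat.mul_pos Nat.card_pos Nat.card_pos).ne')
  have hbij : Function.Bijective (fun p : F × F => κ p.1 l + κ p.2 (t • l)) := by
    rw [Nat.bijective_iff_injective_and_card]
    exact ⟨hinj, by rw [Nat.card_prod, card_W C]⟩
  intro x hx
  obtain ⟨⟨a, b⟩, h⟩ := hbij.2 x
  have h' : κ a l + κ b (t • l) = x := h
  have h1 := congrArg e h'
  rw [map_add, hek, hek, hl, hetl, map_zero, add_zero, hx] at h1
  exact ⟨a, h1.symm⟩

/-- (P2) -/
theorem yf (C : XC κ d σ t f w₁) {y : X} (hyt : y * t * y⁻¹ = t * f)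
    (kk' : ∀ a b, κ a * (rho X W y * κ b * rho X W y⁻¹) =
      rho X W y * κ b * rho X W y⁻¹ * κ a) (h : y * f * y⁻¹ = t) : False := by
  obtain ⟨ω, hω⟩ := C.exists_omega
  have hytf : y * (t * f) * y⁻¹ = f := by
    calc y * (t * f) * y⁻¹ = (y * t * y⁻¹) * (y * f * y⁻¹) := by group
      _ = f := by rw [hyt, h, C.tf, mul_assoc, C.tt, mul_one]
  -- `z = y⁻¹`
  have hzt : y⁻¹ * t * y⁻¹⁻¹ = f := by rw [← h]; group
  have hzf : y⁻¹ * f * y⁻¹⁻¹ = t * f := by
    calc y⁻¹ * f * y⁻¹⁻¹ = y⁻¹ * (y * (t * f) * y⁻¹) * y := by rw [hytf]; group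
      _ = t * f := by group
  have hztf : y⁻¹ * (t * f) * y⁻¹⁻¹ = t := by
    calc y⁻¹ * (t * f) * y⁻¹⁻¹ = y⁻¹ * (y * t * y⁻¹) * y := by rw [hyt]; group
      _ = t := by group
  -- `y ^ 3` commutes with `t`
  have hy3 : (y * y * y) * t = t * (y * y * y) := by
    have e1 : y * t = t * f * y := by rw [← hyt]; group
    have e2 : y * f = t * y := by rw [← h]; group
    have e3 : y * (t * f) = f * y := by
      calc y * (t * f) = (y * (t * f) * y⁻¹) * y := by group
        _ = f * y := by rw [hytf]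
    calc y * y * y * t = y * y * (y * t) := by group
      _ = y * (y * (t * f)) * y := by rw [e1]; group
      _ = (y * f) * y * y := by rw [e3]; group
      _ = t * (y * y * y) := by rw [e2]; group
  have hcm : ∀ (g : X) (x z : AddMonoid.End W), rho X W g * (x * z) * rho X W g⁻¹ =
      (rho X W g * x * rho X W g⁻¹) * (rho X W g * z * rho X W g⁻¹) := by
    intro g x z
    calc rho X W g * (x * z) * rho X W g⁻¹ =
        rho X W g * x * 1 * (z * rho X W g⁻¹) := by rw [mul_one]; simp only [mul_assoc]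
      _ = rho X W g * x * (rho X W g⁻¹ * rho X W g) * (z * rho X W g⁻¹) := by
        rw [XC.rho_inv_mul]
      _ = _ := by simp only [mul_assoc]
  -- `κ(F) ^ (y⁻¹)` commutes with `κ(F)`
  have kz : ∀ a b, κ a * (rho X W y⁻¹ * κ b * rho X W y⁻¹⁻¹) =
      rho X W y⁻¹ * κ b * rho X W y⁻¹⁻¹ * κ a := by
    intro a b
    rw [inv_inv]
    calc κ a * (rho X W y⁻¹ * κ b * rho X W y) =
        (rho X W y⁻¹ * rho X W y) * (κ a * (rho X W y⁻¹ * κ b * rho X W y)) := by
          rw [XC.rho_inv_mul, one_mul]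
      _ = rho X W y⁻¹ * ((rho X W y * κ a * rho X W y⁻¹) * κ b) * rho X W y := by
          simp only [mul_assoc]
      _ = rho X W y⁻¹ * (κ b * (rho X W y * κ a * rho X W y⁻¹)) * rho X W y := by rw [kk' b a]
      _ = (rho X W y⁻¹ * κ b * rho X W y) * κ a * (rho X W y⁻¹ * rho X W y) := by
          simp only [mul_assoc]
      _ = _ := by rw [XC.rho_inv_mul, mul_one]
  -- `κ(F) ^ y` commutes with `κ(F) ^ (y⁻¹)`
  have kyz : ∀ a b, (rho X W y * κ a * rho X W y⁻¹) * (rho X W y⁻¹ * κ b * rho X W y⁻¹⁻¹) =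
      (rho X W y⁻¹ * κ b * rho X W y⁻¹⁻¹) * (rho X W y * κ a * rho X W y⁻¹) := by
    intro a b
    -- `y⁻¹ κ b y = y y κ b' y⁻¹ y⁻¹`
    obtain ⟨τ, hτ⟩ := exists_tau C (x := (y * y * y)⁻¹)
      ((show Commute (y * y * y) t from hy3).inv_left)
    have h1 : rho X W y⁻¹ * κ b * rho X W y⁻¹⁻¹ =
        rho X W (y * y) * κ (τ b) * rho X W (y * y)⁻¹ := by
      have h2 := hτ b
      have e1 : y⁻¹ = (y * y) * (y * y * y)⁻¹ := by group
      have e2 : y⁻¹⁻¹ = (y * y * y) * (y * y)⁻¹ := by group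
      rw [e2, map_mul (rho X W) (y * y * y)]
      rw [show rho X W y⁻¹ = rho X W (y * y) * rho X W (y * y * y)⁻¹ by
        rw [← map_mul, ← e1]]
      calc rho X W (y * y) * rho X W (y * y * y)⁻¹ * κ b *
            (rho X W (y * y * y) * rho X W (y * y)⁻¹)
          = rho X W (y * y) * (rho X W (y * y * y)⁻¹ * κ b) *
            (rho X W (y * y * y) * rho X W (y * y)⁻¹) := by simp only [mul_assoc]
        _ = rho X W (y * y) * κ (τ b) * (rho X W (y * y * y)⁻¹ * rho X W (y * y * y)) *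
            rho X W (y * y)⁻¹ := by rw [h2]; simp only [mul_assoc]
        _ = _ := by rw [XC.rho_inv_mul, mul_one]
    have h3 : rho X W (y * y) * κ (τ b) * rho X W (y * y)⁻¹ =
        rho X W y * (rho X W y * κ (τ b) * rho X W y⁻¹) * rho X W y⁻¹ := by
      rw [mul_inv_rev, map_mul, map_mul]; simp only [mul_assoc]
    rw [h1, h3, ← hcm, ← hcm, kk' a (τ b)]
  obtain ⟨r, hr, e, hee, e2, ek, ek', ef, te⟩ := exists_e' C hyt (Or.inr h) kk' hω
  obtain ⟨r', hr', e', hee', e2', ek2, ek2', ef', te'⟩ := exists_e' (swap C hω) (y := y⁻¹)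
    (by rw [hzt, ← mul_assoc, C.tt, one_mul]) (Or.inr hztf) kz hω
  -- `e` and `e'` commute
  have hcomm : e * e' = e' * e := by
    rw [hee']
    have a1 : e * (rho X W y⁻¹ * κ ω * rho X W y⁻¹⁻¹) =
        (rho X W y⁻¹ * κ ω * rho X W y⁻¹⁻¹) * e := by
      rw [hee, add_mul, add_mul, mul_add, mul_add, kz, kz, kyz]
    rw [mul_add, mul_add, add_mul, add_mul, ek, ek, a1]
  -- `f e' = (e' + 1) f`
  have hfe' : rho X W f * e' = (e' + 1) * rho X W f := by
    have a1 : rho X W f = rho X W t * rho X W (t * f) := by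
      rw [← map_mul, ← mul_assoc, C.tt, one_mul]
    rw [a1, mul_assoc, ← ef', ← mul_assoc, te', mul_assoc]
  obtain ⟨l, hl0, hl, hline⟩ := line C e2 ek te
  have hE : ∀ w, e (e' w) = e' (e w) := fun w => DFunLike.congr_fun hcomm w
  obtain ⟨a, ha⟩ := hline (e' l) (by rw [hE, hl])
  have hE2 : ∀ w, e' (e' w) = e' w := fun w => DFunLike.congr_fun e2' w
  have hEk : ∀ b w, e' (κ b w) = κ b (e' w) := fun b w => DFunLike.congr_fun (ek2 b) w
  have haa : a * a = a := by
    have h1 := hE2 l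
    rw [ha, hEk, ha, ← XC.k_mul] at h1
    exact FFour.kappa_uniq κ hl0 h1
  have hσa : σ a = a := by
    have h1 : a * (a - 1) = 0 := by linear_combination haa
    rcases mul_eq_zero.1 h1 with h0 | h0
    · rw [h0, map_zero]
    · rw [sub_eq_zero.1 h0, map_one]
  have hfl : e (f • l) = f • l := by
    have h1 : e (f • l) = f • e l := DFunLike.congr_fun ef l
    rw [h1, hl]
  obtain ⟨b, hb⟩ := hline (f • l) hfl
  have h1 : f • e' l = e' (f • l) + f • l := DFunLike.congr_fun hfe' l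
  rw [ha, C.f_smul_kappa, hσa, hb, hEk, ha, ← XC.k_mul, ← XC.k_mul, mul_comm a b] at h1
  have h2 : κ b l = 0 := by
    have h3 : κ (b * a) l + 0 = κ (b * a) l + κ b l := by rw [add_zero]; exact h1
    exact (add_left_cancel h3).symm
  rw [← hb, smul_eq_zero_iff_eq] at h2
  exact hl0 h2

/-- **MAIN**: helper111's input -/
theorem exists_YC (C : XC κ d σ t f w₁) {y : X} (hyt : y * t * y⁻¹ = t * f)
    (tori : ∀ y : X, y * t * y⁻¹ = t * f → (y * f * y⁻¹ = f ∨ y * f * y⁻¹ = t) →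
      ∀ a b, κ a * (rho X W y * κ b * rho X W y⁻¹) = rho X W y * κ b * rho X W y⁻¹ * κ a) :
    ∃ (y' : X) (e : AddMonoid.End W), YC κ t f y' e := by
  obtain ⟨y', h1, h2, _⟩ := exists_norm C hyt
  have kk' := tori y' h1 h2
  have h3 : y' * f * y'⁻¹ = f := by
    rcases h2 with h | h
    · exact h
    · exact (yf C h1 kk' h).elim
  obtain ⟨e, e2, ek, ek', ef, te⟩ := exists_e C h1 h2 kk'
  exact ⟨y', e, h1, h3, e2, ek, ek', kk', ef, te⟩

end Cfsg.Agent.StdL2.FIdem
end

-- part: StdL2/FieldMain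
section
/-!
# S1773, case (f): the field case

`fieldStmt : Gold → FieldStmt`.
-/

set_option autoImplicit false

open Subgroup

namespace Cfsg.Agent.StdL2.FieldMain

open Cfsg.Agent.StdL2.FieldStart Cfsg.Agent.StdL2.FT Cfsg.Agent.StdL2.FWreath
open Cfsg.Agent.StdL2.F Cfsg.Agent.StdL2.FFour

universe u v

/-- the tori commute (helper806) -/
def Tori : Prop :=
  ∀ (X W F : Type u) [Group X] [Finite X] [AddCommGroup W]
    [DistribMulAction X W] [Field F] [Finite F] (κ : F →+* AddMonoid.End W)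
    (δ : Fˣ →* X) (σ : F ≃+* F) (t f : X) (w₁ : W), XC κ δ σ t f w₁ →
    ∀ y : X, y * t * y⁻¹ = t * f → (y * f * y⁻¹ = f ∨ y * f * y⁻¹ = t) →
      ∀ a b, κ a * (XC.rho X W y * κ b * XC.rho X W y⁻¹) =
        XC.rho X W y * κ b * XC.rho X W y⁻¹ * κ a

theorem xside (h : Tori.{u}) : XSide.{u} := by
  intro X W' F' i1 i2 i3 i4 i5 i6 κ δ σ t f w₁ C hy
  obtain ⟨y, hyt⟩ := hy
  exact FIdem.exists_YC C hyt (h X W' F' κ δ σ t f w₁ C)

/-- **Case (f)**: `Conf`, `FTD`, `Tor`, `FOut` give a contradiction. -/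
theorem false_of_fout {G : Type u} [Group G] [Finite G] (gold : StdSz.EndClosed.Gold.{u})
    (hT : Tori.{u}) {L A : Subgroup G} {t d : G} {V T C₀ U : Subgroup G}
    (C : Setup.Conf L A t) (H : FTD t V T C₀) (T0 : Cfsg.Agent.StdL2.Tor t V d)
    (O : FOut t V T d U) : False := by
  obtain ⟨S, V1, V2, W, hTS, hS⟩ := wreath (xside hT) H T0 O
  exact FEnd.false_of_wr gold C H O W hTS hS

/-- the tori commute -/
theorem tori : Tori.{u} := by
  intro X W F _ _ _ _ _ _ κ δ σ t f w₁ C y hyt hyf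
  exact C.commute_tori hyt hyf

/-- **The field case of S1773.** -/
theorem fieldStmt (gold : StdSz.EndClosed.Gold.{u}) : FrameFT.FieldStmt.{u, v} := by
  intro F _ _ _ G _ _ L A T U t d π C B _ H _ T0 O
  exact false_of_fout gold tori C H T0 O

end Cfsg.Agent.StdL2.FieldMain
end
end
end
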